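import Cfsg.Agent.Lib.Recog.JankoThompson.CharsCount
import Cfsg.Agent.Lib.CharDegree.Counting

/-!
Owner: helper22. Groups of Janko–Thompson type: the pair counts of involutions behind the structure equations.
-/

set_option autoImplicit false
set_option linter.all false

namespace CfsgLib.Recog.JankoThompson

open Subgroup CfsgLib.Char

theorem mul_self_of_two {H : Type*} [Group H] {i : H} (hi : orderOf i = 2) : i * i = 1 := by
  rw [← pow_two, ← hi, pow_orderOf_eq_one]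

theorem inv_of_two {H : Type*} [Group H] {i : H} (hi : orderOf i = 2) : i⁻¹ = i :=
  inv_eq_of_mul_eq_one_right (mul_self_of_two hi)

theorem orderOf_two {H : Type*} [Group H] {i : H} (h : i * i = 1) (h1 : i ≠ 1) : orderOf i = 2 :=
  orderOf_eq_prime (by rw [pow_two, h]) h1

/-- for a non-involution `z`: the involutions `i` with `i z⁻¹` an involution are the inverters -/
theorem pair_iff {H : Type*} [Group H] {i z : H} (hi : orderOf i = 2) (hz : z * z ≠ 1) :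
    orderOf (i⁻¹ * z⁻¹) = 2 ↔ i * z * i⁻¹ = z⁻¹ := by
  constructor
  · intro h
    have h2 := inv_of_two h
    rw [mul_inv_rev, inv_inv, inv_inv, inv_of_two hi] at h2
    rw [inv_of_two hi, mul_assoc, h2, ← mul_assoc, mul_self_of_two hi, one_mul]
  · intro h
    refine orderOf_two ?_ ?_
    · calc i⁻¹ * z⁻¹ * (i⁻¹ * z⁻¹) = i⁻¹ * z⁻¹ * i⁻¹ * z⁻¹ := by group
        _ = i⁻¹ * (i * z * i⁻¹) * i⁻¹ * z⁻¹ := by rw [h]
        _ = z * (i * i)⁻¹ * z⁻¹ := by group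
        _ = 1 := by rw [mul_self_of_two hi, inv_one, mul_one, mul_inv_cancel]
    · intro h1
      have : i⁻¹ = z := by rw [← mul_left_inj z⁻¹, h1, mul_inv_cancel]
      exact hz (by rw [← this, inv_of_two hi, mul_self_of_two hi])

variable {G : Type*} [Group G] {Fq : Type*} [Field Fq] [Fintype Fq]

namespace Ctx

variable (c : Ctx G Fq)

/-- the involutions `i` with `i⁻¹ z⁻¹` an involution -/
noncomputable def pairs (_ : Ctx G Fq) (z : G) : ℕ :=
  Nat.card {i : G // orderOf i = 2 ∧ orderOf (i⁻¹ * z⁻¹) = 2}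

theorem card_conj_t [Finite G] {i : G} (hi : orderOf i = 2) :
    Nat.card {x : G // x * c.t * x⁻¹ = i} = Nat.card (centralizer ({c.t} : Set G)) := by
  obtain ⟨g₀, hg₀⟩ := isConj_iff.1 (c.one_class i hi)
  refine (Nat.card_congr ?_).symm
  refine
    { toFun := fun z => ⟨g₀ * z, ?_⟩
      invFun := fun z => ⟨g₀⁻¹ * (z : G), ?_⟩
      left_inv := fun z => by simp
      right_inv := fun z => by simp }
  · have hz := mem_centralizer_singleton_iff.1 z.2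
    calc g₀ * (z : G) * c.t * (g₀ * z)⁻¹ = g₀ * ((z : G) * c.t) * (z : G)⁻¹ * g₀⁻¹ := by group
      _ = g₀ * (c.t * z) * (z : G)⁻¹ * g₀⁻¹ := by rw [hz]
      _ = g₀ * c.t * g₀⁻¹ := by group
      _ = i := hg₀
  · refine mem_centralizer_singleton_iff.2 ?_
    calc g₀⁻¹ * (z : G) * c.t = g₀⁻¹ * ((z : G) * c.t * (z : G)⁻¹) * z := by group
      _ = g₀⁻¹ * (g₀ * c.t * g₀⁻¹) * z := by rw [z.2, hg₀]
      _ = _ := by group

open scoped _root_.Classical in
/-- the structure constants of two involutions -/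
theorem pair_sum [Fintype G] [Fintype (Cfsg.IrrCharacter G)] (z : G) :
    (Nat.card G : ℂ) * ∑ χ : Cfsg.IrrCharacter G, (χ : G → ℂ) c.t * (χ : G → ℂ) c.t * (χ : G → ℂ) z /
        (χ : G → ℂ) 1 =
      (Nat.card (centralizer ({c.t} : Set G)) : ℂ) ^ 2 * c.pairs z := by
  rw [CharDegree.sum_three]
  let I := {i : G // orderOf i = 2 ∧ orderOf (i⁻¹ * z⁻¹) = 2}
  have hord : ∀ x : G, orderOf (x * c.t * x⁻¹) = 2 := fun x =>
    ((MulAut.conj x).orderOf_eq c.t).trans c.ht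
  have hj : ∀ p : G × G, p.1 * c.t * p.1⁻¹ * (p.2 * c.t * p.2⁻¹ * z) = 1 →
      p.2 * c.t * p.2⁻¹ = (p.1 * c.t * p.1⁻¹)⁻¹ * z⁻¹ := fun p hp => by
    rw [eq_mul_inv_iff_mul_eq]; exact (inv_eq_of_mul_eq_one_right hp).symm
  let e : {p : G × G // p.1 * c.t * p.1⁻¹ * (p.2 * c.t * p.2⁻¹ * z) = 1} ≃
      Σ i : I, {x : G // x * c.t * x⁻¹ = i.1} × {y : G // y * c.t * y⁻¹ = i.1⁻¹ * z⁻¹} :=
    { toFun := fun p => ⟨⟨p.1.1 * c.t * p.1.1⁻¹, hord _, hj p.1 p.2 ▸ hord _⟩,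
        ⟨⟨p.1.1, rfl⟩, ⟨p.1.2, hj p.1 p.2⟩⟩⟩
      invFun := fun q => ⟨(q.2.1.1, q.2.2.1), by
        show q.2.1.1 * c.t * q.2.1.1⁻¹ * (q.2.2.1 * c.t * q.2.2.1⁻¹ * z) = 1
        rw [q.2.1.2, q.2.2.2]; group⟩
      left_inv := fun p => rfl
      right_inv := by
        rintro ⟨⟨i, hi⟩, ⟨x, hx⟩, ⟨y, hy⟩⟩
        obtain rfl : x * c.t * x⁻¹ = i := hx
        rfl }
  rw [Nat.card_congr e, Nat.card_sigma,
    Finset.sum_const_nat (m := Nat.card (centralizer ({c.t} : Set G)) * Nat.card (centralizer ({c.t} : Set G)))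
      fun i _ => by rw [Nat.card_prod, c.card_conj_t i.2.1, c.card_conj_t i.2.2],
    Finset.card_univ, pairs, Nat.card_eq_fintype_card (α := I)]
  push_cast
  ring

theorem t_ι (k : P2 Fq) : c.ι k * c.t = c.t * c.ι k := (c.hC _).2 (Or.inl ⟨k, rfl⟩)

theorem t_ι_mul (k l : P2 Fq) : c.t * c.ι k * (c.t * c.ι l) = c.ι (k * l) := by
  rw [mul_assoc c.t, ← mul_assoc (c.ι k), c.t_ι, mul_assoc c.t (c.ι k), ← mul_assoc c.t c.t, c.tt, one_mul, map_mul]

theorem t_ι_ne (k : P2 Fq) : c.t * c.ι k ≠ 1 := fun h =>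
  c.tnot ⟨k⁻¹, by rw [map_inv]; exact (eq_inv_of_mul_eq_one_left h).symm⟩

theorem ι_ne_t_ι (k l : P2 Fq) : c.ι k ≠ c.t * c.ι l := fun h =>
  c.tnot ⟨k * l⁻¹, by rw [map_mul, map_inv, h, mul_inv_cancel_right]⟩

theorem orderOf_t_ι {k : P2 Fq} (hk : k * k = 1) : orderOf (c.t * c.ι k) = 2 :=
  orderOf_two (by rw [c.t_ι_mul, hk, map_one]) (c.t_ι_ne k)

theorem orderOf_ι (k : P2 Fq) : orderOf (c.ι k) = orderOf k := orderOf_injective c.ι c.inj k

/-- the involutions commuting with `t` -/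
theorem invol_cases {i : G} (hi : orderOf i = 2) (h : i * c.t = c.t * i) :
    (∃ k, orderOf k = 2 ∧ i = c.ι k) ∨ (∃ k, k * k = 1 ∧ i = c.t * c.ι k) := by
  rcases (c.hC i).1 h with ⟨k, rfl⟩ | ⟨k, hk⟩
  · exact Or.inl ⟨k, (c.orderOf_ι k).symm.trans hi, rfl⟩
  · have hik : i = c.t * c.ι k := by rw [hk, ← mul_assoc, c.tt, one_mul]
    refine Or.inr ⟨k, c.inj ?_, hik⟩
    rw [map_one, ← c.t_ι_mul, ← hik, mul_self_of_two hi]

/-- the count behind `χ(t)` -/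
theorem pairs_t [Finite G] {p : ℕ} (T : Tori Fq c.w p c.e c.f) : c.pairs c.t = 2 * c.q * c.f := by
  let f : Bool × {k : P2 Fq // orderOf k = 2} → {i : G // orderOf i = 2 ∧ orderOf (i⁻¹ * c.t⁻¹) = 2} := fun a =>
    ⟨(bif a.1 then c.t else 1) * c.ι a.2.1, by
      obtain ⟨b, k, hk⟩ := a
      rw [inv_of_two c.ht]
      cases b
      · simp only [cond_false, one_mul]
        refine ⟨(c.orderOf_ι k).trans hk, ?_⟩
        rw [← map_inv, inv_of_two hk, c.t_ι]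
        exact c.orderOf_t_ι (mul_self_of_two hk)
      · simp only [cond_true]
        refine ⟨c.orderOf_t_ι (mul_self_of_two hk), ?_⟩
        rw [inv_of_two (c.orderOf_t_ι (mul_self_of_two hk)), mul_assoc, c.t_ι, ← mul_assoc, c.tt, one_mul]
        exact (c.orderOf_ι k).trans hk⟩
  rw [pairs, ← Nat.card_eq_of_bijective f ?_, Nat.card_prod, Nat.card_eq_fintype_card (α := Bool), Fintype.card_bool,
    T.inv_count, show c.q = Fintype.card Fq from rfl]
  · ring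
  refine ⟨?_, ?_⟩
  · rintro ⟨b, k, hk⟩ ⟨b', k', hk'⟩ h
    have h' := congrArg Subtype.val h
    simp only [f] at h'
    cases b <;> cases b' <;> simp only [cond_true, cond_false, one_mul] at h'
    · exact Prod.ext rfl (Subtype.ext (c.inj h'))
    · exact absurd h' (c.ι_ne_t_ι _ _)
    · exact absurd h'.symm (c.ι_ne_t_ι _ _)
    · exact Prod.ext rfl (Subtype.ext (c.inj (mul_left_cancel h')))
  · rintro ⟨i, hi, hi2⟩
    have hcomm : i * c.t = c.t * i := by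
      have h2 := inv_of_two hi2
      rw [mul_inv_rev, inv_inv, inv_inv, inv_of_two hi, inv_of_two c.ht] at h2
      exact h2.symm
    rcases c.invol_cases hi hcomm with ⟨k, hk, rfl⟩ | ⟨k, hk, rfl⟩
    · exact ⟨(false, ⟨k, hk⟩), Subtype.ext (one_mul _)⟩
    · refine ⟨(true, ⟨k, orderOf_two hk ?_⟩), rfl⟩
      rintro rfl
      rw [map_one, mul_one, inv_of_two c.ht, c.tt, orderOf_one] at hi2
      norm_num at hi2

theorem sq_ne {k : P2 Fq} (hk : Odd (orderOf k)) (hk1 : k ≠ 1) : k * k ≠ 1 := fun h =>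
  hk1 (orderOf_eq_one_iff.1 (Nat.eq_one_of_dvd_coprimes (Nat.coprime_two_left.2 hk)
    (orderOf_dvd_of_pow_eq_one (by rw [pow_two, h])) dvd_rfl))

/-- the count behind `χ(t k)`, `k` of odd order -/
theorem pairs_t_mul [Finite G] {k : P2 Fq} (hk : Odd (orderOf k)) (hk1 : k ≠ 1) :
    c.pairs (c.t * c.ι k) = 2 * Nat.card {i : P2 Fq // orderOf i = 2 ∧ i * k * i⁻¹ = k⁻¹} := by
  set z := c.t * c.ι k with hz
  have hzz : z * z ≠ 1 := fun h => sq_ne hk hk1 (c.inj (by rw [map_one, ← c.t_ι_mul, ← hz, h]))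
  have hzinv : z⁻¹ = c.t * c.ι k⁻¹ := inv_eq_of_mul_eq_one_right (by rw [hz, c.t_ι_mul, mul_inv_cancel, map_one])
  have hconjι : ∀ m : P2 Fq, c.ι m * z * (c.ι m)⁻¹ = c.t * c.ι (m * k * m⁻¹) := fun m => by
    rw [hz, ← mul_assoc (c.ι m), c.t_ι, map_mul, map_mul, map_inv]; group
  have hzt : z * c.t = c.t * z := by rw [hz, mul_assoc, c.t_ι]
  have hconjt : ∀ m : P2 Fq, c.t * c.ι m * z * (c.t * c.ι m)⁻¹ = c.t * c.ι (m * k * m⁻¹) := fun m => by
    rw [show c.t * c.ι m * z * (c.t * c.ι m)⁻¹ = c.t * (c.ι m * z * (c.ι m)⁻¹) * c.t⁻¹ by group, hconjι,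
      mul_inv_eq_iff_eq_mul, mul_assoc c.t (c.ι (m * k * m⁻¹)) c.t, c.t_ι]
  let f : Bool × {i : P2 Fq // orderOf i = 2 ∧ i * k * i⁻¹ = k⁻¹} →
      {i : G // orderOf i = 2 ∧ orderOf (i⁻¹ * z⁻¹) = 2} := fun a =>
    ⟨(bif a.1 then c.t else 1) * c.ι a.2.1, by
      obtain ⟨b, m, hm, hmk⟩ := a
      cases b
      · simp only [cond_false, one_mul]
        refine ⟨(c.orderOf_ι m).trans hm, (pair_iff ((c.orderOf_ι m).trans hm) hzz).2 ?_⟩
        rw [hconjι, hmk, hzinv]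
      · simp only [cond_true]
        refine ⟨c.orderOf_t_ι (mul_self_of_two hm), (pair_iff (c.orderOf_t_ι (mul_self_of_two hm)) hzz).2 ?_⟩
        rw [hconjt, hmk, hzinv]⟩
  rw [pairs, ← Nat.card_eq_of_bijective f ?_, Nat.card_prod, Nat.card_eq_fintype_card (α := Bool), Fintype.card_bool]
  refine ⟨?_, ?_⟩
  · rintro ⟨b, m, hm⟩ ⟨b', m', hm'⟩ h
    have h' := congrArg Subtype.val h
    simp only [f] at h'
    cases b <;> cases b' <;> simp only [cond_true, cond_false, one_mul] at h'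
    · exact Prod.ext rfl (Subtype.ext (c.inj h'))
    · exact absurd h' (c.ι_ne_t_ι _ _)
    · exact absurd h'.symm (c.ι_ne_t_ι _ _)
    · exact Prod.ext rfl (Subtype.ext (c.inj (mul_left_cancel h')))
  · rintro ⟨i, hi, hi2⟩
    have hconj := (pair_iff hi hzz).1 hi2
    have hpow : z ^ orderOf k = c.t := by
      obtain ⟨n, hn⟩ := hk
      rw [hz, (show Commute c.t (c.ι k) from (c.t_ι k).symm).mul_pow, ← map_pow, pow_orderOf_eq_one, map_one,
        mul_one, hn, pow_succ, pow_mul, pow_two, c.tt, one_pow, one_mul]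
    have hit : i * c.t = c.t * i := by
      have e := congrArg (· ^ orderOf k) hconj
      simp only [conj_pow] at e
      rw [inv_pow, hpow, inv_of_two c.ht] at e
      exact mul_inv_eq_iff_eq_mul.1 e
    rcases c.invol_cases hi hit with ⟨m, hm, rfl⟩ | ⟨m, hm, rfl⟩
    · rw [hconjι, hzinv] at hconj
      exact ⟨(false, ⟨m, hm, c.inj (mul_left_cancel hconj)⟩), Subtype.ext (one_mul _)⟩
    · rw [hconjt, hzinv] at hconj
      have hmk := c.inj (mul_left_cancel hconj)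
      refine ⟨(true, ⟨m, orderOf_two hm ?_, hmk⟩), rfl⟩
      rintro rfl
      rw [one_mul, inv_one, mul_one] at hmk
      exact sq_ne hk hk1 (eq_inv_iff_mul_eq_one.1 hmk)

variable {p : ℕ} (T : Tori Fq c.w p c.e c.f)

theorem pairs_t_R [Finite G] {k : P2 Fq} (hk : k ∈ T.R) (hk1 : k ≠ 1) : c.pairs (c.t * c.ι k) = 4 * c.e := by
  rw [c.pairs_t_mul ((T.mem_R k).1 hk).1 hk1, T.inv_R k hk hk1]; ring

theorem odd_of_mem_T {k : P2 Fq} (hk : k ∈ T.T) : Odd (orderOf k) :=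
  c.f_odd.of_dvd_nat (T.card_T ▸ Subgroup.orderOf_dvd_natCard _ hk)

theorem odd_of_mem_U {k : P2 Fq} (hk : k ∈ T.U) : Odd (orderOf k) := by
  have hq : Odd (Fintype.card Fq) := by
    rw [Nat.odd_iff]
    have := c.hq
    omega
  exact hq.of_dvd_nat (T.card_U ▸ Subgroup.orderOf_dvd_natCard _ hk)

theorem pairs_t_T [Finite G] {k : P2 Fq} (hk : k ∈ T.T) (hk1 : k ≠ 1) : c.pairs (c.t * c.ι k) = 2 * c.f := by
  rw [c.pairs_t_mul (c.odd_of_mem_T T hk) hk1, T.inv_T k hk hk1]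

theorem pairs_t_U [Finite G] {k : P2 Fq} (hk : k ∈ T.U) (hk1 : k ≠ 1) :
    c.pairs (c.t * c.ι k) = if c.q % 4 = 1 then 2 * c.q else 0 := by
  rw [c.pairs_t_mul (c.odd_of_mem_U T hk) hk1, T.inv_U k hk hk1]
  simp only [q]
  rw [mul_ite, mul_zero]
  congr 1

/-- the count behind `χ(r)`: the inverters of `r` are `x (D × R)` -/
theorem pairs_R [Finite G] {k : P2 Fq} (hk : k ∈ T.R) (hk1 : k ≠ 1) : c.pairs (c.ι k) = 4 * c.e := by
  set z := c.ι k with hz
  have hkR := (T.mem_R k).1 hk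
  have hzR : z ∈ c.Rg T := ⟨k, hk, rfl⟩
  have hzz : z * z ≠ 1 := fun h => sq_ne hkR.1 hk1 (c.inj (by rw [map_mul, ← hz, h, map_one]))
  have hxd : ∀ d ∈ c.Dg, Commute c.x d := by
    rintro d (rfl | rfl | rfl | rfl)
    exacts [Commute.one_right _, c.x_t, c.x_w, (show Commute c.x c.t from c.x_t).mul_right c.x_w]
  have hxa : ∀ d ∈ c.Dg, ∀ a ∈ c.Rg T, c.x * (d * a) * (c.x * (d * a)) = 1 := by
    intro d hd a ha
    calc c.x * (d * a) * (c.x * (d * a)) = c.x * (d * a) * c.x⁻¹ * (c.x * c.x) * (d * a) := by group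
      _ = (c.x * d * c.x⁻¹) * (c.x * a * c.x⁻¹) * (d * a) := by rw [c.x_sq]; group
      _ = d * (a⁻¹ * d) * a := by rw [(hxd d hd).eq, mul_inv_cancel_right, c.x_Rg T ha]; group
      _ = d * d := by rw [c.Rg_Dg T (inv_mem ha) hd]; group
      _ = 1 := c.Dg_sq hd
  have hxz : c.x * z * c.x⁻¹ = z⁻¹ := c.x_Rg T hzR
  let f : c.Dg × c.Rg T → {i : G // orderOf i = 2 ∧ orderOf (i⁻¹ * z⁻¹) = 2} := fun a =>
    ⟨c.x * ((a.1 : G) * a.2), by
      obtain ⟨⟨d, hd⟩, ⟨r, hr⟩⟩ := a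
      have hc : (d * r) * z = z * (d * r) := ((show Commute d z from (c.Rg_Dg T hzR hd).symm).mul_left (c.Rg_comm T hr hzR)).eq
      have hinv : c.x * (d * r) * z * (c.x * (d * r))⁻¹ = z⁻¹ := by
        rw [show c.x * (d * r) * z * (c.x * (d * r))⁻¹ = c.x * ((d * r) * z * (d * r)⁻¹) * c.x⁻¹ by group, hc,
          mul_inv_cancel_right, hxz]
      have h2 : orderOf (c.x * (d * r)) = 2 := by
        refine orderOf_two (hxa d hd r hr) fun h => hzz ?_
        simp only [h, one_mul, inv_one, mul_one] at hinv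
        exact mul_eq_one_iff_eq_inv.2 hinv
      exact ⟨h2, (pair_iff h2 hzz).2 hinv⟩⟩
  rw [pairs, ← Nat.card_eq_of_bijective f ?_, Nat.card_prod, c.Dg_card, c.card_Rg T]
  refine ⟨?_, ?_⟩
  · rintro ⟨⟨d, hd⟩, ⟨a, ha⟩⟩ ⟨⟨d', hd'⟩, ⟨a', ha'⟩⟩ h
    have h' : d * a = d' * a' := mul_left_cancel (congrArg Subtype.val h)
    have hmem : d'⁻¹ * d ∈ c.Rg T := by
      rw [show d'⁻¹ * d = a' * a⁻¹ by rw [eq_mul_inv_iff_mul_eq, mul_assoc, h', inv_mul_cancel_left]]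
      exact mul_mem ha' (inv_mem ha)
    have h1 : d'⁻¹ * d = 1 := orderOf_eq_one_iff.1 (Nat.eq_one_of_dvd_coprimes
      (Nat.coprime_two_left.2 ((c.mem_Rg T).1 hmem).1)
      (orderOf_dvd_of_pow_eq_one (by rw [pow_two]; exact c.Dg_sq (mul_mem (inv_mem hd') hd))) dvd_rfl)
    obtain rfl : d' = d := inv_mul_eq_one.1 h1
    exact Prod.ext rfl (Subtype.ext (mul_left_cancel h'))
  · rintro ⟨i, hi, hi2⟩
    have hconj := (pair_iff hi hzz).1 hi2
    have hcz : (c.x * i) * z = z * (c.x * i) := by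
      rw [← mul_inv_eq_iff_eq_mul, show c.x * i * z * (c.x * i)⁻¹ = c.x * (i * z * i⁻¹) * c.x⁻¹ by group, hconj,
        c.x_Rg T (inv_mem hzR), inv_inv]
    obtain ⟨r', hr', h⟩ := c.smallCentralizer T k hkR hk1 (c.x * i) hcz
    have hr : c.ι r' ∈ c.Rg T := ⟨r', (T.mem_R r').2 hr', rfl⟩
    obtain ⟨d, hd, hdi⟩ : ∃ d ∈ c.Dg, c.x * i = d * c.ι r' := by
      rcases h with h | h | h | h
      · exact ⟨1, one_mem _, by rw [h, one_mul]⟩
      · exact ⟨c.t, c.t_mem_Dg, h⟩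
      · exact ⟨c.ι c.w, c.w_mem_Dg, by rw [h, map_mul]⟩
      · exact ⟨c.t * c.ι c.w, mul_mem c.t_mem_Dg c.w_mem_Dg, by rw [h, map_mul, mul_assoc]⟩
    refine ⟨(⟨d, hd⟩, ⟨c.ι r', hr⟩), Subtype.ext ?_⟩
    show c.x * (d * c.ι r') = i
    rw [← hdi, ← mul_assoc, c.x_sq, one_mul]

end Ctx

end CfsgLib.Recog.JankoThompson
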