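import Cfsg.Agent.Lib.Recog.JankoThompson.CharsAssemble
import Cfsg.Agent.Lib.Recog.JankoThompson.CharsPairs

/-!
Owner: helper22. Groups of Janko–Thompson type: the columns exist.
-/

set_option autoImplicit false
set_option linter.all false

namespace CfsgLib.Recog.JankoThompson

universe u v

variable {G : Type u} [Group G] {Fq : Type v} [Field Fq] [Fintype Fq]

namespace Ctx

variable (c : Ctx G Fq) {p : ℕ} (T : Tori Fq c.w p c.e c.f)
  [Fintype G] [Fintype (Cfsg.IrrCharacter G)]

theorem weight_pairs (z : G) :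
    c.weight (fun χ => (χ : G → ℂ) z) = ((8 * c.e * c.f * c.q : ℕ) : ℂ) ^ 2 * c.pairs z := by
  rw [weight, c.pair_sum, c.card_Ct]

omit [Fintype (Cfsg.IrrCharacter G)] in
theorem pairVals : c.PairVals T c.pairs :=
  ⟨c.pairs_t T, fun k hk h1 => c.pairs_t_R T hk h1, fun k hk h1 => c.pairs_R T hk h1,
    fun k hk h1 => c.pairs_t_T T hk h1, fun k hk h1 => c.pairs_t_U T hk h1⟩

include T in
/-- section 2 of the note -/
theorem exists_cols : ∃ (L J : Type v) (_ : Fintype L) (_ : Fintype J) (K : Cols (Cfsg.IrrCharacter G) L J),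
    K.q = Fintype.card Fq ∧ K.N = Nat.card G := by
  exact c.exists_cols_of T (c.pairVals T) c.weight_pairs

end Ctx

end CfsgLib.Recog.JankoThompson
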