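import Mathlib
import Cfsg.Agent.Lib.Core.Coprime

/-!
# Fixed points of a coprime dihedral group

For automorphisms `r`, `x` generating a dihedral group of order `2l`, `l` odd, of a `p`-group `P` with
`p ∤ 2l`: `|P| |C(r, x)|² = |C(x)|² |C(r)|`.
-/

set_option autoImplicit false

namespace CfsgLib.Recog.JankoThompson

open Subgroup

universe u

/-- The fixed points of an automorphism. -/
def autFix {P : Type u} [Group P] (f : MulAut P) : Subgroup P := f.toMonoidHom.eqLocus (MonoidHom.id P)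

theorem mem_autFix {P : Type u} [Group P] {f : MulAut P} {v : P} : v ∈ autFix f ↔ f v = v := Iff.rfl

section Abelian

variable {V : Type u} [CommGroup V]

/-- The elements inverted by an automorphism. -/
def autInv (f : MulAut V) : Subgroup V := f.toMonoidHom.eqLocus (invMonoidHom : V →* V)

theorem mem_autInv {f : MulAut V} {v : V} : v ∈ autInv f ↔ f v = v⁻¹ := Iff.rfl

theorem comm_card_sup [Finite V] (A B : Subgroup V) :
    Nat.card ↥(A ⊔ B) * Nat.card ↥(A ⊓ B) = Nat.card A * Nat.card B :=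
  CfsgLib.Core.card_sup_mul_card_inf A B (by rw [normalizer_eq_top_iff.2 inferInstance]; exact le_top)

theorem eq_one_of_sq [Finite V] (hV : Odd (Nat.card V)) {v : V} (h : v * v = 1) : v = 1 :=
  orderOf_eq_one_iff.1 (Nat.eq_one_of_dvd_coprimes (Nat.coprime_two_left.2 hV)
    (orderOf_dvd_of_pow_eq_one (by rw [pow_two]; exact h)) (orderOf_dvd_natCard v))

theorem card_split [Finite V] (hV : Odd (Nat.card V)) {x : MulAut V} (hx : ∀ v, x (x v) = v)
    (T : Subgroup V) (hT : ∀ v ∈ T, x v ∈ T) :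
    Nat.card ↥(T ⊓ autFix x) * Nat.card ↥(T ⊓ autInv x) = Nat.card T := by
  have hbot : T ⊓ autFix x ⊓ (T ⊓ autInv x) = ⊥ := by
    refine (eq_bot_iff_forall _).2 fun v hv => eq_one_of_sq hV ?_
    have h1 : x v = v := hv.1.2
    have h2 : x v = v⁻¹ := hv.2.2
    rw [h1] at h2
    nth_rewrite 2 [h2]
    rw [mul_inv_cancel]
  have hsup : T ⊓ autFix x ⊔ T ⊓ autInv x = T := by
    refine le_antisymm (sup_le inf_le_left inf_le_left) fun v hv => ?_
    obtain ⟨k, hk⟩ := hV
    have h2 : (v ^ (k + 1)) * (v ^ (k + 1)) = v := by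
      have h := pow_card_eq_one' (G := V) (x := v)
      rw [hk] at h
      rw [← pow_add, show k + 1 + (k + 1) = 2 * k + 1 + 1 by ring, pow_succ, h, one_mul]
    set u := v ^ (k + 1) with hu
    have huT : u ∈ T := pow_mem hv _
    have hd : v = (u * x u) * (u * (x u)⁻¹) := by
      rw [mul_mul_mul_comm, mul_inv_cancel, mul_one]; exact h2.symm
    rw [hd]
    refine mul_mem (mem_sup_left ⟨T.mul_mem huT (hT _ huT), ?_⟩)
      (mem_sup_right ⟨T.mul_mem huT (T.inv_mem (hT _ huT)), ?_⟩)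
    · show x (u * x u) = u * x u
      rw [map_mul, hx, mul_comm]
    · show x (u * (x u)⁻¹) = (u * (x u)⁻¹)⁻¹
      rw [map_mul, map_inv, hx, mul_inv, inv_inv, mul_comm]
  have h := comm_card_sup (T ⊓ autFix x) (T ⊓ autInv x)
  rw [hbot, card_bot, mul_one, hsup] at h
  exact h.symm

variable {r x : MulAut V} {l : ℕ}

theorem pow_flip (hinv : ∀ v, r (x (r v)) = x v) (n : ℕ) (v : V) : (r ^ n) (x ((r ^ n) v)) = x v := by
  induction n generalizing v with
  | zero => simp
  | succ n ih =>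
    rw [show (r ^ (n + 1)) v = (r ^ n) (r v) by rw [pow_succ]; rfl]
    rw [show ∀ w, (r ^ (n + 1)) w = r ((r ^ n) w) from fun w => by rw [pow_succ']; rfl]
    rw [ih, hinv]

theorem pow_succ_apply (k : ℕ) (v : V) : (r ^ (k + 1)) v = r ((r ^ k) v) := by rw [pow_succ']; rfl

theorem pow_comm_x (hr : r ^ l = 1) (hinv : ∀ v, r (x (r v)) = x v) {i : ℕ} (hi : i ≤ l) (v : V) :
    x ((r ^ i) v) = (r ^ (l - i)) (x v) := by
  conv_rhs => rw [← pow_flip hinv i v, ← MulAut.mul_apply, ← pow_add, Nat.sub_add_cancel hi, hr]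
  rfl

/-- The product over the orbit of an element. -/
def orbitProd (r : MulAut V) (l : ℕ) : V →* V where
  toFun v := ∏ i ∈ Finset.range l, (r ^ i) v
  map_one' := by simp
  map_mul' a b := by simp [Finset.prod_mul_distrib]

theorem orbitProd_apply (v : V) : orbitProd r l v = ∏ i ∈ Finset.range l, (r ^ i) v := rfl

theorem orbitProd_fixed (hr : r ^ l = 1) (v : V) : r (orbitProd r l v) = orbitProd r l v := by
  simp only [orbitProd_apply, map_prod]
  have h := Finset.prod_range_succ (fun i => (r ^ i) v) l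
  rw [Finset.prod_range_succ' (fun i => (r ^ i) v) l, hr, pow_zero] at h
  have h2 := mul_right_cancel h
  rw [← h2]
  exact Finset.prod_congr rfl fun i _ => by rw [pow_succ']; rfl

theorem orbitProd_x (hr : r ^ l = 1) (hinv : ∀ v, r (x (r v)) = x v) (v : V) :
    x (orbitProd r l v) = orbitProd r l (x v) := by
  conv_rhs => rw [← orbitProd_fixed hr (x v)]
  simp only [orbitProd_apply, map_prod]
  rw [← Finset.prod_range_reflect (fun i => r ((r ^ i) (x v))) l]
  refine Finset.prod_congr rfl fun i hi => ?_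
  have hil := Finset.mem_range.1 hi
  rw [pow_comm_x hr hinv hil.le, ← pow_succ_apply, show l - 1 - i + 1 = l - i by omega]

/-- The abelian case. -/
theorem dihedral_formula_comm [Finite V] (hV : Odd (Nat.card V)) (hl : Odd l)
    (hcop : l.Coprime (Nat.card V)) (hr : r ^ l = 1) (hx : ∀ v, x (x v) = v)
    (hinv : ∀ v, r (x (r v)) = x v) :
    Nat.card V * Nat.card ↥(autFix r ⊓ autFix x) ^ 2 =
      Nat.card (autFix x) ^ 2 * Nat.card (autFix r) := by
  set y : MulAut V := x * r with hy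
  have hyv : ∀ v, y v = x (r v) := fun v => rfl
  have hy2 : ∀ v, y (y v) = v := fun v => by rw [hyv, hyv, hinv, hx]
  obtain ⟨m, hm⟩ := hl
  -- `y` is conjugate to `x`
  have hconj : ∀ v, y ((r ^ m) v) = (r ^ m) (x v) := fun v => by
    rw [hyv, ← pow_succ_apply, pow_comm_x hr hinv (by omega)]
    congr 2
    omega
  have hC : Nat.card (autFix y) = Nat.card (autFix x) := by
    rw [← Subgroup.card_map_of_injective (f := ((r ^ m : MulAut V) : V ≃* V).toMonoidHom) (MulEquiv.injective (r ^ m)) (K := autFix x)]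
    refine congrArg (fun K : Subgroup V => Nat.card K) (le_antisymm (fun v hv => ?_) ?_)
    · obtain ⟨w, rfl⟩ := (r ^ m).surjective v
      refine ⟨w, (r ^ m).injective ?_, rfl⟩
      exact (hconj w).symm.trans hv
    · rintro _ ⟨w, hw, rfl⟩
      show y ((r ^ m) w) = (r ^ m) w
      rw [hconj, show x w = w from hw]
  have hI : Nat.card (autInv y) = Nat.card (autInv x) := by
    rw [← Subgroup.card_map_of_injective (f := ((r ^ m : MulAut V) : V ≃* V).toMonoidHom) (MulEquiv.injective (r ^ m)) (K := autInv x)]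
    refine congrArg (fun K : Subgroup V => Nat.card K) (le_antisymm (fun v hv => ?_) ?_)
    · obtain ⟨w, rfl⟩ := (r ^ m).surjective v
      refine ⟨w, (r ^ m).injective ?_, rfl⟩
      show (r ^ m) (x w) = (r ^ m) w⁻¹
      rw [map_inv]
      exact (hconj w).symm.trans hv
    · rintro _ ⟨w, hw, rfl⟩
      show y ((r ^ m) w) = ((r ^ m) w)⁻¹
      rw [hconj, show x w = w⁻¹ from hw, map_inv]
  set D := autFix r ⊓ autFix x with hD
  set E := autFix r ⊓ autInv x with hE
  have hN : ∀ v, orbitProd r l v ∈ autFix r := orbitProd_fixed hr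
  have hNr : ∀ v, r v = v → orbitProd r l v = v ^ l := fun v hv => by
    have : ∀ i : ℕ, (r ^ i) v = v := fun i => by
      induction i with
      | zero => simp
      | succ i ih => rw [pow_succ', MulAut.mul_apply, ih, hv]
    simp [orbitProd_apply, this]
  have hNy : ∀ v, y (orbitProd r l v) = orbitProd r l (y v) := fun v => by
    rw [hyv, hyv, ← orbitProd_x hr hinv]
    congr 1
    simp only [orbitProd_apply, map_prod]
    refine Finset.prod_congr rfl fun i _ => ?_
    rw [← MulAut.mul_apply, ← pow_succ', pow_succ]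
    rfl
  have hl1 : ∀ v : V, v ^ l = 1 → v = 1 := fun v hv =>
    orderOf_eq_one_iff.1 (Nat.eq_one_of_dvd_coprimes hcop (orderOf_dvd_of_pow_eq_one hv)
      (orderOf_dvd_natCard v))
  have hCC : autFix x ⊓ autFix y = D := by
    ext v
    simp only [hD, mem_inf, mem_autFix, hyv]
    constructor
    · rintro ⟨h1, h2⟩
      exact ⟨x.injective (h2.trans h1.symm), h1⟩
    · rintro ⟨h1, h2⟩
      exact ⟨h2, by rw [h1, h2]⟩
  have hII : autInv x ⊓ autInv y = E := by
    ext v
    simp only [hE, mem_inf, mem_autFix, mem_autInv, hyv]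
    constructor
    · rintro ⟨h1, h2⟩
      exact ⟨x.injective (h2.trans h1.symm), h1⟩
    · rintro ⟨h1, h2⟩
      exact ⟨h2, by rw [h1, h2]⟩
  have hDsub : ∀ v ∈ autFix x ⊔ autFix y, orbitProd r l v ∈ D := by
    have h : autFix x ⊔ autFix y ≤ D.comap (orbitProd r l) := by
      refine sup_le (fun v hv => ⟨hN v, ?_⟩) (fun v hv => ⟨hN v, ?_⟩)
      · show x (orbitProd r l v) = orbitProd r l v
        rw [orbitProd_x hr hinv, show x v = v from hv]
      · show x (orbitProd r l v) = orbitProd r l v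
        have h1 := hNy v
        rw [show y v = v from hv, hyv, orbitProd_fixed hr v] at h1
        exact h1
    exact h
  have hEsub : ∀ v ∈ autInv x ⊔ autInv y, orbitProd r l v ∈ E := by
    have h : autInv x ⊔ autInv y ≤ E.comap (orbitProd r l) := by
      refine sup_le (fun v hv => ⟨hN v, ?_⟩) (fun v hv => ⟨hN v, ?_⟩)
      · show x (orbitProd r l v) = (orbitProd r l v)⁻¹
        rw [orbitProd_x hr hinv, show x v = v⁻¹ from hv, map_inv]
      · show x (orbitProd r l v) = (orbitProd r l v)⁻¹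
        have h1 := hNy v
        rw [show y v = v⁻¹ from hv, map_inv, hyv, orbitProd_fixed hr v] at h1
        exact h1
    exact h
  have hDE : ∀ v, v ∈ D → v ∈ E → v = 1 := fun v h1 h2 => eq_one_of_sq hV (by
    have e1 : x v = v := h1.2
    have e2 : x v = v⁻¹ := h2.2
    rw [e1] at e2
    nth_rewrite 2 [e2]
    rw [mul_inv_cancel])
  have key1 : (autFix x ⊔ autFix y) ⊓ E = ⊥ := by
    refine (eq_bot_iff_forall _).2 fun v hv => hl1 v (hDE _ ?_ ?_)
    · rw [← hNr v hv.2.1]; exact hDsub v hv.1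
    · exact pow_mem hv.2 l
  have key2 : (autInv x ⊔ autInv y) ⊓ D = ⊥ := by
    refine (eq_bot_iff_forall _).2 fun v hv => hl1 v (hDE _ ?_ ?_)
    · exact pow_mem hv.2 l
    · rw [← hNr v hv.2.1]; exact hEsub v hv.1
  have a1 := comm_card_sup (autFix x) (autFix y)
  rw [hCC, hC] at a1
  have a2 := comm_card_sup (autFix x ⊔ autFix y) E
  rw [key1, card_bot, mul_one] at a2
  have a3 : Nat.card ↥(autFix x ⊔ autFix y ⊔ E) ≤ Nat.card V := Subgroup.card_le_card_group _
  have b1 := comm_card_sup (autInv x) (autInv y)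
  rw [hII, hI] at b1
  have b2 := comm_card_sup (autInv x ⊔ autInv y) D
  rw [key2, card_bot, mul_one] at b2
  have b3 : Nat.card ↥(autInv x ⊔ autInv y ⊔ D) ≤ Nat.card V := Subgroup.card_le_card_group _
  have s1 := card_split hV hx ⊤ fun _ _ => mem_top _
  rw [top_inf_eq, top_inf_eq, card_top] at s1
  have s2 := card_split hV hx (autFix r) fun v hv => by
    show r (x v) = x v
    conv_lhs => rw [← show r v = v from hv]
    exact hinv v
  rw [← hD, ← hE] at s2
  set a := Nat.card (autFix x)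
  set b := Nat.card (autInv x)
  set d := Nat.card D
  set e := Nat.card E
  set n := Nat.card V
  have hd : 0 < d := Nat.card_pos
  have he : 0 < e := Nat.card_pos
  have i1 : a * a * e ≤ n * d := by
    calc a * a * e = Nat.card ↥(autFix x ⊔ autFix y) * e * d := by rw [← a1]; ring
      _ ≤ n * d := Nat.mul_le_mul_right d (a2 ▸ a3)
  have i2 : b * b * d ≤ n * e := by
    calc b * b * d = Nat.card ↥(autInv x ⊔ autInv y) * d * e := by rw [← b1]; ring
      _ ≤ n * e := Nat.mul_le_mul_right e (b2 ▸ b3)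
  have i3 : a * a * e = n * d := by
    by_contra hne
    have hlt : a * a * e < n * d := lt_of_le_of_ne i1 hne
    have hbd : 0 < b * b * d := by have := (Nat.card_pos (α := autInv x)); positivity
    have h := Nat.mul_lt_mul_of_lt_of_le hlt i2 (lt_of_lt_of_le hbd i2)
    have he2 : a * a * e * (b * b * d) = n * d * (n * e) := by
      rw [← s1]; ring
    omega
  rw [← s2]
  calc n * d ^ 2 = n * d * d := by ring
    _ = a ^ 2 * (d * e) := by rw [← i3]; ring

end Abelian

section PGroup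

variable {P : Type u} [Group P]

theorem autFix_pow {f : MulAut P} {v : P} (hv : f v = v) (i : ℕ) : (f ^ i) v = v := by
  induction i with
  | zero => simp
  | succ i ih => rw [pow_succ', MulAut.mul_apply, ih, hv]

/-- A fixed coset of a central subgroup contains a fixed point. -/
theorem exists_fixed_in_coset [Finite P] {f : MulAut P} {m : ℕ} (hf : f ^ m = 1) {Z : Subgroup P}
    (hZc : ∀ z ∈ Z, ∀ v : P, z * v = v * z) (hcop : m.Coprime (Nat.card Z)) {T : Subgroup P}
    (hfZ : ∀ z ∈ Z, f z ∈ Z) (hfT : ∀ v ∈ T, f v ∈ T) {v : P} (hv : v ∈ T) (hfv : v⁻¹ * f v ∈ Z) :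
    ∃ w ∈ T, v⁻¹ * w ∈ Z ∧ f w = w := by
  set z := v⁻¹ * f v with hz
  have hzT : z ∈ T := mul_mem (inv_mem hv) (hfT _ hv)
  have hfz : f v = v * z := by rw [hz]; group
  -- iterates
  have hit : ∀ i : ℕ, ∃ W ∈ Z ⊓ T, f W = z⁻¹ ^ i * W * (v⁻¹ * (f ^ i) v) ∧ v⁻¹ * (f ^ i) v ∈ Z ⊓ T := by
    intro i
    induction i with
    | zero => exact ⟨1, one_mem _, by simp, by simp⟩
    | succ i ih =>
      obtain ⟨W, hW, hfW, hi⟩ := ih
      have hi1 : v⁻¹ * (f ^ (i + 1)) v = z * f (v⁻¹ * (f ^ i) v) := by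
        rw [pow_succ', MulAut.mul_apply, map_mul, map_inv, hfz]
        group
      have hi2 : v⁻¹ * (f ^ (i + 1)) v ∈ Z ⊓ T := by
        rw [hi1]
        exact ⟨mul_mem hfv (hfZ _ hi.1), mul_mem hzT (hfT _ hi.2)⟩
      refine ⟨W * (v⁻¹ * (f ^ i) v), mul_mem hW hi, ?_, hi2⟩
      rw [map_mul, hfW, show f (v⁻¹ * (f ^ i) v) = z⁻¹ * (v⁻¹ * (f ^ (i + 1)) v) by rw [hi1, inv_mul_cancel_left]]
      have hc : ∀ y : P, y * z⁻¹ = z⁻¹ * y := fun y => (hZc _ (inv_mem hfv) y).symm
      rw [← mul_assoc (z⁻¹ ^ i * W * (v⁻¹ * (f ^ i) v)) z⁻¹, hc, pow_succ' z⁻¹]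
      simp only [mul_assoc]
  obtain ⟨W, hW, hfW, -⟩ := hit m
  rw [hf, MulAut.one_apply, inv_mul_cancel, mul_one] at hfW
  obtain ⟨k, hk⟩ : ∃ k : ℕ, (z ^ k) ^ m = z := by
    have ho : m.Coprime (orderOf z) := hcop.coprime_dvd_right (Subgroup.orderOf_dvd_natCard _ hfv)
    obtain ⟨k, hk⟩ := exists_pow_eq_self_of_coprime ho
    exact ⟨k, by rw [← pow_mul, mul_comm, pow_mul, hk]⟩
  refine ⟨v * W ^ k, mul_mem hv (pow_mem hW.2 k), by rw [inv_mul_cancel_left]; exact pow_mem hW.1 k, ?_⟩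
  have hcm : Commute (z⁻¹ ^ m) W := hZc _ (pow_mem (inv_mem hfv) m) W
  rw [map_mul, map_pow, hfz, hfW, hcm.mul_pow, mul_assoc, ← mul_assoc z,
    ← pow_mul, mul_comm m k, pow_mul, inv_pow z k, inv_pow, hk, mul_inv_cancel, one_mul]

theorem card_eq_inf_mul_map [Finite P] (Z : Subgroup P) [Z.Normal] (T : Subgroup P) :
    Nat.card T = Nat.card ↥(T ⊓ Z) * Nat.card (T.map (QuotientGroup.mk' Z)) := by
  have h := ((QuotientGroup.mk' Z).comp T.subtype).ker.card_mul_index
  rw [← MonoidHom.comap_ker, QuotientGroup.ker_mk'] at h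
  rw [← h]
  congr 1
  · rw [inf_comm, ← Nat.card_congr (subgroupOfEquivOfLe (inf_le_right : Z ⊓ T ≤ T)).toEquiv,
      inf_subgroupOf_right]
    rfl
  · rw [Subgroup.index, show Z.comap T.subtype = ((QuotientGroup.mk' Z).comp T.subtype).ker by
        rw [← MonoidHom.comap_ker, QuotientGroup.ker_mk'],
      Nat.card_congr (QuotientGroup.quotientKerEquivRange _).toEquiv, MonoidHom.range_comp, range_subtype]

theorem dihedral_formula_aux {p l : ℕ} [Fact p.Prime] (hp2 : p ≠ 2) (hl : Odd l) (hpl : ¬ p ∣ l) :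
    ∀ (n : ℕ) (P : Type u) [Group P] [Finite P], Nat.card P = n → IsPGroup p P →
      ∀ r x : MulAut P, r ^ l = 1 → (∀ v, x (x v) = v) → (∀ v, r (x (r v)) = x v) →
      Nat.card P * Nat.card ↥(autFix r ⊓ autFix x) ^ 2 =
        Nat.card (autFix x) ^ 2 * Nat.card (autFix r) := by
  intro n
  induction n using Nat.strong_induction_on with
  | _ n ih =>
  intro P _ _ hn hP r x hr hx hinv
  rcases subsingleton_or_nontrivial P with hs | hs
  · simp [Nat.card_unique]
  haveI : Nontrivial (center P) := IsPGroup.center_nontrivial hP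
  set Z := center P with hZ
  obtain ⟨j, hj⟩ := IsPGroup.iff_card.1 (hP.to_subgroup Z)
  have hpp : Nat.Prime p := Fact.out
  have hcl : l.Coprime (Nat.card Z) := by
    rw [hj]
    exact ((Nat.Prime.coprime_iff_not_dvd hpp).2 hpl).symm.pow_right j
  have hc2 : Nat.Coprime 2 (Nat.card Z) := by
    rw [hj]
    exact (Nat.coprime_primes Nat.prime_two hpp |>.2 (Ne.symm hp2)).pow_right j
  have hfZ : ∀ f : MulAut P, ∀ z ∈ Z, f z ∈ Z := fun f z hz => by
    rw [hZ, mem_center_iff] at hz ⊢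
    intro g
    obtain ⟨g, rfl⟩ := f.surjective g
    rw [← map_mul, hz, map_mul]
  have hmapZ : ∀ f : MulAut P, Z.map f.toMonoidHom = Z := fun f =>
    Subgroup.characteristic_iff_map_eq.1 inferInstance f
  have hZc : ∀ z ∈ Z, ∀ v : P, z * v = v * z := fun z hz v => (mem_center_iff.1 hz v).symm
  -- action on the centre
  let ρ : MulAut P → MulAut ↥Z := fun f =>
    { toFun := fun z => ⟨f z, hfZ f _ z.2⟩
      invFun := fun z => ⟨f.symm z, hfZ f.symm _ z.2⟩
      left_inv := fun z => Subtype.ext (f.symm_apply_apply _)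
      right_inv := fun z => Subtype.ext (f.apply_symm_apply _)
      map_mul' := fun a b => Subtype.ext (map_mul f _ _) }
  have hρ : ∀ (f : MulAut P) (z : ↥Z), ((ρ f z : ↥Z) : P) = f z := fun _ _ => rfl
  have hρp : ∀ (f : MulAut P) (k : ℕ) (z : ↥Z), (((ρ f) ^ k) z : P) = (f ^ k) z := by
    intro f k
    induction k with
    | zero => simp
    | succ k ih => intro z; rw [pow_succ', pow_succ', MulAut.mul_apply, MulAut.mul_apply, hρ, ih]
  letI : CommGroup ↥Z := { (inferInstance : Group ↥Z) with mul_comm := fun a b => Subtype.ext (hZc _ a.2 _) }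
  have hodd : Odd (Nat.card ↥Z) := Nat.coprime_two_left.1 hc2
  have base := dihedral_formula_comm (V := ↥Z) (r := ρ r) (x := ρ x) hodd hl hcl
    (MulEquiv.ext fun z => Subtype.ext (by rw [hρp, hr]; rfl))
    (fun z => Subtype.ext (hx z)) (fun z => Subtype.ext (hinv z))
  have hsub : ∀ (A : Subgroup P) (B : Subgroup ↥Z), (∀ z : ↥Z, z ∈ B ↔ (z : P) ∈ A) →
      Nat.card B = Nat.card ↥(A ⊓ Z) := fun A B h => by
    rw [← Nat.card_congr (subgroupOfEquivOfLe (inf_le_right : A ⊓ Z ≤ Z)).toEquiv, inf_subgroupOf_right,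
      show B = A.subgroupOf Z from Subgroup.ext fun z => (h z).trans mem_subgroupOf.symm]
  have hfix : ∀ f : MulAut P, ∀ z : ↥Z, z ∈ autFix (ρ f) ↔ (z : P) ∈ autFix f := fun f z =>
    ⟨fun h => congrArg Subtype.val h, fun h => Subtype.ext h⟩
  rw [hsub (autFix r ⊓ autFix x) _ (fun z => Iff.and (hfix r z) (hfix x z)), hsub _ _ (hfix r),
    hsub _ _ (hfix x)] at base
  -- the quotient
  let π : MulAut P → MulAut (P ⧸ Z) := fun f => QuotientGroup.congr Z Z f (hmapZ f)
  have hπ : ∀ (f : MulAut P) (v : P), π f (v : P ⧸ Z) = ((f v : P) : P ⧸ Z) := fun f v =>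
    QuotientGroup.congr_mk _ _ _ _ v
  have hπp : ∀ (f : MulAut P) (k : ℕ) (v : P), ((π f) ^ k) (v : P ⧸ Z) = (((f ^ k) v : P) : P ⧸ Z) := by
    intro f k
    induction k with
    | zero => simp
    | succ k ih => intro v; rw [pow_succ', pow_succ', MulAut.mul_apply, MulAut.mul_apply, ih, hπ]
  have hlt : Nat.card (P ⧸ Z) < n := by
    rw [← hn, ← Z.index_mul_card, ← Subgroup.index]
    exact lt_mul_of_one_lt_right (Nat.pos_of_ne_zero Z.index_ne_zero_of_finite) Finite.one_lt_card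
  have quot := ih _ hlt (P ⧸ Z) rfl (hP.to_quotient Z) (π r) (π x)
    (MulEquiv.ext fun q => by obtain ⟨v, rfl⟩ := QuotientGroup.mk'_surjective Z q; simp [hπp, hr])
    (fun q => by obtain ⟨v, rfl⟩ := QuotientGroup.mk'_surjective Z q; simp [hπ, hx])
    (fun q => by obtain ⟨v, rfl⟩ := QuotientGroup.mk'_surjective Z q; simp [hπ, hinv])
  have hx2 : x ^ 2 = 1 := MulEquiv.ext fun v => by rw [pow_two]; exact hx v
  have hrT : ∀ v ∈ autFix r, x v ∈ autFix r := fun v hv => by
    show r (x v) = x v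
    conv_lhs => rw [← show r v = v from hv]
    exact hinv v
  have hq : ∀ {f : MulAut P} {w : P}, (w : P ⧸ Z) ∈ autFix (π f) → w⁻¹ * f w ∈ Z := fun {f w} h => by
    have h' : π f (w : P ⧸ Z) = (w : P ⧸ Z) := h
    rw [hπ, eq_comm, QuotientGroup.eq] at h'
    exact h'
  have m1 : ∀ (f : MulAut P) (m : ℕ), f ^ m = 1 → m.Coprime (Nat.card Z) →
      (autFix f).map (QuotientGroup.mk' Z) = autFix (π f) := fun f m hf hm => by
    refine le_antisymm ?_ fun q hq' => ?_
    · rintro _ ⟨v, hv, rfl⟩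
      show π f (v : P ⧸ Z) = (v : P ⧸ Z)
      rw [hπ, show f v = v from hv]
    · obtain ⟨w, rfl⟩ := QuotientGroup.mk'_surjective Z q
      obtain ⟨u, -, hu, hfu⟩ := exists_fixed_in_coset hf hZc hm (T := ⊤) (hfZ f) (fun _ _ => mem_top _)
        (mem_top w) (hq hq')
      exact ⟨u, hfu, (QuotientGroup.eq.2 hu).symm⟩
  have m2 : (autFix r ⊓ autFix x).map (QuotientGroup.mk' Z) = autFix (π r) ⊓ autFix (π x) := by
    refine le_antisymm ?_ fun q hq' => ?_
    · rintro _ ⟨v, hv, rfl⟩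
      refine ⟨?_, ?_⟩
      · show π r (v : P ⧸ Z) = (v : P ⧸ Z)
        rw [hπ, show r v = v from hv.1]
      · show π x (v : P ⧸ Z) = (v : P ⧸ Z)
        rw [hπ, show x v = v from hv.2]
    · obtain ⟨w, rfl⟩ := QuotientGroup.mk'_surjective Z q
      obtain ⟨u, -, hu, hfu⟩ := exists_fixed_in_coset hr hZc hcl (T := ⊤) (hfZ r) (fun _ _ => mem_top _)
        (mem_top w) (hq hq'.1)
      have huq : (u : P ⧸ Z) = (w : P ⧸ Z) := (QuotientGroup.eq.2 hu).symm
      obtain ⟨y, hy, hy2, hxy⟩ := exists_fixed_in_coset hx2 hZc hc2 (T := autFix r) (hfZ x) hrT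
        (v := u) hfu (hq (huq.symm ▸ hq'.2))
      exact ⟨y, ⟨hy, hxy⟩, ((QuotientGroup.eq.2 hy2).symm).trans huq⟩
  rw [card_eq_inf_mul_map Z (autFix r ⊓ autFix x), card_eq_inf_mul_map Z (autFix r),
    card_eq_inf_mul_map Z (autFix x), m1 r l hr hcl, m1 x 2 hx2 hc2, m2,
    ← Z.index_mul_card, show Z.index = Nat.card (P ⧸ Z) from rfl]
  calc _ = Nat.card ↥Z * Nat.card ↥(autFix r ⊓ autFix x ⊓ Z) ^ 2 *
        (Nat.card (P ⧸ Z) * Nat.card ↥(autFix (π r) ⊓ autFix (π x)) ^ 2) := by ring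
    _ = _ := by rw [base, quot]; ring

end PGroup

/-- The ambient form. -/
theorem dihedral_formula {G : Type u} [Group G] [Finite G] {p l : ℕ} [Fact p.Prime] (hp2 : p ≠ 2)
    (hl : Odd l) (hpl : ¬ p ∣ l) {r x : G} (hr : r ^ l = 1) (hx : x * x = 1) (hrx : x * r * x⁻¹ = r⁻¹)
    (P : Subgroup G) (hP : IsPGroup p P) (hrP : r ∈ normalizer (P : Set G))
    (hxP : x ∈ normalizer (P : Set G)) :
    Nat.card P * Nat.card ↥(P ⊓ centralizer ({r} : Set G) ⊓ centralizer ({x} : Set G)) ^ 2 =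
      Nat.card ↥(P ⊓ centralizer ({x} : Set G)) ^ 2 * Nat.card ↥(P ⊓ centralizer ({r} : Set G)) := by
  set φ := P.normalizerMonoidHom with hφ
  have hap : ∀ (g : normalizer (P : Set G)) (v : P), (φ g v : G) = g * v * (g : G)⁻¹ := fun _ _ => rfl
  have h := dihedral_formula_aux hp2 hl hpl _ P rfl hP (φ ⟨r, hrP⟩) (φ ⟨x, hxP⟩)
    (by rw [← map_pow, show (⟨r, hrP⟩ : normalizer (P : Set G)) ^ l = 1 from Subtype.ext hr, map_one])
    (fun v => by
      rw [← MulAut.mul_apply, ← map_mul,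
        show (⟨x, hxP⟩ : normalizer (P : Set G)) * ⟨x, hxP⟩ = 1 from Subtype.ext hx, map_one]
      rfl)
    (fun v => Subtype.ext (by
      rw [hap, hap, hap]
      have hx' : x⁻¹ = x := inv_eq_of_mul_eq_one_right hx
      have e : r * x * r = x := by
        have h' : x * r * x = r⁻¹ := by rw [hx'] at hrx; exact hrx
        calc r * x * r = r * (x * r * x) * x⁻¹ := by group
          _ = x := by rw [h', mul_inv_cancel, one_mul, hx']
      calc r * (x * (r * (v : G) * r⁻¹) * x⁻¹) * r⁻¹ = r * x * r * v * (r * x * r)⁻¹ := by group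
        _ = _ := by rw [e, hap]))
  have hmem : ∀ (g : G) (hg : g ∈ normalizer (P : Set G)) (v : P),
      v ∈ autFix (φ ⟨g, hg⟩) ↔ (v : G) ∈ centralizer ({g} : Set G) := fun g hg v => by
    rw [mem_autFix, Subtype.ext_iff, hap, mem_centralizer_singleton_iff, mul_inv_eq_iff_eq_mul, eq_comm]
  have hsub : ∀ (A : Subgroup G) (B : Subgroup P), (∀ v : P, v ∈ B ↔ (v : G) ∈ A) →
      Nat.card B = Nat.card ↥(P ⊓ A) := fun A B hB => by
    rw [inf_comm, ← Nat.card_congr (subgroupOfEquivOfLe (inf_le_right : A ⊓ P ≤ P)).toEquiv,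
      inf_subgroupOf_right, show B = A.subgroupOf P from Subgroup.ext fun v => (hB v).trans mem_subgroupOf.symm]
  rw [hsub (centralizer ({r} : Set G) ⊓ centralizer ({x} : Set G)) _
      (fun v => Iff.and (hmem r hrP v) (hmem x hxP v)),
    hsub _ _ (hmem r hrP), hsub _ _ (hmem x hxP), ← inf_assoc] at h
  exact h

/-- The fixed points of an element of prime order `l` count modulo `l`. -/
theorem card_modEq_fixed {G : Type u} [Group G] [Finite G] {l : ℕ} [hl : Fact l.Prime] {r : G}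
    (hr : r ^ l = 1) (P : Subgroup G) (hrP : r ∈ normalizer (P : Set G)) :
    Nat.card P ≡ Nat.card ↥(P ⊓ centralizer ({r} : Set G)) [MOD l] := by
  set f := P.normalizerMonoidHom ⟨r, hrP⟩ with hf
  have hfl : f ^ l = 1 := by
    rw [hf, ← map_pow, show (⟨r, hrP⟩ : normalizer (P : Set G)) ^ l = 1 from Subtype.ext hr, map_one]
  have hA : IsPGroup l (zpowers f) := by
    rintro ⟨g, k, rfl⟩
    refine ⟨1, Subtype.ext ?_⟩
    rw [SubmonoidClass.coe_pow, pow_one]
    show (f ^ k) ^ l = 1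
    rw [← zpow_natCast, ← zpow_mul, mul_comm, zpow_mul, zpow_natCast, hfl, one_zpow]
  refine (hA.card_modEq_card_fixedPoints P).trans ?_
  refine congrArg (fun n : ℕ => n % l) ?_
  refine Nat.card_congr
    { toFun := fun v => ⟨(v.1 : G), v.1.2, ?_⟩
      invFun := fun v => ⟨⟨v.1, v.2.1⟩, ?_⟩
      left_inv := fun v => Subtype.ext (Subtype.ext rfl)
      right_inv := fun v => Subtype.ext rfl }
  · have h : (f v.1 : P) = v.1 := v.2 ⟨f, mem_zpowers f⟩
    have h' : r * (v.1 : G) * r⁻¹ = v.1 := congrArg Subtype.val h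
    exact mem_centralizer_singleton_iff.2 (mul_inv_eq_iff_eq_mul.1 h').symm
  · rintro ⟨g, k, rfl⟩
    have h : f ⟨v.1, v.2.1⟩ = ⟨v.1, v.2.1⟩ := Subtype.ext (by
      show r * v.1 * r⁻¹ = v.1
      rw [mul_inv_eq_iff_eq_mul]
      exact (mem_centralizer_singleton_iff.1 v.2.2).symm)
    have h' : f ∈ MulAction.stabilizer (MulAut ↥P) (⟨v.1, v.2.1⟩ : ↥P) := h
    exact MulAction.mem_stabilizer_iff.1 (zpow_mem h' k)

end CfsgLib.Recog.JankoThompson
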