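import Cfsg.Agent.Lib.Recog.JankoThompson.LocalBasic

/-!
# `C(r) = D × R` once the twist is free
-/

set_option autoImplicit false

namespace CfsgLib.Recog.JankoThompson

open Subgroup

universe u v

variable {G : Type u} [Group G] {Fq : Type v} [Field Fq] [Fintype Fq] [Finite G]

namespace Ctx

variable (c : Ctx G Fq) {p : ℕ} (T : Tori Fq c.w p c.e c.f)

include T in
theorem small_of_free (hF : c.FreeTwist) : c.SmallCentralizer := by
  intro r hr hr1 z hz
  classical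
  haveI : Fact (Nat.Prime 2) := ⟨Nat.prime_two⟩
  set a := c.ι r with hadef
  have ha : a ∈ c.Rg T := ⟨r, (T.mem_R r).2 hr, rfl⟩
  have ha1 : a ≠ 1 := fun h => hr1 (c.inj (h.trans (map_one c.ι).symm))
  have hodd : Odd (orderOf a) := ((c.mem_Rg T).1 ha).1
  set H := centralizer ({a} : Set G) with hH
  obtain ⟨P, hPK, hP⟩ : ∃ P : Sylow 2 H, IsKleinFour (P : Subgroup H) ∧
      ∀ z : H, z ∈ (P : Subgroup H) ↔ (z : G) ∈ c.Dg := c.exists_sylow_H T ha ha1
  have hHmem : ∀ h : H, (h : G) * a = a * h := fun h => mem_centralizer_singleton_iff.1 h.2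
  -- the normaliser of `D` in `C(a)` centralises it
  have hN : normalizer ((P : Subgroup H) : Set H) ≤ centralizer ((P : Subgroup H) : Set H) := by
    intro g hg
    have hg' : ∀ d : H, d ∈ (P : Subgroup H) → ((g : G) * d * (g : G)⁻¹) ∈ c.Dg := fun d hd =>
      (hP (g * d * g⁻¹)).1 ((mem_normalizer_iff.1 hg d).1 hd)
    have htH : c.t ∈ H := mem_centralizer_singleton_iff.2 (c.Rg_Dg T ha c.t_mem_Dg).symm
    have hgt := hg' ⟨c.t, htH⟩ ((hP _).2 c.t_mem_Dg)
    obtain ⟨i, hi, hit⟩ := c.orbit hgt (fun h => c.t_ne (conj_eq_one_iff.1 h))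
    have hz' : (c.σ ^ i)⁻¹ * g * c.t = c.t * ((c.σ ^ i)⁻¹ * g) := by
      calc (c.σ ^ i)⁻¹ * g * c.t = (c.σ ^ i)⁻¹ * ((g : G) * c.t * (g : G)⁻¹) * g := by group
        _ = _ := by rw [← hit]; group
    have hinv : (c.σ ^ i)⁻¹ = c.σ ^ (3 - i) := inv_eq_of_mul_eq_one_right (by
      rw [← pow_add, Nat.add_sub_cancel' hi.le, c.σ_cube])
    have hb : (c.σ ^ i)⁻¹ * a * c.σ ^ i ∈ c.Rg T := by
      have h := c.σ_pow_Rg T (3 - i) ha
      rwa [← hinv, inv_inv] at h
    have hzb : (c.σ ^ i)⁻¹ * g * a * ((c.σ ^ i)⁻¹ * (g : G))⁻¹ = (c.σ ^ i)⁻¹ * a * c.σ ^ i := by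
      rw [mul_assoc ((c.σ ^ i)⁻¹) (g : G) a, hHmem g]; group
    have hfix : i ≠ 0 → False := by
      intro hi0
      rcases c.conj_cases T ha hb hz' hzb with h | h
      · -- `σ` fixes `a`
        have hcm : Commute a (c.σ ^ i) := by
          calc a * c.σ ^ i = c.σ ^ i * ((c.σ ^ i)⁻¹ * a * c.σ ^ i) := by group
            _ = _ := by rw [h]
        have hgen : ∃ k, (c.σ ^ i) ^ k = c.σ := by
          interval_cases i
          · exact absurd rfl hi0
          · exact ⟨1, by simp⟩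
          · exact ⟨2, by rw [← pow_mul, show 2 * 2 = 3 + 1 from rfl, pow_add, c.σ_cube, one_mul, pow_one]⟩
        obtain ⟨k, hk⟩ := hgen
        have hσa : Commute a c.σ := hk ▸ hcm.pow_right k
        exact hr1 (hF r hr (by rw [← hadef, ← hσa.eq, mul_inv_cancel_right]))
      · set s := (c.σ ^ i)⁻¹ with hs
        have hs' : ∀ w, s * w * c.σ ^ i = MulAut.conj s w := fun w => by rw [hs, MulAut.conj_apply, inv_inv]
        rw [hs'] at h
        have h3 : (MulAut.conj s) ^ 3 = 1 := by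
          rw [← map_pow, hs, inv_pow, ← pow_mul, mul_comm, pow_mul, c.σ_cube, one_pow, inv_one, map_one]
        have h4 : MulAut.conj s (MulAut.conj s (MulAut.conj s a)) = a := DFunLike.congr_fun h3 a
        rw [h, map_inv (MulAut.conj s) a, h, inv_inv, h] at h4
        refine ha1 (orderOf_eq_one_iff.1 (Nat.eq_one_of_dvd_coprimes (Nat.coprime_two_left.2 hodd)
          (orderOf_dvd_of_pow_eq_one ?_) dvd_rfl))
        rw [pow_two]; nth_rewrite 1 [← h4]; exact inv_mul_cancel a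
    obtain rfl : i = 0 := by_contra hfix
    rw [pow_zero, inv_one, one_mul] at hz'
    have hA := c.inA_of_comm_t T ha ha1 hz' (hHmem g)
    refine mem_centralizer_iff.2 fun d hd => Subtype.ext ?_
    exact (InA.comm (InA.of_Dg c T ((hP d).1 hd)) hA)
  have hcomp := MonoidHom.ker_transferSylow_isComplement' P hN
  set K := (MonoidHom.transferSylow P hN).ker with hK
  have hKodd : Odd (Nat.card K) := by
    rw [← hcomp.index_eq_card, Nat.odd_iff]
    have := P.not_dvd_index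
    omega
  have hkey : ∀ b ∈ c.Rg T, ∀ hb : b ∈ H, (⟨b, hb⟩ : H) ∈ K := by
    intro b hb hbH
    obtain ⟨⟨k, s⟩, hks⟩ := hcomp.2 ⟨b, hbH⟩
    have hs : (s : H) * s = 1 := Subtype.ext (c.Dg_sq ((hP (s : H)).1 (SetLike.mem_coe.1 s.2)))
    set π := QuotientGroup.mk' K
    have h1 : π ⟨b, hbH⟩ = π (s : H) := by
      rw [← hks]; show π ((k : H) * s) = _
      rw [map_mul, show π (k : H) = 1 from (QuotientGroup.eq_one_iff _).2 k.2, one_mul]
    have h2 : orderOf (π ⟨b, hbH⟩) ∣ 2 :=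
      orderOf_dvd_of_pow_eq_one (by rw [h1, pow_two, ← map_mul, hs, map_one])
    have h3 : orderOf (π ⟨b, hbH⟩) ∣ orderOf b :=
      (orderOf_map_dvd π _).trans (by rw [← Subgroup.orderOf_coe])
    exact (QuotientGroup.eq_one_iff _).1 (orderOf_eq_one_iff.1
      (Nat.eq_one_of_dvd_coprimes (Nat.coprime_two_left.2 ((c.mem_Rg T).1 hb).1) h2 h3))
  have hRle : c.Rg T ≤ H := fun b hb => mem_centralizer_singleton_iff.2 (c.Rg_comm T hb ha)
  have hcent : ∀ d : H, (d : G) ∈ c.Dg → d ≠ 1 → K ⊓ centralizer ({d} : Set H) = (c.Rg T).subgroupOf H := by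
    intro d hd hd1
    ext k
    rw [mem_inf, mem_centralizer_singleton_iff, mem_subgroupOf]
    constructor
    · rintro ⟨hk, hkd⟩
      refine (c.inA_of_comm T ha ha1 hd (fun h => hd1 (Subtype.ext h)) (congrArg Subtype.val hkd) (hHmem k)).mem_Rg ?_
      rw [Subgroup.orderOf_coe]
      exact hKodd.of_dvd_nat (Subgroup.orderOf_dvd_natCard K hk)
    · intro hk
      exact ⟨hkey _ hk k.2, Subtype.ext (c.Rg_Dg T hk hd)⟩
  have htH : c.t ∈ H := mem_centralizer_singleton_iff.2 (c.Rg_Dg T ha c.t_mem_Dg).symm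
  have hwH : c.ι c.w ∈ H := mem_centralizer_singleton_iff.2 (c.Rg_Dg T ha c.w_mem_Dg).symm
  have hKn : ∀ g : H, g ∈ normalizer (K : Set H) := fun g => by
    rw [normalizer_eq_top_iff.2 (MonoidHom.normal_ker _)]; exact mem_top _
  haveI := Fintype.ofFinite H
  have hbw := CfsgLib.HallNumber.brauer_wielandt_subgroup K hKodd (t := (⟨c.t, htH⟩ : H)) (u := ⟨c.ι c.w, hwH⟩)
    (Subtype.ext c.tt) (Subtype.ext c.ww) (Subtype.ext c.tw) (hKn _) (hKn _)
  rw [hcent ⟨c.t, htH⟩ c.t_mem_Dg (fun h => c.t_ne (congrArg Subtype.val h)),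
    hcent ⟨c.ι c.w, hwH⟩ c.w_mem_Dg (fun h => c.w_ne (congrArg Subtype.val h)),
    hcent (⟨c.t, htH⟩ * ⟨c.ι c.w, hwH⟩) (mul_mem c.t_mem_Dg c.w_mem_Dg)
      (fun h => c.tw_ne (congrArg Subtype.val h)),
    show (c.Rg T).subgroupOf H ⊓ centralizer ({(⟨c.ι c.w, hwH⟩ : H)} : Set H) = (c.Rg T).subgroupOf H from
      inf_eq_left.2 fun k hk => mem_centralizer_singleton_iff.2 (Subtype.ext (c.Rg_Dg T hk c.w_mem_Dg))] at hbw
  have hKR : (c.Rg T).subgroupOf H = K := by
    refine eq_of_le_of_card_ge (fun k hk => hkey _ hk k.2) (le_of_eq ?_)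
    exact Nat.eq_of_mul_eq_mul_right (pow_pos Nat.card_pos 2 : 0 < Nat.card ((c.Rg T).subgroupOf H) ^ 2)
      (hbw.trans (by ring))
  obtain ⟨⟨k, s⟩, hks⟩ := hcomp.2 (⟨z, mem_centralizer_singleton_iff.2 hz⟩ : H)
  have hk : ((k : H) : G) ∈ c.Rg T := mem_subgroupOf.1 (hKR.symm ▸ k.2)
  obtain ⟨r', hr', hr''⟩ := hk
  refine ⟨r', (T.mem_R r').1 hr', ?_⟩
  have he : z = ((s : H) : G) * c.ι r' := by
    rw [hr'', ← c.Rg_Dg T ⟨r', hr', hr''⟩ ((hP (s : H)).1 (SetLike.mem_coe.1 s.2))]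
    exact (congrArg Subtype.val hks).symm
  rcases (hP (s : H)).1 (SetLike.mem_coe.1 s.2) with h | h | h | h <;> rw [h] at he
  · exact Or.inl (by rw [he, one_mul])
  · exact Or.inr (Or.inl he)
  · exact Or.inr (Or.inr (Or.inl (by rw [he, map_mul])))
  · exact Or.inr (Or.inr (Or.inr (by rw [he, map_mul, mul_assoc])))

end Ctx

end CfsgLib.Recog.JankoThompson
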