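import Cfsg.Agent.Lib.Recog.JankoThompson.LocalSigma
import Cfsg.Agent.Lib.Recog.JankoThompson.LocalFormula
import Cfsg.Agent.Lib.Recog.JankoThompson.LocalSmall

/-!
# `σ` fixes no element of `R` but `1`
-/

set_option autoImplicit false

namespace CfsgLib.Recog.JankoThompson

open Subgroup Cfsg
open scoped Pointwise

universe u v

variable {G : Type u} [Group G] [Finite G]

theorem mem_zpowers_sq {z : G} (hz : Odd (orderOf z)) : z ∈ zpowers (z * z) := by
  obtain ⟨m, hm⟩ := hz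
  refine mem_zpowers_iff.2 ⟨((m + 1 : ℕ) : ℤ), ?_⟩
  rw [zpow_natCast, ← pow_two, ← pow_mul, show 2 * (m + 1) = orderOf z + 1 by omega, pow_succ,
    pow_orderOf_eq_one, one_mul]

/-- A dihedral group of order `2l` is solvable. -/
theorem isSolvable_dih {a x : G} {l : ℕ} [hl : Fact l.Prime] (ha : orderOf a = l) (hl2 : l ≠ 2)
    (hx : orderOf x = 2) (hxa : x ∈ normalizer (zpowers a : Set G)) :
    Nat.card ↥(zpowers x ⊔ zpowers a) = 2 * l ∧ Group.IsSolvable ↥(zpowers x ⊔ zpowers a) := by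
  have hcop : Nat.Coprime 2 l := (Nat.coprime_primes Nat.prime_two hl.out).2 (Ne.symm hl2)
  have hc : Nat.card ↥(zpowers x ⊔ zpowers a) = 2 * l := by
    rw [CfsgLib.Core.card_sup_of_coprime _ _ (zpowers_le.2 hxa) (by rw [Nat.card_zpowers, Nat.card_zpowers, hx, ha]; exact hcop),
      Nat.card_zpowers, Nat.card_zpowers, hx, ha]
  haveI : IsZGroup ↥(zpowers x ⊔ zpowers a) := IsZGroup.of_squarefree (by
    rw [hc]; exact Nat.squarefree_mul hcop |>.2 ⟨Nat.prime_two.squarefree, hl.out.squarefree⟩)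
  exact ⟨hc, inferInstance⟩

namespace Ctx

variable {Fq : Type v} [Field Fq] [Fintype Fq] (c : Ctx G Fq) {p : ℕ} (T : Tori Fq c.w p c.e c.f)

/-- An element of odd order mapping `a` into `⟨a⟩` centralises it. -/
theorem normal_cent {a z : G} (ha : a ∈ c.Rg T) (ha1 : a ≠ 1) (hσ : c.σ * a = a * c.σ)
    (hza : z * a * z⁻¹ ∈ zpowers a) (hzo : Odd (orderOf z)) : z * a = a * z := by
  classical
  haveI : Fact (Nat.Prime 2) := ⟨Nat.prime_two⟩
  have hgen : a ∈ zpowers (z * a * z⁻¹) := by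
    have h : zpowers (z * a * z⁻¹) = zpowers a := eq_of_le_of_card_ge (zpowers_le.2 hza) (by
      rw [Nat.card_zpowers, Nat.card_zpowers, show z * a * z⁻¹ = MulAut.conj z a from rfl, MulEquiv.orderOf_eq])
    rw [h]; exact mem_zpowers a
  set a' := z * a * z⁻¹ with ha'
  set H := centralizer ({a} : Set G) with hH
  obtain ⟨P, hPK, hP⟩ : ∃ P : Sylow 2 H, IsKleinFour (P : Subgroup H) ∧
      ∀ z : H, z ∈ (P : Subgroup H) ↔ (z : G) ∈ c.Dg := c.exists_sylow_H T ha ha1
  set D' := c.Dg.map (MulAut.conj z).toMonoidHom with hD'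
  have hD'H : D' ≤ H := by
    rintro _ ⟨d, hd, rfl⟩
    obtain ⟨m, hm⟩ := mem_zpowers_iff.1 hgen
    have h : Commute (z * d * z⁻¹) a' := by
      rw [ha', commute_iff_eq, conj_mul, conj_mul, c.Rg_Dg T ha hd]
    exact mem_centralizer_singleton_iff.2 (hm ▸ h.zpow_right m).eq
  have h2 : IsPGroup 2 (D'.subgroupOf H) := fun y => ⟨1, Subtype.ext (Subtype.ext (by
    obtain ⟨d, hd, e⟩ := mem_subgroupOf.1 y.2
    rw [SubmonoidClass.coe_pow, SubmonoidClass.coe_pow, pow_one, pow_two, ← e, MulEquiv.coe_toMonoidHom, ← map_mul,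
      c.Dg_sq hd, map_one]
    rfl))⟩
  obtain ⟨Q, hQ⟩ := h2.exists_le_sylow
  obtain ⟨h, hh⟩ := MulAction.exists_smul_eq H Q P
  have ht : (h : G) * (z * c.t * z⁻¹) * (h : G)⁻¹ ∈ c.Dg := by
    have hm : (⟨z * c.t * z⁻¹, hD'H ⟨c.t, c.t_mem_Dg, rfl⟩⟩ : H) ∈ (Q : Subgroup H) :=
      hQ (mem_subgroupOf.2 ⟨c.t, c.t_mem_Dg, rfl⟩)
    refine (hP (h * ⟨z * c.t * z⁻¹, hD'H ⟨c.t, c.t_mem_Dg, rfl⟩⟩ * h⁻¹)).1 ?_
    rw [← hh, Sylow.coe_subgroup_smul]
    exact ⟨_, hm, rfl⟩
  obtain ⟨i, hi, hit⟩ := c.orbit ht (fun e => c.t_ne (conj_eq_one_iff.1 (conj_eq_one_iff.1 e)))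
  have hcomm : ((c.σ ^ i)⁻¹ * h * z) * c.t = c.t * ((c.σ ^ i)⁻¹ * h * z) := by
    calc (c.σ ^ i)⁻¹ * h * z * c.t = (c.σ ^ i)⁻¹ * ((h : G) * (z * c.t * z⁻¹) * (h : G)⁻¹) * h * z := by group
      _ = _ := by rw [← hit]; group
  have ha'R : a' ∈ c.Rg T := zpowers_le.2 ha hza
  obtain ⟨m, hm⟩ := mem_zpowers_iff.1 hza
  have e : ((c.σ ^ i)⁻¹ * h * z) * a * ((c.σ ^ i)⁻¹ * h * z)⁻¹ = a' := by
    have h1 : Commute (h : G) a' := hm ▸ (show Commute (h : G) a from mem_centralizer_singleton_iff.1 h.2).zpow_right m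
    have h2 : Commute (c.σ ^ i)⁻¹ a' := hm ▸ ((show Commute c.σ a from hσ).pow_left i).inv_left.zpow_right m
    calc (c.σ ^ i)⁻¹ * h * z * a * ((c.σ ^ i)⁻¹ * h * z)⁻¹
        = (c.σ ^ i)⁻¹ * h * a' * ((c.σ ^ i)⁻¹ * h)⁻¹ := by rw [ha']; group
      _ = _ := by rw [(h2.mul_left h1).eq, mul_inv_cancel_right]
  rcases c.conj_cases T ha ha'R hcomm e with r | r
  · exact mul_inv_eq_iff_eq_mul.1 r
  · have hc : Commute (z * z) a := by
      have h2 : z * z * a * (z * z)⁻¹ = a := by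
        calc z * z * a * (z * z)⁻¹ = z * (z * a * z⁻¹) * z⁻¹ := by group
          _ = z * a⁻¹ * z⁻¹ := by rw [← ha', r]
          _ = (z * a * z⁻¹)⁻¹ := by group
          _ = a := by rw [← ha', r, inv_inv]
      exact mul_inv_eq_iff_eq_mul.1 h2
    obtain ⟨k, hk⟩ := mem_zpowers_iff.1 (mem_zpowers_sq hzo)
    exact (hk ▸ hc.zpow_left k).eq

include T in
theorem no_fixed_prime {a : G} {l : ℕ} [hl : Fact l.Prime] (ha : a ∈ c.Rg T) (hal : orderOf a = l)
    (hσ : c.σ * a = a * c.σ) : False := by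
  classical
  haveI := c.isCyclic_Rg T
  have h3e := c.three_not_dvd T
  have hle : l ∣ c.e := hal ▸ c.card_Rg T ▸ Subgroup.orderOf_dvd_natCard _ ha
  have hl3 : l ≠ 3 := fun e => h3e (e ▸ hle)
  have hl2 : l ≠ 2 := fun e => by
    have := c.e_odd.of_dvd_nat hle
    rw [e] at this; exact absurd this (by decide)
  have hlodd : Odd l := hl.out.odd_of_ne_two hl2
  have ha1 : a ≠ 1 := fun e => hl.out.ne_one (by rw [← hal, e, orderOf_one])
  have hRodd : Odd (Nat.card (c.Rg T)) := c.card_Rg T ▸ c.e_odd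
  obtain ⟨Tx, hTodd, hTcomm, hTl, hTmem, hTinv⟩ := c.exists_Tx T
  -- `C(σ)` has Sylow 2-subgroup `⟨x⟩`
  set C := centralizer ({c.σ} : Set G) with hC
  have hCmem : ∀ z, z ∈ C ↔ z * c.σ = c.σ * z := fun z => mem_centralizer_singleton_iff
  haveI : Fact (Nat.Prime 2) := ⟨Nat.prime_two⟩
  have hxne : c.x ≠ 1 := fun h => c.t_ne (conj_eq_one_iff.1 (c.hgx.trans h))
  have hxo : orderOf c.x = 2 := orderOf_eq_prime (by rw [pow_two]; exact c.x_sq) hxne
  let xC : C := ⟨c.x, (hCmem _).2 c.x_σ⟩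
  obtain ⟨X, hX⟩ := (IsPGroup.of_card (p := 2) (n := 1) (G := zpowers xC)
    (by rw [Nat.card_zpowers, pow_one, ← Subgroup.orderOf_coe]; exact hxo)).exists_le_sylow
  have hXmem : ∀ y ∈ (X : Subgroup C), y = 1 ∨ y = xC := by
    intro y hy
    have hsq : ∀ z ∈ (X : Subgroup C), (z : G) * z = 1 := fun z hz => by
      obtain ⟨k, hk⟩ := X.isPGroup' ⟨z, hz⟩
      refine c.two_sq _ ⟨k, ?_⟩
      exact congrArg (fun w : (X : Subgroup C) => ((w : C) : G)) hk
    have hxy : (y : G) * c.x = c.x * y := by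
      have h := hsq _ (mul_mem hy (hX (mem_zpowers xC)))
      calc (y : G) * c.x = ((y : G) * c.x)⁻¹ := (inv_eq_of_mul_eq_one_right h).symm
        _ = _ := by rw [mul_inv_rev, inv_eq_of_mul_eq_one_right (hsq y hy), inv_eq_of_mul_eq_one_right c.x_sq]
    rcases hTinv y ((hCmem _).1 y.2) hxy (hsq y hy) with h | h
    · exact Or.inl (Subtype.ext h)
    · exact Or.inr (Subtype.ext h)
  have hN : normalizer ((X : Subgroup C) : Set C) ≤ centralizer ((X : Subgroup C) : Set C) := by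
    intro g hg
    refine mem_centralizer_iff.2 fun y hy => ?_
    rcases hXmem y hy with rfl | rfl
    · rw [one_mul, mul_one]
    · rcases hXmem _ ((mem_normalizer_iff.1 hg _).1 hy) with h | h
      · exact absurd (congrArg Subtype.val (conj_eq_one_iff.1 h)) hxne
      · exact (mul_inv_eq_iff_eq_mul.1 h).symm
  have hcomp := MonoidHom.ker_transferSylow_isComplement' X hN
  set O₀ := (MonoidHom.transferSylow X hN).ker with hO₀
  have hO₀odd : Odd (Nat.card O₀) := by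
    rw [← hcomp.index_eq_card, Nat.odd_iff]
    have := X.not_dvd_index
    omega
  set O := O₀.map C.subtype with hO
  have hOodd : Odd (Nat.card O) := by rwa [hO, Subgroup.card_map_of_injective (subtype_injective C)]
  have hOC : ∀ z ∈ O, z * c.σ = c.σ * z := fun z hz => (hCmem z).1 (map_subtype_le O₀ hz)
  have hOord : ∀ z ∈ O, Odd (orderOf z) := fun z hz => hOodd.of_dvd_nat (Subgroup.orderOf_dvd_natCard O hz)
  have hOmem : ∀ z : G, z * c.σ = c.σ * z → Odd (orderOf z) → z ∈ O := by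
    intro z hz hzo
    refine ⟨⟨z, (hCmem z).2 hz⟩, ?_, rfl⟩
    obtain ⟨⟨o, y⟩, hy⟩ := hcomp.2 (⟨z, (hCmem z).2 hz⟩ : C)
    set π := QuotientGroup.mk' O₀
    have h1 : π ⟨z, (hCmem z).2 hz⟩ = π (y : C) := by
      rw [← hy]; show π ((o : C) * y) = _
      rw [map_mul, show π (o : C) = 1 from (QuotientGroup.eq_one_iff _).2 o.2, one_mul]
    have h2 : orderOf (π ⟨z, (hCmem z).2 hz⟩) ∣ 2 := by
      refine orderOf_dvd_of_pow_eq_one ?_
      rw [h1, pow_two, ← map_mul]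
      rcases hXmem (y : C) (SetLike.mem_coe.1 y.2) with e | e <;> rw [e]
      · rw [one_mul, map_one]
      · rw [show xC * xC = 1 from Subtype.ext c.x_sq, map_one]
    exact (QuotientGroup.eq_one_iff _).1 (orderOf_eq_one_iff.1 (Nat.eq_one_of_dvd_coprimes
      (Nat.coprime_two_left.2 hzo) h2 ((orderOf_map_dvd π _).trans (by rw [← Subgroup.orderOf_coe]))))
  have haO : a ∈ O := hOmem a hσ.symm (hal ▸ hlodd)
  have hσo : Odd (orderOf c.σ) := by rw [c.orderOf_σ]; decide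
  have hσO : c.σ ∈ O := hOmem _ rfl hσo
  have hTO : Tx ≤ O := fun z hz => hOmem z ((hTmem z).1 hz).1 ((hTmem z).1 hz).2.2
  have hnormO : ∀ g : G, g * c.σ = c.σ * g → g ∈ normalizer (O : Set G) := by
    intro g hg
    have hinv : g⁻¹ * c.σ = c.σ * g⁻¹ := (show Commute g c.σ from hg).inv_left.eq
    have key : ∀ g : G, g * c.σ = c.σ * g → ∀ z ∈ O, g * z * g⁻¹ ∈ O := fun g hg z hz => hOmem _
      (((show Commute g c.σ from hg).mul_left (hOC z hz)).mul_left (show Commute g c.σ from hg).inv_left).eq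
      (by rw [← MulAut.conj_apply, MulEquiv.orderOf_eq]; exact hOord z hz)
    refine mem_normalizer_iff.2 fun z => ⟨key g hg z, fun hz => ?_⟩
    have h := key g⁻¹ hinv _ hz
    rwa [show g⁻¹ * (g * z * g⁻¹) * g⁻¹⁻¹ = z by group] at h
  -- `C_O(a)`
  have hCOa : ∀ z ∈ O, z * a = a * z → ∃ b ∈ c.Rg T, b * c.σ = c.σ * b ∧ ∃ j : ℕ, z = b * c.σ ^ j := by
    intro z hz hza
    obtain ⟨b, hb, j, rfl⟩ := c.fixed_cent T ha ha1 hσ hza (hOC z hz) (hOord z hz)
    refine ⟨b, hb, ?_, j, rfl⟩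
    have h := (show Commute (b * c.σ ^ j) c.σ from hOC _ hz).mul_left (((Commute.refl c.σ).pow_left j).inv_left)
    rwa [mul_inv_cancel_right] at h
  -- a Sylow `l`-subgroup
  set Rσ := c.Rg T ⊓ C with hRσ
  obtain ⟨S₀, hS₀⟩ := (IsPGroup.of_card (p := l) (n := 1)
    (G := (zpowers a).subgroupOf Rσ) (by
      rw [Nat.card_congr (subgroupOfEquivOfLe (zpowers_le.2 (show a ∈ Rσ from ⟨ha, (hCmem a).2 hσ.symm⟩))).toEquiv,
        Nat.card_zpowers, hal, pow_one])).exists_le_sylow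
  set L := (S₀ : Subgroup Rσ).map Rσ.subtype with hL
  have hLR : L ≤ Rσ := map_subtype_le _
  have haL : a ∈ L := ⟨⟨a, ha, (hCmem a).2 hσ.symm⟩, hS₀ (mem_zpowers a), rfl⟩
  have hLO : L ≤ O := fun z hz => hOmem z ((hCmem z).1 (hLR hz).2)
    (hRodd.of_dvd_nat (Subgroup.orderOf_dvd_natCard _ (hLR hz).1))
  have hcentL : ∀ z ∈ O, z * a = a * z → ∀ y ∈ L, z * y = y * z := by
    intro z hz hza y hy
    obtain ⟨b, hb, -, j, rfl⟩ := hCOa z hz hza
    exact ((show Commute b y from c.Rg_comm T hb (hLR hy).1).mul_left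
      ((show Commute y c.σ from (hCmem y).1 (hLR hy).2).symm.pow_left j)).eq
  have hnormL : ∀ z ∈ O, z ∈ normalizer (L : Set G) → z * a = a * z := fun z hz hzn =>
    c.normal_cent T ha ha1 hσ (mem_zpowers_of_pow (c.Rg T) ha (hLR ((mem_normalizer_iff.1 hzn a).1 haL)).1
      hl.out.pos hal (by rw [conj_pow, ← hal, pow_orderOf_eq_one, mul_one, mul_inv_cancel]))
      (hOord z hz)
  have hLp : IsPGroup l L := S₀.isPGroup'.map _
  have hLO' : IsPGroup l (L.subgroupOf O) := hLp.of_equiv (subgroupOfEquivOfLe hLO).symm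
  obtain ⟨Q, hQ⟩ := hLO'.exists_le_sylow
  have hQL : (Q : Subgroup O) = L.subgroupOf O := by
    refine le_antisymm ?_ hQ
    by_contra hne
    set L' := (L.subgroupOf O).subgroupOf (Q : Subgroup O) with hL'
    have hlt : L' < ⊤ := lt_top_iff_ne_top.2 fun e => hne (subgroupOf_eq_top.1 e)
    haveI := Q.isPGroup'.isNilpotent
    obtain ⟨z, hzn, hzL⟩ := SetLike.exists_of_lt (normalizerCondition_of_isNilpotent L' hlt)
    apply hzL
    have hzL' : ((z : O) : G) ∈ normalizer (L : Set G) := by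
      rw [mem_normalizer_iff]
      have key : ∀ g : (Q : Subgroup O), g ∈ normalizer (L' : Set (Q : Subgroup O)) → ∀ y ∈ L,
          ((g : O) : G) * y * ((g : O) : G)⁻¹ ∈ L := by
        intro g hg y hy
        exact (mem_normalizer_iff.1 hg ⟨⟨y, hLO hy⟩, hQ (mem_subgroupOf.2 hy)⟩).1
          (mem_subgroupOf.2 (mem_subgroupOf.2 hy))
      refine fun y => ⟨key z hzn y, fun hy => ?_⟩
      have h := key z⁻¹ (inv_mem hzn) _ hy
      simp only [Subgroup.coe_inv] at h
      rwa [show ((z : O) : G)⁻¹ * (((z : O) : G) * y * ((z : O) : G)⁻¹) * (((z : O) : G)⁻¹)⁻¹ = y by group] at h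
    have hza := hnormL _ (z : O).2 hzL'
    obtain ⟨b, hb, hbσ, j, e⟩ := hCOa _ (z : O).2 hza
    obtain ⟨k, hk⟩ := Q.isPGroup' z
    have hk' : ((z : O) : G) ^ l ^ k = 1 := congrArg (fun w : (Q : Subgroup O) => ((w : O) : G)) hk
    have hcb : Commute b (c.σ ^ j) := (show Commute b c.σ from hbσ).pow_right j
    rw [e, hcb.mul_pow, ← pow_mul] at hk'
    have hσj : c.σ ^ j = 1 := by
      have h3 : (3 : ℕ) ∣ j * l ^ k := by
        have hR : c.σ ^ (j * l ^ k) ∈ c.Rg T := by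
          rw [eq_inv_of_mul_eq_one_right hk']; exact inv_mem (pow_mem hb _)
        by_contra hn3
        rw [pow_eq_pow_mod _ c.σ_cube] at hR
        rcases (show j * l ^ k % 3 = 1 ∨ j * l ^ k % 3 = 2 by omega) with h | h <;> rw [h] at hR
        · exact c.σ_not_mem_Rg T (by rwa [pow_one] at hR)
        · have h4 := pow_mem hR 2
          rw [← pow_mul, show (2 : ℕ) * 2 = 3 + 1 from rfl, pow_add, c.σ_cube, one_mul, pow_one] at h4
          exact c.σ_not_mem_Rg T h4
      have h3j : 3 ∣ j := (Nat.Coprime.dvd_of_dvd_mul_right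
        (Nat.Coprime.pow_right k ((Nat.coprime_primes Nat.prime_three hl.out).2 (Ne.symm hl3))) h3)
      obtain ⟨m, rfl⟩ := h3j
      rw [pow_mul, c.σ_cube, one_pow]
    rw [pow_mul, hσj, one_pow, mul_one] at hk'
    rw [hσj, mul_one] at e
    refine mem_subgroupOf.2 (mem_subgroupOf.2 ?_)
    rw [e]
    have hbR : b ∈ Rσ := ⟨hb, (hCmem b).2 hbσ⟩
    letI : CommGroup ↥Rσ := { (inferInstance : Group ↥Rσ) with
      mul_comm := fun u v => Subtype.ext (c.Rg_comm T u.2.1 v.2.1) }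
    obtain ⟨S₁, hS₁⟩ := (IsPGroup.exists_le_sylow (p := l) (P := zpowers (⟨b, hbR⟩ : Rσ)) (fun w => by
      obtain ⟨w, i, rfl⟩ := w
      refine ⟨k, Subtype.ext ?_⟩
      rw [SubmonoidClass.coe_pow]
      show ((⟨b, hbR⟩ : Rσ) ^ i) ^ l ^ k = 1
      rw [← zpow_natCast, ← zpow_mul, mul_comm, zpow_mul, zpow_natCast,
        show (⟨b, hbR⟩ : Rσ) ^ l ^ k = 1 from Subtype.ext hk', one_zpow]))
    obtain ⟨g, hg⟩ := MulAction.exists_smul_eq Rσ S₁ S₀
    refine ⟨⟨b, hbR⟩, ?_, rfl⟩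
    rw [← hg, Sylow.coe_subgroup_smul]
    refine ⟨⟨b, hbR⟩, hS₁ (mem_zpowers _), ?_⟩
    show g * (⟨b, hbR⟩ : Rσ) * g⁻¹ = _
    rw [mul_comm g, mul_inv_cancel_right]
  have hQN : normalizer ((Q : Subgroup O) : Set O) ≤ centralizer ((Q : Subgroup O) : Set O) := by
    intro g hg
    rw [hQL] at hg ⊢
    have hgn : (g : G) ∈ normalizer (L : Set G) := by
      rw [mem_normalizer_iff]
      intro y
      constructor
      · intro hy
        exact mem_subgroupOf.1 ((mem_normalizer_iff.1 hg ⟨y, hLO hy⟩).1 (mem_subgroupOf.2 hy))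
      · intro hy
        have h := mem_subgroupOf.1 ((mem_normalizer_iff.1 (inv_mem hg) ⟨_, hLO hy⟩).1 (mem_subgroupOf.2 hy))
        simp only [Subgroup.coe_mul, Subgroup.coe_inv] at h
        rwa [show (g : G)⁻¹ * ((g : G) * y * (g : G)⁻¹) * ((g : G)⁻¹)⁻¹ = y by group] at h
    exact mem_centralizer_iff.2 fun y hy => Subtype.ext
      (hcentL _ g.2 (hnormL _ g.2 hgn) _ (mem_subgroupOf.1 hy)).symm
  have hMcomp := MonoidHom.ker_transferSylow_isComplement' Q hQN
  set M₀ := (MonoidHom.transferSylow Q hQN).ker with hM₀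
  have hM₀l : ¬ l ∣ Nat.card M₀ := by rw [← hMcomp.index_eq_card]; exact Q.not_dvd_index
  set M := M₀.map O.subtype with hM
  have hMO : M ≤ O := map_subtype_le M₀
  have hcardM : Nat.card M = Nat.card M₀ := by rw [hM, Subgroup.card_map_of_injective (subtype_injective O)]
  have hMl : ¬ l ∣ Nat.card M := hcardM ▸ hM₀l
  have hModd : Odd (Nat.card M) := hOodd.of_dvd_nat (card_dvd_of_le hMO)
  have hMmem : ∀ z ∈ O, ¬ l ∣ orderOf z → z ∈ M := by
    intro z hz hzl
    refine ⟨⟨z, hz⟩, ?_, rfl⟩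
    refine MonoidHom.mem_ker.2 (orderOf_eq_one_iff.1 ?_)
    obtain ⟨k, hk⟩ := Q.isPGroup' (MonoidHom.transferSylow Q hQN ⟨z, hz⟩)
    have h1 := orderOf_dvd_of_pow_eq_one hk
    have h2 : orderOf (MonoidHom.transferSylow Q hQN ⟨z, hz⟩) ∣ orderOf z :=
      (orderOf_map_dvd _ _).trans (by rw [← Subgroup.orderOf_coe])
    exact Nat.eq_one_of_dvd_coprimes (((Nat.Prime.coprime_iff_not_dvd hl.out).2 hzl).pow_left k) h1 h2
  have hnormM : ∀ g : G, g * c.σ = c.σ * g → g ∈ normalizer (M : Set G) := by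
    intro g hg
    refine mem_normalizer_iff.2 fun z => ⟨fun hz => ?_, fun hz => ?_⟩
    · refine hMmem _ ((mem_normalizer_iff.1 (hnormO g hg) z).1 (hMO hz)) ?_
      rw [← MulAut.conj_apply, MulEquiv.orderOf_eq]
      exact fun h => hMl (h.trans (Subgroup.orderOf_dvd_natCard M hz))
    · refine hMmem _ ((mem_normalizer_iff.1 (hnormO g hg) z).2 (hMO hz)) ?_
      have h : orderOf (g * z * g⁻¹) = orderOf z := by rw [← MulAut.conj_apply, MulEquiv.orderOf_eq]
      exact fun h' => hMl ((h.symm ▸ h').trans (Subgroup.orderOf_dvd_natCard M hz))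
  -- the two invariant Sylow arguments
  set A := zpowers c.x ⊔ zpowers a with hA
  have hxa : c.x ∈ normalizer (zpowers a : Set G) := by
    rw [CfsgLib.Core.mem_normalizer_iff_conj_smul_eq, CfsgLib.Core.conj_smul_eq_map, MonoidHom.map_zpowers]
    show zpowers (c.x * a * c.x⁻¹) = zpowers a
    rw [c.x_Rg T ha, zpowers_inv]
  obtain ⟨hAcard, hAsol⟩ := isSolvable_dih hal hl2 hxo hxa
  have hAM : A ≤ normalizer (M : Set G) :=
    sup_le (zpowers_le.2 (hnormM _ c.x_σ)) (zpowers_le.2 (hnormM _ hσ.symm))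
  have hxM : zpowers c.x ≤ normalizer (M : Set G) := zpowers_le.2 (hnormM _ c.x_σ)
  have hcopA : (Nat.card A).Coprime (Nat.card M) := by
    rw [hAcard]
    exact Nat.Coprime.mul_left (Nat.coprime_two_left.2 hModd) ((Nat.Prime.coprime_iff_not_dvd hl.out).2 hMl)
  have hxcop : (Nat.card (zpowers c.x)).Coprime (Nat.card M) := by
    rw [Nat.card_zpowers, hxo]; exact Nat.coprime_two_left.2 hModd
  have hxsol : Group.IsSolvable (zpowers c.x) := by
    haveI : IsCyclic (zpowers c.x) := Subgroup.isCyclic_zpowers c.x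
    exact Group.isSolvable_of_comm fun u v => Std.Commutative.comm u v
  set τ := Nat.card Tx with hτ
  have hτsq := hTl l hl hle
  have hlτ : ¬ l ∣ τ := fun h => by
    rw [(ZMod.natCast_eq_zero_iff τ l).2 h] at hτsq
    norm_num at hτsq
  have hTM : Tx ≤ M := fun z hz => hMmem z (hTO hz) fun h => hlτ (h.trans (Subgroup.orderOf_dvd_natCard Tx hz))
  have hσT : c.σ ∈ Tx := (hTmem _).2 ⟨rfl, c.x_σ.symm, hσo⟩
  have h3τ : 3 ∣ τ := c.orderOf_σ ▸ Subgroup.orderOf_dvd_natCard Tx hσT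
  have hCx : ∀ z ∈ M, z * c.x = c.x * z → z ∈ Tx := fun z hz hzx =>
    (hTmem z).2 ⟨hOC z (hMO hz), hzx, hOord z (hMO hz)⟩
  have hCxa : ∀ z ∈ M, z * c.x = c.x * z → z * a = a * z → z ∈ zpowers c.σ := by
    intro z hz hzx hza
    obtain ⟨b, hb, -, j, rfl⟩ := hCOa z (hMO hz) hza
    have h : c.x * (b * c.σ ^ j) * c.x⁻¹ = b * c.σ ^ j := mul_inv_eq_iff_eq_mul.2 hzx.symm
    rw [← conj_mul, c.x_Rg T hb, ((show Commute c.x c.σ from c.x_σ).pow_right j).eq, mul_inv_cancel_right] at h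
    have hb2 : b = 1 := by
      have h' : b⁻¹ = b := mul_right_cancel h
      refine orderOf_eq_one_iff.1 (Nat.eq_one_of_dvd_coprimes
        (Nat.coprime_two_left.2 (hRodd.of_dvd_nat (Subgroup.orderOf_dvd_natCard _ hb)))
        (orderOf_dvd_of_pow_eq_one ?_) dvd_rfl)
      rw [pow_two]; nth_rewrite 1 [← h']; exact inv_mul_cancel b
    rw [hb2, one_mul]; exact pow_mem (mem_zpowers _) j
  have hloc : ∀ π ∈ τ.primeFactors,
      ((π ^ τ.factorization π : ℕ) : ZMod l) ^ 2 = ((π ^ (3 : ℕ).factorization π : ℕ) : ZMod l) ^ 2 := by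
    intro π hπ
    obtain ⟨hπp, hπτ, -⟩ := Nat.mem_primeFactors.1 hπ
    haveI := Fact.mk hπp
    have hπ2 : π ≠ 2 := fun e => absurd (hTodd.of_dvd_nat (e ▸ hπτ)) (by decide)
    have hπl : π ≠ l := fun e => hlτ (e ▸ hπτ)
    obtain ⟨P₀, hP₀⟩ := CfsgLib.Core.exists_invariant_sylow hAM hcopA (Or.inl hAsol) π
    set P := (P₀ : Subgroup M).map M.subtype with hP
    have hPM : P ≤ M := map_subtype_le _
    have hPp : IsPGroup π P := P₀.isPGroup'.map _
    have hxA : c.x ∈ A := mem_sup_left (mem_zpowers _)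
    have haA : a ∈ A := mem_sup_right (mem_zpowers _)
    -- fixed points of `x`
    have e1 : Nat.card ↥(P ⊓ centralizer ({c.x} : Set G)) = π ^ τ.factorization π := by
      refine Nat.dvd_antisymm ?_ ?_
      · obtain ⟨k, hk⟩ := IsPGroup.iff_card.1 (hPp.to_le (inf_le_left : P ⊓ centralizer ({c.x} : Set G) ≤ P))
        have hdvd : π ^ k ∣ τ := hk ▸ card_dvd_of_le (fun z (hz : z ∈ P ⊓ centralizer ({c.x} : Set G)) =>
          hCx z (hPM hz.1) (mem_centralizer_singleton_iff.1 hz.2))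
        rw [hk]
        exact pow_dvd_pow π ((Nat.Prime.pow_dvd_iff_le_factorization hπp Nat.card_pos.ne').1 hdvd)
      · obtain ⟨U₀⟩ : Nonempty (Sylow π Tx) := Sylow.nonempty
        set U := (U₀ : Subgroup Tx).map Tx.subtype with hU
        have hUT : U ≤ Tx := map_subtype_le _
        have hxU : zpowers c.x ≤ normalizer (U : Set G) := by
          refine zpowers_le.2 (mem_normalizer_iff.2 fun z => ?_)
          have hcm : ∀ w ∈ U, c.x * w * c.x⁻¹ = w := fun w hw =>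
            mul_inv_eq_iff_eq_mul.2 ((hTmem w).1 (hUT hw)).2.1.symm
          refine ⟨fun hz => by rw [hcm z hz]; exact hz, fun hz => ?_⟩
          have h := hcm _ hz
          rw [mul_left_inj, mul_right_inj] at h
          rwa [h] at hz
        obtain ⟨P₁, hP₁, hP₁n⟩ := CfsgLib.Core.exists_invariant_sylow_ge hxM hxcop (Or.inl hxsol)
          (hUT.trans hTM) (U₀.isPGroup'.map Tx.subtype) hxU
        obtain ⟨g, hgc, hgP⟩ := CfsgLib.Core.invariant_sylow_conj hxM hxcop (Or.inl hxsol) P₁ P₀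
          hP₁n ((zpowers_le.2 hxA).trans hP₀)
        have hgT : (g : G) ∈ Tx := hCx g g.2 (mem_centralizer_iff.1 hgc c.x (mem_zpowers _)).symm
        have hUP : U ≤ P ⊓ centralizer ({c.x} : Set G) := by
          intro z hz
          refine ⟨?_, mem_centralizer_singleton_iff.2 ((hTmem z).1 (hUT hz)).2.1⟩
          rw [hP, ← hgP, Sylow.coe_subgroup_smul]
          obtain ⟨y, hy, hyz⟩ := hP₁ hz
          refine ⟨g * y * g⁻¹, ⟨y, hy, rfl⟩, ?_⟩
          show (g : G) * (y : G) * (g : G)⁻¹ = z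
          rw [show (y : G) = z from hyz, hTcomm _ hgT _ (hUT hz), mul_inv_cancel_right]
        rw [hτ, ← U₀.card_eq_multiplicity, ← Subgroup.card_map_of_injective (subtype_injective Tx)]
        exact card_dvd_of_le hUP
    -- common fixed points
    have e2 : Nat.card ↥(P ⊓ centralizer ({a} : Set G) ⊓ centralizer ({c.x} : Set G)) =
        π ^ (3 : ℕ).factorization π := by
      set CD := P ⊓ centralizer ({a} : Set G) ⊓ centralizer ({c.x} : Set G) with hCD
      have hsub : CD ≤ zpowers c.σ := fun z hz => hCxa z (hPM hz.1.1) (mem_centralizer_singleton_iff.1 hz.2)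
        (mem_centralizer_singleton_iff.1 hz.1.2)
      obtain ⟨k, hk⟩ := IsPGroup.iff_card.1 (hPp.to_le (inf_le_left.trans inf_le_left : CD ≤ P))
      have hdvd := card_dvd_of_le hsub
      rw [hk, Nat.card_zpowers, c.orderOf_σ] at hdvd
      refine hk.trans ?_
      by_cases hπ3 : π = 3
      · subst hπ3
        rw [Nat.Prime.factorization_self Nat.prime_three]
        congr 1
        refine le_antisymm (((Nat.Prime.pow_dvd_iff_le_factorization Nat.prime_three (by norm_num)).1 hdvd).trans_eq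
          (Nat.Prime.factorization_self Nat.prime_three)) ?_
        have hU : IsPGroup 3 (zpowers c.σ) := IsPGroup.of_card (n := 1) (by rw [Nat.card_zpowers, c.orderOf_σ, pow_one])
        have hUn : A ≤ normalizer (zpowers c.σ : Set G) := by
          refine sup_le (zpowers_le.2 ?_) (zpowers_le.2 ?_)
          all_goals rw [CfsgLib.Core.mem_normalizer_iff_conj_smul_eq, CfsgLib.Core.conj_smul_eq_map, MonoidHom.map_zpowers]
          · show zpowers (c.x * c.σ * c.x⁻¹) = zpowers c.σ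
            rw [c.x_σ, mul_inv_cancel_right]
          · show zpowers (a * c.σ * a⁻¹) = zpowers c.σ
            rw [← hσ, mul_inv_cancel_right]
        obtain ⟨P₁, hP₁, hP₁n⟩ := CfsgLib.Core.exists_invariant_sylow_ge hAM hcopA (Or.inl hAsol)
          (zpowers_le.2 (hTM hσT)) hU hUn
        obtain ⟨g, hgc, hgP⟩ := CfsgLib.Core.invariant_sylow_conj hAM hcopA (Or.inl hAsol) P₁ P₀ hP₁n hP₀
        have hgσ : (g : G) * c.σ = c.σ * g := hOC g (hMO g.2)
        have hσP : c.σ ∈ CD := by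
          refine ⟨⟨?_, mem_centralizer_singleton_iff.2 hσ⟩, mem_centralizer_singleton_iff.2 c.x_σ.symm⟩
          rw [hP, ← hgP, Sylow.coe_subgroup_smul]
          obtain ⟨y, hy, hyz⟩ := hP₁ (mem_zpowers c.σ)
          refine ⟨g * y * g⁻¹, ⟨y, hy, rfl⟩, ?_⟩
          show (g : G) * (y : G) * (g : G)⁻¹ = c.σ
          rw [show (y : G) = c.σ from hyz, hgσ, mul_inv_cancel_right]
        have h3 := Subgroup.orderOf_dvd_natCard CD hσP
        rw [c.orderOf_σ, hk] at h3
        by_contra hk0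
        rw [show k = 0 by omega, pow_zero] at h3
        norm_num at h3
      · rw [Nat.Prime.factorization Nat.prime_three, Finsupp.single_apply, if_neg (Ne.symm hπ3), pow_zero]
        exact Nat.eq_one_of_dvd_coprimes (((Nat.coprime_primes hπp Nat.prime_three).2 hπ3).pow_left k) dvd_rfl hdvd
    -- the formula
    have ha' : a ^ l = 1 := by rw [← hal]; exact pow_orderOf_eq_one a
    have hF := dihedral_formula hπ2 hlodd (fun h => hπl ((Nat.prime_dvd_prime_iff_eq hπp hl.out).1 h))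
      ha' c.x_sq (c.x_Rg T ha) P hPp (hP₀ haA) (hP₀ hxA)
    rw [e1, e2] at hF
    have hcong := (ZMod.natCast_eq_natCast_iff _ _ _).2 (card_modEq_fixed ha' P (hP₀ haA))
    have hne : ((Nat.card ↥(P ⊓ centralizer ({a} : Set G)) : ℕ) : ZMod l) ≠ 0 := by
      rw [Ne, ZMod.natCast_eq_zero_iff]
      obtain ⟨k, hk⟩ := IsPGroup.iff_card.1 (hPp.to_le (inf_le_left : P ⊓ centralizer ({a} : Set G) ≤ P))
      rw [hk]
      exact fun h => hπl ((Nat.prime_dvd_prime_iff_eq hl.out hπp).1 (hl.out.dvd_of_dvd_pow h)).symm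
    have hF' := congrArg (Nat.cast : ℕ → ZMod l) hF
    push_cast at hF'
    rw [hcong, mul_comm (((π : ZMod l) ^ τ.factorization π) ^ 2)] at hF'
    push_cast
    exact (mul_left_cancel₀ hne hF').symm
  have hprod : ∀ n : ℕ, n ≠ 0 → n ∣ τ → n = ∏ π ∈ τ.primeFactors, π ^ n.factorization π := by
    intro n hn hnτ
    conv_lhs => rw [← Nat.prod_factorization_pow_eq_self hn]
    rw [Nat.prod_factorization_eq_prod_primeFactors]
    refine Finset.prod_subset (Nat.primeFactors_mono hnτ Nat.card_pos.ne') fun π _ hπ' => ?_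
    rw [Finsupp.notMem_support_iff.1 (by rwa [Nat.support_factorization]), pow_zero]
  have h9 : (τ : ZMod l) ^ 2 = ((3 : ℕ) : ZMod l) ^ 2 := by
    rw [hprod 3 (by norm_num) h3τ]
    conv_lhs => rw [hprod τ Nat.card_pos.ne' dvd_rfl]
    rw [Nat.cast_prod, Nat.cast_prod, ← Finset.prod_pow, ← Finset.prod_pow]
    exact Finset.prod_congr rfl hloc
  rw [hτsq] at h9
  have h8 : ((8 : ℕ) : ZMod l) = 0 := by
    push_cast at h9 ⊢
    linear_combination -h9
  have hl8 : l ∣ 2 ^ 3 := (ZMod.natCast_eq_zero_iff 8 l).1 h8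
  exact hl2 ((Nat.prime_dvd_prime_iff_eq hl.out Nat.prime_two).1 (hl.out.dvd_of_dvd_pow hl8))

/-- `σ` fixes no element of `R` but `1`. -/
theorem freeTwist (c : Ctx G Fq) {p : ℕ} (T : Tori Fq c.w p c.e c.f) : c.FreeTwist := by
  intro r hr hfix
  by_contra hr1
  set a₀ := c.ι r with ha₀
  have ha : a₀ ∈ c.Rg T := ⟨r, (T.mem_R r).2 hr, rfl⟩
  have hn1 : orderOf a₀ ≠ 1 := fun h => hr1 (c.inj ((orderOf_eq_one_iff.1 h).trans (map_one c.ι).symm))
  haveI := Fact.mk (Nat.minFac_prime hn1)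
  have hord : orderOf (a₀ ^ (orderOf a₀ / (orderOf a₀).minFac)) = (orderOf a₀).minFac := by
    rw [orderOf_pow_of_dvd (Nat.div_pos (Nat.minFac_le (orderOf_pos a₀)) (Nat.minFac_pos _)).ne'
      (Nat.div_dvd_of_dvd (Nat.minFac_dvd _)), Nat.div_div_self (Nat.minFac_dvd _) (orderOf_pos a₀).ne']
  exact c.no_fixed_prime T (pow_mem ha _) hord
    ((show Commute c.σ a₀ from mul_inv_eq_iff_eq_mul.1 hfix).pow_right _).eq

/-- `C(r) = D × R` for `r ∈ R`, `r ≠ 1`. -/
theorem smallCentralizer (c : Ctx G Fq) {p : ℕ} (T : Tori Fq c.w p c.e c.f) : c.SmallCentralizer :=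
  c.small_of_free T (c.freeTwist T)

end Ctx

end CfsgLib.Recog.JankoThompson
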