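import Cfsg.Agent.Lib.Core.TwoTimesPSL.PSLFacts
import Cfsg.Agent.Lib.Classical.SL2Structure
import Cfsg.Agent.Lib.LocalEven.GoldS.PSLCent

/-!
Owner: helper17. Involutions and four-groups of `PSL(2, q)`, `q ≡ 3, 5 (mod 8)`.
-/

set_option autoImplicit false

namespace CfsgLib.Recog.JankoThompson

open Subgroup (zpowers mem_zpowers mem_normalizer_iff)
open CfsgLib.PLocal.SLTwo
open CfsgLib.LocalEven.GoldS.PSLF (mk mk_surjective mk_eq_mk mk_eq_one lift_commute lift_data)
open CfsgLib.Core.TwoTimesPSL (TransFacts psl_two_sylow_cases)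

variable {F : Type*} [Field F] [Fintype F]

local notation "P" => Matrix.ProjectiveSpecialLinearGroup (Fin 2) F

theorem two_ne_zero_of_mod_eight (hq : Fintype.card F % 8 = 3 ∨ Fintype.card F % 8 = 5) : (2 : F) ≠ 0 := by
  intro h
  have := FiniteField.even_card_of_char_two (F := F)
    (CharP.ringChar_of_prime_eq_zero Nat.prime_two (by exact_mod_cast h))
  omega

/-- The Sylow 2-subgroups are four-groups with a transitive element in the normaliser. -/
theorem klein_trans (hq : Fintype.card F % 8 = 3 ∨ Fintype.card F % 8 = 5) (hbig : 3 < Fintype.card F)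
    (Q : Sylow 2 P) : IsKleinFour (Q : Subgroup P) ∧ ∃ n, TransFacts (Q : Subgroup P) n := by
  have hK := CfsgLib.Classical.Two.isKleinFour_sylow_PSL rfl hq Q
  refine ⟨hK, ?_⟩
  rcases psl_two_sylow_cases (F := F) hbig with h | h
  · exact h Q
  · obtain ⟨k, hk, ⟨e⟩⟩ := h Q
    have h4 := Nat.card_congr e.toEquiv
    rw [IsKleinFour.card_four, DihedralGroup.nat_card] at h4
    have : 2 ^ 2 ≤ 2 ^ k := Nat.pow_le_pow_right two_pos hk
    omega

/-- All involutions are conjugate. -/
theorem psl_involutions_isConj (hq : Fintype.card F % 8 = 3 ∨ Fintype.card F % 8 = 5) (hbig : 3 < Fintype.card F)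
    {a b : P} (ha : orderOf a = 2) (hb : orderOf b = 2) : IsConj a b := by
  have : Fact (Nat.Prime 2) := ⟨Nat.prime_two⟩
  obtain ⟨Qa, hQa⟩ := (IsPGroup.of_card (n := 1) (by rw [Nat.card_zpowers, ha, pow_one]) :
    IsPGroup 2 (zpowers a)).exists_le_sylow
  obtain ⟨Qb, hQb⟩ := (IsPGroup.of_card (n := 1) (by rw [Nat.card_zpowers, hb, pow_one]) :
    IsPGroup 2 (zpowers b)).exists_le_sylow
  obtain ⟨g, hg⟩ := MulAction.exists_smul_eq P Qb Qa
  have hb' : g * b * g⁻¹ ∈ (Qa : Subgroup P) := by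
    rw [← hg, Sylow.coe_subgroup_smul]
    exact ⟨b, hQb (mem_zpowers b), rfl⟩
  obtain ⟨-, n, hn⟩ := klein_trans hq hbig Qa
  obtain ⟨k, hk⟩ := hn.trans a (hQa (mem_zpowers a)) (fun h => by simp [h] at ha) _ hb'
    (fun h => by rw [conj_eq_one_iff] at h; simp [h] at hb)
  exact (isConj_iff.2 ⟨n ^ k, hk⟩).trans (isConj_iff.2 ⟨g, rfl⟩).symm

/-- An element of odd order centralising two commuting involutions is trivial. -/
theorem odd_centralizer_klein (h2 : (2 : F) ≠ 0) {a b r : P} (ha : orderOf a = 2) (hb : orderOf b = 2)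
    (hab : a * b = b * a) (hne : a ≠ b) (hr : Odd (orderOf r)) (hra : a * r = r * a) (hrb : b * r = r * b) :
    r = 1 := by
  by_contra hr1
  have hrr : r * r ≠ 1 := fun h => by
    have hd : orderOf r ∣ 2 := orderOf_dvd_of_pow_eq_one (by rw [pow_two]; exact h)
    rcases (Nat.dvd_prime Nat.prime_two).1 hd with h' | h'
    · exact hr1 (orderOf_eq_one_iff.1 h')
    · rw [h'] at hr; exact absurd hr (by decide)
  obtain ⟨y, rfl, hn, ht⟩ := lift_data hrr
  have hlift : ∀ c : P, orderOf c = 2 → c * mk y = mk y * c → ∃ z : S2 F, mk z = c ∧ y * z = z * y ∧ z * z = -1 := by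
    intro c hc hcy
    obtain ⟨z, rfl⟩ := mk_surjective c
    refine ⟨z, rfl, lift_commute hcy ht h2, ?_⟩
    have hzz : mk (z * z) = 1 := by
      rw [map_mul, ← pow_two]
      exact orderOf_dvd_iff_pow_eq_one.1 (dvd_of_eq hc)
    rcases mk_eq_one.1 hzz with h | h
    · exfalso
      rcases CfsgLib.Classical.Two.eq_one_or_neg_one_of_sq h2 z h with e | e
      · have : z = 1 := Subtype.ext e
        rw [this, map_one, orderOf_one] at hc
        omega
      · have : z = -1 := Subtype.ext (by rw [e]; simp)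
        rw [this, mk_eq_one.2 (Or.inr rfl), orderOf_one] at hc
        omega
    · exact h
  obtain ⟨A, rfl, hA, hAA⟩ := hlift a ha hra
  obtain ⟨B, rfl, hB, hBB⟩ := hlift b hb hrb
  have hc := commute_of_commute hn hA hB
  have h1 : A * B * (A * B) = 1 := by
    rw [mul_assoc, ← mul_assoc B A B, ← hc, mul_assoc A B B, hBB, ← mul_assoc, hAA]
    simp
  refine hne ?_
  have h : mk (A * B) = 1 := by
    rcases CfsgLib.Classical.Two.eq_one_or_neg_one_of_sq h2 _ h1 with e | e
    · exact mk_eq_one.2 (Or.inl (Subtype.ext e))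
    · exact mk_eq_one.2 (Or.inr (Subtype.ext (by rw [e]; simp)))
  rw [map_mul] at h
  rw [eq_inv_of_mul_eq_one_left h]
  exact inv_eq_of_mul_eq_one_left ((pow_two _).symm.trans (orderOf_dvd_iff_pow_eq_one.1 (dvd_of_eq hb)))

/-- An element of order three permuting the involutions of a four-group. -/
theorem exists_cycle (hq : Fintype.card F % 8 = 3 ∨ Fintype.card F % 8 = 5) (hbig : 3 < Fintype.card F)
    {a b : P} (ha : orderOf a = 2) (hb : orderOf b = 2) (hab : a * b = b * a) (hne : a ≠ b) :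
    ∃ r : P, r ^ 3 = 1 ∧ r * a * r⁻¹ = b ∧ r * b * r⁻¹ = a * b := by
  have : Fact (Nat.Prime 2) := ⟨Nat.prime_two⟩
  have hsq : ∀ c : P, orderOf c = 2 → c * c = 1 := fun c hc => (pow_two c).symm.trans (orderOf_dvd_iff_pow_eq_one.1 (dvd_of_eq hc))
  have hz : ∀ c : P, orderOf c = 2 → IsPGroup 2 (zpowers c) := fun c hc =>
    IsPGroup.of_card (n := 1) (by rw [Nat.card_zpowers, hc, pow_one])
  have hle : zpowers a ≤ Subgroup.normalizer ((zpowers b : Subgroup P) : Set P) := by
    refine Subgroup.zpowers_le.2 (Subgroup.centralizer_le_normalizer _ ?_)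
    rintro _ ⟨j, rfl⟩
    exact ((show Commute b a from hab.symm).zpow_left j).eq
  obtain ⟨Q, hQ⟩ := ((hz a ha).to_sup_of_normal_right' (hz b hb) hle).exists_le_sylow
  obtain ⟨hK, n, hn⟩ := klein_trans hq hbig Q
  have haQ : a ∈ (Q : Subgroup P) := hQ (Subgroup.mem_sup_left (mem_zpowers a))
  have hbQ : b ∈ (Q : Subgroup P) := hQ (Subgroup.mem_sup_right (mem_zpowers b))
  have ha1 : a ≠ 1 := fun h => by simp [h] at ha
  have hb1 : b ≠ 1 := fun h => by simp [h] at hb
  obtain ⟨k, hk⟩ := hn.trans a haQ ha1 b hbQ hb1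
  set r := n ^ k with hr
  have hodd : Odd (orderOf r) := hn.odd.of_dvd_nat (orderOf_pow_dvd k)
  have hrb : r * b * r⁻¹ = a * b := by
    have hmem := (mem_normalizer_iff.1 (pow_mem hn.mem k) b).1 hbQ
    rcases CfsgLib.TwoGroups.klein_cases hK haQ hbQ ha1 hb1 hne hmem with h | h | h | h
    · exact absurd (conj_eq_one_iff.1 h) hb1
    · exfalso
      obtain ⟨j, hj⟩ := hodd
      have h2 : r ^ 2 * a = a * r ^ 2 := by
        rw [← mul_inv_eq_iff_eq_mul, pow_two]
        calc r * r * a * (r * r)⁻¹ = r * (r * a * r⁻¹) * r⁻¹ := by group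
          _ = a := by rw [hk, h]
      have h3 : r * a = a * r := by
        have h4 : Commute (r ^ (2 * (j + 1))) a := by rw [pow_mul]; exact Commute.pow_left h2 (j + 1)
        rw [show 2 * (j + 1) = orderOf r + 1 by omega, pow_succ, pow_orderOf_eq_one, one_mul] at h4
        exact h4
      rw [h3, mul_inv_cancel_right] at hk
      exact hne hk
    · exfalso
      refine hne (mul_left_cancel (mul_right_cancel (hk.trans h.symm)))
    · exact h
  have hrab : r * (a * b) * r⁻¹ = a := by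
    calc r * (a * b) * r⁻¹ = (r * a * r⁻¹) * (r * b * r⁻¹) := by group
      _ = a := by rw [hk, hrb, hab, ← mul_assoc, hsq b hb, one_mul]
  refine ⟨r, ?_, hk, hrb⟩
  have hfix : ∀ c : P, r * (r * (r * c * r⁻¹) * r⁻¹) * r⁻¹ = c → c * r ^ 3 = r ^ 3 * c := fun c h =>
    calc c * r ^ 3 = r * (r * (r * c * r⁻¹) * r⁻¹) * r⁻¹ * r ^ 3 := by rw [h]
      _ = r ^ 3 * c := by simp [pow_succ, mul_assoc]
  exact odd_centralizer_klein (two_ne_zero_of_mod_eight hq) ha hb hab hne
    (hodd.of_dvd_nat (orderOf_pow_dvd 3)) (hfix a (by rw [hk, hrb, hrab])) (hfix b (by rw [hrb, hrab, hk]))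

end CfsgLib.Recog.JankoThompson
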