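import Cfsg.Agent.Lib.Recog.JankoThompson.CentSplit
import Cfsg.Agent.Lib.Recog.TwoTimesAlt.FourMain
import Cfsg.Agent.Lib.Recog.SimpleSixty
import Cfsg.Agent.Lib.Classical.PSLAbelianSylow
import Cfsg.Agent.Lib.Classical.SmallIso
import Cfsg.Agent.S3216
import Cfsg.Agent.S0448

/-!
Owner: helper17. `C(t) ≅ Z₂ × PSL(2, q)` with abelian Sylow 2-subgroups in a simple group: the small cases,
the even case and `q ≡ 3, 5 (mod 8)`.
-/

set_option autoImplicit false

namespace CfsgLib.Recog.JankoThompson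

open Subgroup

/-- The model of the centraliser. -/
abbrev Mdl (F : Type*) [Field F] := Multiplicative (ZMod 2) × Matrix.ProjectiveSpecialLinearGroup (Fin 2) F

variable {G : Type*} [Group G] [Finite G]
  (hab : ∀ P : Sylow 2 G, ∀ a b : P, a * b = b * a) {t : G} (ht : orderOf t = 2)

include hab ht in
/-- The involution is `2`-central. -/
theorem two_central : Cfsg.IsTwoCentralInvolution t := by
  have : Fact (Nat.Prime 2) := ⟨Nat.prime_two⟩
  have hz : IsPGroup 2 (zpowers t) := IsPGroup.of_card (n := 1) (by rw [Nat.card_zpowers, ht, pow_one])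
  obtain ⟨S, hS⟩ := hz.exists_le_sylow
  exact ⟨ht, S, hS (mem_zpowers t), fun x hx => congrArg Subtype.val (hab S ⟨x, hx⟩ ⟨t, hS (mem_zpowers t)⟩)⟩

variable {F : Type*} [Field F] [Fintype F] (e : ↥(centralizer ({t} : Set G)) ≃* Mdl F)

omit [Finite G] in
include e in
/-- A group with such a centraliser is not commutative. -/
theorem not_comm (hq : 3 ≤ Fintype.card F) : ¬ IsMulCommutative G := by
  intro h
  have hc : ∀ a b : Matrix.ProjectiveSpecialLinearGroup (Fin 2) F, a * b = b * a := fun a b => by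
    have := congrArg (fun z => (e z).2)
      (Subtype.ext (h.is_comm.comm _ _) : e.symm (1, a) * e.symm (1, b) = e.symm (1, b) * e.symm (1, a))
    simpa using this
  rcases hq.eq_or_lt with h3 | h4
  · obtain ⟨f⟩ := CfsgLib.Classical.Two.psl_two_equiv_alternating (F := F) (k := 4) (by omega) (by omega) (by
      have h := CfsgLib.Classical.Two.card_PSL_two (F := F)
      rw [← h3] at h
      norm_num at h
      rw [show Nat.factorial 4 = 24 by rfl]
      omega)
    have hA : ∃ a b : alternatingGroup (Fin 4), a * b ≠ b * a := by decide +kernel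
    obtain ⟨a, b, hne⟩ := hA
    refine hne ?_
    have := congrArg f (hc (f.symm a) (f.symm b))
    simpa using this
  · have := CfsgLib.Classical.isSimpleGroup_PSL_two (F := F) (by omega)
    obtain ⟨x, hx⟩ := exists_ne (1 : Matrix.ProjectiveSpecialLinearGroup (Fin 2) F)
    exact hx (CfsgLib.Core.TwoTimesPSL.psl_two_center_eq_one h4 (hc x))

include hab ht e in
/-- `q = 3` does not occur. -/
theorem three_false [IsSimpleGroup G] (h3 : Fintype.card F = 3) : False := by
  classical
  obtain ⟨f⟩ := CfsgLib.Classical.Two.psl_two_equiv_alternating (F := F) (k := 4) (by omega) (by omega) (by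
    have h := CfsgLib.Classical.Two.card_PSL_two (F := F)
    rw [h3] at h
    rw [show Nat.gcd 2 (3 - 1) = 2 by rfl, show 3 * (3 ^ 2 - 1) = 24 by rfl] at h
    rw [show Nat.factorial 4 = 24 by rfl]
    omega)
  let e4 := e.trans ((MulEquiv.refl _).prodCongr f)
  have hA : ∀ p : alternatingGroup (Fin 4), (∀ q, p * q = q * p) → p = 1 := by decide +kernel
  obtain ⟨-, P, htP, hP⟩ := two_central hab ht
  have hnc := not_comm e (by omega)
  have h2 : ∀ N : Subgroup G, N.Normal → N.index ≠ 2 := by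
    intro N hN hi
    rcases hN.eq_bot_or_eq_top with h | h
    · rw [h, index_bot] at hi
      have : Fact (Nat.Prime 2) := ⟨Nat.prime_two⟩
      have := isCyclic_of_prime_card (α := G) hi
      exact hnc ⟨⟨fun a b => (IsCyclic.commGroup (α := G)).mul_comm a b⟩⟩
    · rw [h, index_top] at hi
      omega
  have hns : ¬ Group.IsSolvable G := fun h => hnc ⟨⟨IsSimpleGroup.comm_iff_isSolvable.mpr h⟩⟩
  obtain ⟨g, hg⟩ := (split e4 hA ht).exists_conj_mem h2 P htP hP
  let D : CfsgLib.Recog.TwoTimesAlt.Four G :=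
    ⟨t, ht, P, htP, hP, e4, g, part_le e4 hg, (mem_part e4 (part_le e4 hg)).1 hg⟩
  have h1 := D.card_G hns
  have h9 := D.card_L hns
  rw [D.card_inf hns] at h9

  rcases D.L_normal.eq_bot_or_eq_top with h | h
  · rw [h, card_bot] at h9
    omega
  · rw [h, card_top, h1] at h9
    omega

include hab ht e in
/-- `q = 4, 5` gives the smallest Janko group. -/
theorem small_isJ1 [IsSimpleGroup G] (h45 : Fintype.card F = 4 ∨ Fintype.card F = 5) : Cfsg.IsJ1 G := by
  have hs := CfsgLib.Classical.isSimpleGroup_PSL_two (F := F) (by omega)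
  have h60 : Nat.card (Matrix.ProjectiveSpecialLinearGroup (Fin 2) F) = 60 := by
    have h := CfsgLib.Classical.Two.card_PSL_two (F := F)
    rcases h45 with h' | h' <;> rw [h'] at h <;> norm_num at h <;> omega
  obtain ⟨f⟩ := CfsgLib.Recog.Sixty.iso_alt_five h60
  exact Cfsg.Agent.S0448.result t (two_central hab ht) (e.trans ((MulEquiv.refl _).prodCongr f))

omit [Fintype F] in
theorem two_elements_generate [Finite F] (hsimp : IsSimpleGroup (Matrix.ProjectiveSpecialLinearGroup (Fin 2) F))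
    (h2 : 2 ∣ Nat.card (Matrix.ProjectiveSpecialLinearGroup (Fin 2) F)) :
    closure {p : Matrix.ProjectiveSpecialLinearGroup (Fin 2) F | ∃ k : ℕ, orderOf p = 2 ^ k} = ⊤ := by
  have : Fact (Nat.Prime 2) := ⟨Nat.prime_two⟩
  have hN : (closure {p : Matrix.ProjectiveSpecialLinearGroup (Fin 2) F | ∃ k : ℕ, orderOf p = 2 ^ k}).Normal :=
    ⟨fun n hn g => by
      have h1 := mem_map_of_mem (MulAut.conj g).toMonoidHom hn
      rw [MonoidHom.map_closure] at h1
      refine closure_mono ?_ h1
      rintro _ ⟨y, ⟨k, hk⟩, rfl⟩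
      exact ⟨k, by show orderOf (MulAut.conj g y) = 2 ^ k; rw [MulEquiv.orderOf_eq, hk]⟩⟩
  refine hN.eq_bot_or_eq_top.resolve_left fun h => ?_
  obtain ⟨x, hx⟩ := exists_prime_orderOf_dvd_card' 2 h2
  have hm := subset_closure (k := {p : Matrix.ProjectiveSpecialLinearGroup (Fin 2) F | ∃ k : ℕ, orderOf p = 2 ^ k})
    ⟨1, by rw [hx, pow_one]⟩
  rw [h] at hm
  rw [mem_bot.1 hm, orderOf_one] at hx
  omega

include hab ht e in
/-- The Sylow 2-subgroups are elementary of order eight. -/
theorem sylow_eight_of_four_le [IsSimpleGroup G] (hq : 3 < Fintype.card F) (S : Sylow 2 G) :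
    Nat.card (S : Subgroup G) = 8 ∧ ∀ x ∈ (S : Subgroup G), x ^ 2 = 1 := by
  have hs := CfsgLib.Classical.isSimpleGroup_PSL_two (F := F) (by omega)
  have heven : 2 ∣ Nat.card (Matrix.ProjectiveSpecialLinearGroup (Fin 2) F) := by
    have h := CfsgLib.Classical.Two.card_PSL_two (F := F)
    by_contra hodd
    rcases Nat.even_or_odd (Fintype.card F) with ⟨m, hm⟩ | ⟨m, hm⟩
    · have hg : Nat.gcd 2 (Fintype.card F - 1) = 1 := Nat.prime_two.coprime_iff_not_dvd.2 (by omega)
      rw [hg, one_mul] at h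
      exact hodd (h ▸ (Dvd.intro m (by omega) : 2 ∣ Fintype.card F).mul_right _)
    · have hg : Nat.gcd 2 (Fintype.card F - 1) = 2 := Nat.gcd_eq_left (by omega)
      rw [hg, hm, show (2 * m + 1) ^ 2 - 1 = 2 * (2 * (m * (m + 1))) by
        rw [show (2 * m + 1) ^ 2 = 2 * (2 * (m * (m + 1))) + 1 by ring, Nat.add_sub_cancel]] at h
      exact hodd ⟨(2 * m + 1) * (m * (m + 1)), by
        rw [show (2 * m + 1) * (2 * (2 * (m * (m + 1)))) = 2 * (2 * ((2 * m + 1) * (m * (m + 1)))) by ring] at h
        omega⟩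
  set C := centralizer ({t} : Set G) with hC
  have hcore : Cfsg.oddCore C = ⊥ := by
    refine (eq_bot_iff_forall _).2 fun x hx => ?_
    have hcop := CfsgLib.Core.coprime_card_pPrimeCore 2 C
    have hox : (orderOf x).Coprime 2 := hcop.coprime_dvd_left (orderOf_dvd_natCard _ hx)
    set M := (Cfsg.oddCore C).map ((MonoidHom.snd _ _).comp e.toMonoidHom) with hM
    have hMn : M.Normal := Subgroup.Normal.map (CfsgLib.Core.normal_pPrimeCore 2 C) _ fun p =>
      ⟨e.symm (1, p), by simp⟩
    have hMc : (Nat.card M).Coprime 2 := hcop.coprime_dvd_left (Subgroup.card_map_dvd (H := Cfsg.oddCore C) _)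
    rcases hMn.eq_bot_or_eq_top with h | h
    · have h1 : (e x).2 = 1 := mem_bot.1 (h ▸ (mem_map_of_mem _ hx : _ ∈ M))
      have h2 : e x ^ 2 = 1 := by
        refine Prod.ext ?_ (by rw [Prod.pow_snd, h1, one_pow]; rfl)
        rw [Prod.pow_fst]
        rcases CfsgLib.Core.TwoTimesPSL.flag_cases (e x).1 with hf | hf <;> rw [hf]
        · simp
        · rw [pow_two, CfsgLib.Core.TwoTimesPSL.flag_mul]
          rfl
      have h3 : orderOf x ∣ 2 := orderOf_dvd_of_pow_eq_one (e.injective (by rw [map_pow, h2, map_one]))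
      exact orderOf_eq_one_iff.1 (Nat.eq_one_of_dvd_coprimes hox dvd_rfl h3)
    · rw [h, card_top] at hMc
      exact absurd (Nat.eq_one_of_dvd_coprimes hMc heven dvd_rfl) (by norm_num)
  let φ : C ⧸ Cfsg.oddCore C ≃* Mdl F :=
    ((QuotientGroup.quotientMulEquivOfEq hcore).trans QuotientGroup.quotientBot).trans e
  have htop : closure {x : C ⧸ Cfsg.oddCore C | ∃ k : ℕ, orderOf x = 2 ^ k} = ⊤ := by
    refine eq_top_iff.2 fun z _ => ?_
    obtain ⟨⟨a, p⟩, rfl⟩ := φ.symm.surjective z
    rw [show ((a, p) : Mdl F) = (a, 1) * (1, p) by simp, map_mul]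
    refine mul_mem (subset_closure ?_) ?_
    · have h : orderOf (φ.symm (a, 1)) ∣ 2 ^ 1 := orderOf_dvd_of_pow_eq_one (by
        rw [← map_pow, ← map_one φ.symm]
        congr 1
        rcases CfsgLib.Core.TwoTimesPSL.flag_cases a with hf | hf <;> rw [hf]
        · simp
        · simp [pow_two, Prod.mk_mul_mk, CfsgLib.Core.TwoTimesPSL.flag_mul])
      obtain ⟨k, -, hk⟩ := (Nat.dvd_prime_pow Nat.prime_two).1 h
      exact ⟨k, hk⟩
    · let ψ : Matrix.ProjectiveSpecialLinearGroup (Fin 2) F →* C ⧸ Cfsg.oddCore C :=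
        φ.symm.toMonoidHom.comp (MonoidHom.inr _ _)
      have h : (⊤ : Subgroup (Matrix.ProjectiveSpecialLinearGroup (Fin 2) F)).map ψ ≤
          closure {x : C ⧸ Cfsg.oddCore C | ∃ k : ℕ, orderOf x = 2 ^ k} := by
        rw [← two_elements_generate hs heven, MonoidHom.map_closure]
        refine closure_mono ?_
        rintro _ ⟨q, ⟨k, hk⟩, rfl⟩
        refine ⟨k, ?_⟩
        rw [orderOf_injective ψ (φ.symm.injective.comp (fun x y hxy => congrArg Prod.snd hxy)), hk]
      exact h (mem_map_of_mem ψ (mem_top p))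
  exact Cfsg.Agent.S3216.result (not_comm e (by omega)) t ht hq
    ⟨((MulEquiv.subgroupCongr htop).trans topEquiv).trans φ⟩ S

include hab ht e in
/-- The possible sizes of the field. -/
theorem card_cases [IsSimpleGroup G] (hq : 3 < Fintype.card F) :
    Fintype.card F = 4 ∨ Fintype.card F % 8 = 3 ∨ Fintype.card F % 8 = 5 := by
  classical
  have : Fact (Nat.Prime 2) := ⟨Nat.prime_two⟩
  rcases Nat.even_or_odd (Fintype.card F) with he | ho
  · left
    have : CharP F 2 := ringChar.of_eq (FiniteField.even_card_iff_char_two.2 (Nat.even_iff.1 he))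
    obtain ⟨n, -, hn⟩ := FiniteField.card F 2
    have hC : 2 ^ ((n : ℕ) + 1) ∣ Nat.card G := by
      refine dvd_trans ?_ (card_subgroup_dvd_card (centralizer ({t} : Set G)))
      rw [Nat.card_congr e.toEquiv, Nat.card_prod, pow_succ']
      refine mul_dvd_mul (by simp) ?_
      have h := CfsgLib.Classical.Two.card_PSL_two (F := F)
      have hg : Nat.gcd 2 (Fintype.card F - 1) = 1 :=
        Nat.prime_two.coprime_iff_not_dvd.2 (by obtain ⟨m, hm⟩ := he; omega)
      rw [hg, one_mul] at h
      rw [h, ← hn]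
      exact dvd_mul_right _ _
    obtain ⟨S⟩ := (inferInstance : Nonempty (Sylow 2 G))
    have h8 := S.pow_dvd_card_of_pow_dvd_card hC
    rw [(sylow_eight_of_four_le hab ht e hq S).1, show (8 : ℕ) = 2 ^ 3 by rfl] at h8
    have h3 := (Nat.pow_dvd_pow_iff_le_right (by norm_num)).1 h8
    have hle : (n : ℕ) ≤ 2 := by omega
    interval_cases h : (n : ℕ) <;> simp_all
  · right
    obtain ⟨Q⟩ := (inferInstance : Nonempty (Sylow 2 (Matrix.ProjectiveSpecialLinearGroup (Fin 2) F)))
    refine CfsgLib.Classical.AbSylow.mod_eight_of_abelian_sylow_PSL ho Q ⟨⟨fun a b => ?_⟩⟩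
    let ι : Matrix.ProjectiveSpecialLinearGroup (Fin 2) F →* G :=
      (centralizer ({t} : Set G)).subtype.comp (e.symm.toMonoidHom.comp (MonoidHom.inr _ _))
    have hι : Function.Injective ι := fun x y h =>
      congrArg Prod.snd (e.symm.injective (Subtype.ext h))
    obtain ⟨S, hS⟩ := (Q.isPGroup'.map ι).exists_le_sylow
    have := congrArg Subtype.val (hab S ⟨ι a, hS (mem_map_of_mem ι a.2)⟩ ⟨ι b, hS (mem_map_of_mem ι b.2)⟩)
    refine Subtype.ext (hι ?_)
    rw [Subgroup.coe_mul, Subgroup.coe_mul, map_mul, map_mul]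
    exact this

include hab ht e in
/-- Either `G` is the smallest Janko group or `q ≡ 3, 5 (mod 8)` and `q ≥ 11`. -/
theorem reduction [IsSimpleGroup G] (hq : 3 ≤ Fintype.card F) :
    ((Fintype.card F = 4 ∨ Fintype.card F = 5) ∧ Cfsg.IsJ1 G) ∨
      (11 ≤ Fintype.card F ∧ (Fintype.card F % 8 = 3 ∨ Fintype.card F % 8 = 5)) := by
  rcases hq.eq_or_lt with h3 | h3
  · exact (three_false hab ht e h3.symm).elim
  by_cases h45 : Fintype.card F = 4 ∨ Fintype.card F = 5
  · exact Or.inl ⟨h45, small_isJ1 hab ht e h45⟩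
  · have := card_cases hab ht e h3
    omega

end CfsgLib.Recog.JankoThompson
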