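import Cfsg.Agent.Lib.Recog.JankoThompson.Ctx
import Cfsg.Agent.Lib.Recog.JankoThompson.SmallQ
import Cfsg.Agent.Lib.Recog.JankoThompson.PSLKlein
import Cfsg.Agent.Lib.TwoGroups.LocalSylow

/-!
Owner: helper17. The context: fusion of involutions, the tournament on the Sylow 2-subgroup, and the element
of order three.
-/

set_option autoImplicit false

namespace CfsgLib.Recog.JankoThompson

open Subgroup

variable {G : Type*} [Group G] [Finite G] {F : Type*} [Field F] [Fintype F]

/-- The factor `PSL(2, F)` embedded in the group. -/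
noncomputable def partHom {a : G} (e : ↥(centralizer ({a} : Set G)) ≃* Mdl F) : P2 F →* G :=
  (part e).subtype.comp (partEquiv e).symm.toMonoidHom

omit [Finite G] [Fintype F] in
theorem partHom_mem {a : G} (e : ↥(centralizer ({a} : Set G)) ≃* Mdl F) (p : P2 F) : partHom e p ∈ part e :=
  ((partEquiv e).symm p).2

omit [Finite G] [Fintype F] in
theorem partHom_injective {a : G} (e : ↥(centralizer ({a} : Set G)) ≃* Mdl F) : Function.Injective (partHom e) :=
  fun _ _ h => (partEquiv e).symm.injective (Subtype.ext h)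

omit [Finite G] [Fintype F] in
theorem partHom_symm {a : G} (e : ↥(centralizer ({a} : Set G)) ≃* Mdl F) {x : G} (hx : x ∈ part e) :
    partHom e (partEquiv e ⟨x, hx⟩) = x :=
  congrArg Subtype.val ((partEquiv e).symm_apply_apply ⟨x, hx⟩)

omit [Finite G] [Fintype F] in
theorem range_partHom {a : G} (e : ↥(centralizer ({a} : Set G)) ≃* Mdl F) : (partHom e).range = part e :=
  le_antisymm (fun _ ⟨p, hp⟩ => hp ▸ partHom_mem e p) fun _ hx => ⟨_, partHom_symm e hx⟩

variable [IsSimpleGroup G] (hab : ∀ P : Sylow 2 G, ∀ a b : P, a * b = b * a) {t : G} (ht : orderOf t = 2)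
  (e : ↥(centralizer ({t} : Set G)) ≃* Mdl F)
  (hq : Fintype.card F % 8 = 3 ∨ Fintype.card F % 8 = 5) (hbig : 11 ≤ Fintype.card F)

include hab ht e hq hbig in
/-- The context. -/
theorem exists_ctx : Nonempty (Ctx G F) := by
  classical
  have : Fact (Nat.Prime 2) := ⟨Nat.prime_two⟩
  have h3 : 3 < Fintype.card F := by omega
  have hcent : ∀ p : P2 F, (∀ r, p * r = r * p) → p = 1 :=
    fun p hp => CfsgLib.Core.TwoTimesPSL.psl_two_center_eq_one h3 hp
  have htt : t * t = 1 := by rw [← pow_two, ← ht, pow_orderOf_eq_one]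
  have htK : t ∉ part e := self_not_mem e hcent ht
  have hC : ∀ z : G, z * t = t * z ↔ z ∈ part e ∨ t * z ∈ part e := fun z =>
    ⟨fun h => cases_part e hcent ht (mem_centralizer_singleton_iff.2 h), fun h => by
      rcases h with h | h
      · exact part_commute e h
      · have h' : t * z * t = t * (t * z) := part_commute e h
        rw [mul_assoc] at h'
        exact mul_left_cancel h'⟩
  obtain ⟨-, S, htS, hSt⟩ := two_central hab ht
  have hS8 := sylow_eight_of_four_le hab ht e h3
  have hsqS : ∀ z ∈ (S : Subgroup G), z * z = 1 := fun z hz => by rw [← pow_two]; exact (hS8 S).2 z hz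
  have hcS : ∀ a ∈ (S : Subgroup G), ∀ b ∈ (S : Subgroup G), a * b = b * a := fun a ha b hb =>
    congrArg Subtype.val (hab S ⟨a, ha⟩ ⟨b, hb⟩)
  have htwo : ∀ z : G, (∃ k : ℕ, z ^ 2 ^ k = 1) → z * z = 1 := by
    rintro z ⟨k, hk⟩
    obtain ⟨j, -, hj⟩ := (Nat.dvd_prime_pow Nat.prime_two).1 (orderOf_dvd_of_pow_eq_one hk)
    obtain ⟨T, hT⟩ := (IsPGroup.of_card (n := j) (by rw [Nat.card_zpowers, hj]) :
      IsPGroup 2 (zpowers z)).exists_le_sylow
    rw [← pow_two]
    exact (hS8 T).2 z (hT (mem_zpowers z))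
  -- the four-group in the component
  set V : Subgroup G := (S : Subgroup G) ⊓ part e with hV
  have hVi : V.relIndex (S : Subgroup G) = 2 := by
    rw [relIndex, index_eq_two_iff]
    refine ⟨⟨t, htS⟩, fun b => ?_⟩
    rw [mem_subgroupOf, mem_subgroupOf]
    have hbt : ((b * ⟨t, htS⟩ : (S : Subgroup G)) : G) = t * (b : G) := hSt b b.2
    rw [hbt]
    rcases (hC b).1 (hSt b b.2) with h | h
    · exact Or.inr ⟨⟨b.2, h⟩, fun h' => htK (by
        have := mul_mem (mem_inf.1 h').2 (inv_mem h)
        rwa [mul_inv_cancel_right] at this)⟩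
    · exact Or.inl ⟨⟨mul_mem htS b.2, h⟩, fun h' => htK (by
        have := mul_mem h (inv_mem (mem_inf.1 h').2)
        rwa [mul_inv_cancel_right] at this)⟩
  have hVcard : Nat.card V = 4 := by
    have h := (V.subgroupOf (S : Subgroup G)).card_mul_index
    rw [show (V.subgroupOf (S : Subgroup G)).index = 2 from hVi, (hS8 S).1,
      Nat.card_congr (subgroupOfEquivOfLe (inf_le_left : V ≤ (S : Subgroup G))).toEquiv] at h
    rw [← hV] at h
    omega
  have hconjK : ∀ a b : G, a ∈ part e → b ∈ part e → orderOf a = 2 → orderOf b = 2 →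
      ∃ p : P2 F, partHom e p * a * (partHom e p)⁻¹ = b := by
    intro a b ha hb hao hbo
    have ho : ∀ c : G, ∀ hc : c ∈ part e, orderOf c = 2 → orderOf (partEquiv e ⟨c, hc⟩) = 2 := fun c hc h => by
      rw [MulEquiv.orderOf_eq, Subgroup.orderOf_mk, h]
    obtain ⟨p, hp⟩ := isConj_iff.1 (psl_involutions_isConj hq h3 (ho a ha hao) (ho b hb hbo))
    refine ⟨p, ?_⟩
    have := congrArg (partHom e) hp
    rwa [map_mul, map_mul, map_inv, partHom_symm, partHom_symm] at this
  have hperf : ∀ M : Subgroup G, M.Normal → M.index ≠ 2 := by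
    intro M hM hi
    rcases hM.eq_bot_or_eq_top with h | h
    · rw [h, index_bot] at hi
      have h8 := card_subgroup_dvd_card (S : Subgroup G)
      rw [(hS8 S).1, hi] at h8
      norm_num at h8
    · rw [h, index_top] at hi
      omega
  have hintoV : ∀ u : G, orderOf u = 2 → ∃ g : G, g * u * g⁻¹ ∈ V := fun u hu =>
    (CfsgLib.Transfer.thompson_transfer S V hVi hu).resolve_left fun ⟨M, hM, hMi, _⟩ => hperf M hM hMi
  have hone : ∀ z : G, orderOf z = 2 → IsConj t z := by
    intro z hz
    obtain ⟨g, hg⟩ := hintoV t ht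
    obtain ⟨g', hg'⟩ := hintoV z hz
    obtain ⟨p, hp⟩ := hconjK _ _ (mem_inf.1 hg).2 (mem_inf.1 hg').2
      (by rw [CfsgLib.Signalizer.orderOf_conj, ht]) (by rw [CfsgLib.Signalizer.orderOf_conj, hz])
    exact ((isConj_iff.2 ⟨g, rfl⟩).trans (isConj_iff.2 ⟨_, hp⟩)).trans (isConj_iff.2 ⟨g', rfl⟩).symm
  have hord : ∀ c ∈ (S : Subgroup G), c ≠ 1 → orderOf c = 2 := fun c hc h =>
    orderOf_eq_prime (by rw [pow_two]; exact hsqS c hc) h
  -- two elements of the four-group
  obtain ⟨v, hvV, hv1⟩ : ∃ v ∈ V, v ≠ 1 := by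
    by_contra h
    push Not at h
    rw [(eq_bot_iff_forall V).2 h, card_bot] at hVcard
    omega
  obtain ⟨v', hv'V, hv'1, hv'v⟩ : ∃ v' ∈ V, v' ≠ 1 ∧ v' ≠ v := by
    by_contra h
    push Not at h
    have hle : (V : Set G) ⊆ {1, v} := fun x hx => by
      by_cases hx1 : x = 1
      · exact Or.inl hx1
      · exact Or.inr (h x hx hx1)
    have h4 := Set.ncard_le_ncard hle (Set.toFinite _)
    rw [← Nat.card_coe_set_eq, SetLike.coe_sort_coe, hVcard] at h4
    exact absurd (h4.trans (Set.ncard_insert_le _ _)) (by simp)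
  have hvo := hord v (mem_inf.1 hvV).1 hv1
  -- a conjugation inside the normaliser
  obtain ⟨n, hnN, hnv⟩ : ∃ n ∈ normalizer ((S : Subgroup G) : Set G), n * v * n⁻¹ = t := by
    obtain ⟨c, hc⟩ := isConj_iff.1 (hone v hvo)
    have : IsMulCommutative (S : Subgroup G) := ⟨⟨hab S⟩⟩
    obtain ⟨m, hm, hm'⟩ := S.conj_eq_normalizer_conj_of_mem v c (mem_inf.1 hvV).1 (by
      rw [← hc, show c⁻¹ * (c * t * c⁻¹) * c = t by group]; exact htS)
    rw [← hc, show c⁻¹ * (c * t * c⁻¹) * c = t by group] at hm'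
    refine ⟨m⁻¹, inv_mem hm, ?_⟩
    rw [inv_inv, ← hc]
    exact hm'.symm
  have hnS : ∀ z ∈ (S : Subgroup G), n * z * n⁻¹ ∈ (S : Subgroup G) := fun z hz =>
    (mem_normalizer_iff.1 hnN z).1 hz
  have htv : n⁻¹ * t * n = v := by rw [← hnv]; group
  set x := n * t * n⁻¹ with hx
  have hxS : x ∈ (S : Subgroup G) := hnS t htS
  have hxK : x ∉ part e := by
    intro hxp
    -- an element fixing `t`, normalising `S` and moving `x` to `v`
    have hcmem : ∀ {c : G}, c ∈ part e → (∀ z ∈ V, c * z * c⁻¹ ∈ V) →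
        c ∈ normalizer ((S : Subgroup G) : Set G) := by
      intro c hc hcV
      refine mem_normalizer_iff.2 ?_
      have hf : ∀ z ∈ (S : Subgroup G), c * z * c⁻¹ ∈ (S : Subgroup G) := by
        intro z hz
        rcases (hC z).1 (hSt z hz) with h | h
        · exact (mem_inf.1 (hcV z ⟨hz, h⟩)).1
        · have h' := (mem_inf.1 (hcV (t * z) ⟨mul_mem htS hz, h⟩)).1
          have e1 : c * z * c⁻¹ = t * (c * (t * z) * c⁻¹) := by
            rw [← mul_assoc t, ← mul_assoc t, ← part_commute e hc, ← mul_assoc, mul_assoc c t t, htt, mul_one]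
          rw [e1]
          exact mul_mem htS h'
      intro z
      refine ⟨hf z, fun hz => ?_⟩
      obtain ⟨⟨a, ha⟩, hab'⟩ := (Finite.injective_iff_surjective (f := fun a : (S : Subgroup G) =>
        (⟨c * a * c⁻¹, hf a a.2⟩ : (S : Subgroup G)))).1 (fun a b h => Subtype.ext (by
          have := congrArg Subtype.val h
          exact mul_left_cancel (mul_right_cancel this))) ⟨_, hz⟩
      have : a = z := mul_left_cancel (mul_right_cancel (congrArg Subtype.val hab'))
      exact this ▸ ha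
    have hVP : IsPGroup 2 (V.comap (partHom e)) :=
      (S.isPGroup'.to_le (inf_le_left : V ≤ (S : Subgroup G))).comap_of_injective (partHom e) (partHom_injective e)
    obtain ⟨Q, hQ⟩ := hVP.exists_le_sylow
    have hQV : (Q : Subgroup (P2 F)) = V.comap (partHom e) := by
      refine (eq_of_le_of_card_ge hQ ?_).symm
      have hK := (klein_trans hq h3 Q).1
      have hcc : Nat.card (V.comap (partHom e)) = Nat.card V := Nat.card_congr
        (Equiv.ofBijective (fun p : V.comap (partHom e) => (⟨partHom e p, p.2⟩ : V))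
          ⟨fun a b h => by
            have h' := congrArg Subtype.val h
            exact Subtype.ext (partHom_injective e h'),
            fun w => ⟨⟨partEquiv e ⟨w, (mem_inf.1 w.2).2⟩, mem_comap.2 (by rw [partHom_symm]; exact w.2)⟩,
              Subtype.ext (partHom_symm e _)⟩⟩)
      rw [hcc, hVcard, IsKleinFour.card_four]
    obtain ⟨-, r, hr⟩ := klein_trans hq h3 Q
    have hxV : x ∈ V := ⟨hxS, hxp⟩
    have hx1 : x ≠ 1 := fun h => by
      rw [hx, conj_eq_one_iff] at h
      simp [h] at ht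
    have hmem : ∀ {w : G}, ∀ hw : w ∈ V, partEquiv e ⟨w, (mem_inf.1 hw).2⟩ ∈ (Q : Subgroup (P2 F)) :=
      fun {w} hw => by rw [hQV, mem_comap, partHom_symm]; exact hw
    have hne : ∀ {w : G} (hw : w ∈ part e), w ≠ 1 → partEquiv e ⟨w, hw⟩ ≠ 1 := fun {w} hw h1 h => h1 (by
      have := congrArg (partHom e) h
      rwa [partHom_symm, map_one] at this)
    obtain ⟨k, hk⟩ := hr.trans _ (hmem hxV) (hne _ hx1) _ (hmem hvV) (hne _ hv1)
    have hk' := congrArg (partHom e) hk
    rw [map_mul, map_mul, map_inv, partHom_symm, partHom_symm] at hk'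
    set c := partHom e (r ^ k) with hc
    have hcN : c ∈ normalizer ((S : Subgroup G) : Set G) := hcmem (partHom_mem e _) fun z hz => by
      have := (mem_normalizer_iff.1 (pow_mem hr.mem k) _).1 (hmem hz)
      rwa [hQV, mem_comap, map_mul, map_mul, map_inv, partHom_symm] at this
    have hct : c * t * c⁻¹ = t := by rw [part_commute e (partHom_mem e _), mul_inv_cancel_right]
    -- a swap
    set m := n * c with hm
    have hm1 : m * t * m⁻¹ = x := by
      rw [hx, hm]
      calc n * c * t * (n * c)⁻¹ = n * (c * t * c⁻¹) * n⁻¹ := by group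
        _ = _ := by rw [hct]
    have hm2 : m * x * m⁻¹ = t := by
      rw [hm, ← hnv, ← hk']
      group
    obtain ⟨a, o, ho, hao⟩ := Nat.exists_eq_two_pow_mul_odd (orderOf_pos m).ne'
    have hmS : m ^ o ∈ (S : Subgroup G) := CfsgLib.TwoGroups.mem_sylow_of_mem_normalizer S
      (pow_mem (mul_mem hnN hcN) o) ⟨a, by rw [← pow_mul, mul_comm, ← hao, pow_orderOf_eq_one]⟩
    have h2 : Commute (m ^ 2) t := by
      refine mul_inv_eq_iff_eq_mul.1 ?_
      calc m ^ 2 * t * (m ^ 2)⁻¹ = m * (m * t * m⁻¹) * m⁻¹ := by rw [pow_two]; group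
        _ = t := by rw [hm1, hm2]
    obtain ⟨j, rfl⟩ := ho
    have h5 : m * t = t * m := by
      have h4 : m ^ (2 * j + 1) * t = t * m ^ (2 * j + 1) := hcS _ hmS t htS
      rw [pow_succ, pow_mul, mul_assoc] at h4
      clear_value m
      have h6 := (h2.pow_left j).eq
      refine mul_left_cancel (a := (m ^ 2) ^ j) (h4.trans ?_)
      rw [← mul_assoc, ← h6, mul_assoc]
    rw [h5, mul_inv_cancel_right] at hm1
    exact htK ((congrArg (fun z => z ∈ part e) hm1).mpr hxp)
  have hxt : x ≠ t := by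
    intro h
    have h1 : n * t * n⁻¹ = n * v * n⁻¹ := h.trans hnv.symm
    exact htK (mul_left_cancel (mul_right_cancel h1) ▸ (mem_inf.1 hvV).2)
  have htxK : t * x ∈ part e := ((hC x).1 (hSt x hxS)).resolve_left hxK
  set y := partEquiv e ⟨t * x, htxK⟩ with hy
  have hιy : partHom e y = t * x := partHom_symm e htxK
  -- the element of both components
  obtain ⟨w₀, hw₀K, hw₀S, hw₀x, hw₀1⟩ : ∃ z, z ∈ part e ∧ z ∈ (S : Subgroup G) ∧ n⁻¹ * z * n ∈ part e ∧ z ≠ 1 := by
    have hdS : n * v' * n⁻¹ ∈ (S : Subgroup G) := hnS v' (mem_inf.1 hv'V).1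
    rcases (hC _).1 (hSt _ hdS) with h | h
    · refine ⟨_, h, hdS, ?_, fun h' => hv'1 (conj_eq_one_iff.1 h')⟩
      rw [show n⁻¹ * (n * v' * n⁻¹) * n = v' by group]
      exact (mem_inf.1 hv'V).2
    · refine ⟨_, h, mul_mem htS hdS, ?_, fun h' => ?_⟩
      · rw [show n⁻¹ * (t * (n * v' * n⁻¹)) * n = n⁻¹ * t * n * v' by group, htv]
        exact mul_mem (mem_inf.1 hvV).2 (mem_inf.1 hv'V).2
      · have h1 : t = n * v' * n⁻¹ := by
          calc t = t * (t * (n * v' * n⁻¹)) := by rw [h', mul_one]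
            _ = n * v' * n⁻¹ := by rw [← mul_assoc, htt, one_mul]
        exact hv'v (mul_left_cancel (mul_right_cancel (h1.symm.trans hnv.symm)))
  set w := partEquiv e ⟨w₀, hw₀K⟩ with hw
  have hιw : partHom e w = w₀ := partHom_symm e hw₀K
  have hwo : orderOf w₀ = 2 := hord _ hw₀S hw₀1
  have hyo : orderOf (t * x) = 2 := hord _ (mul_mem htS hxS) fun h => hxt (by
    calc x = t * (t * x) := by rw [← mul_assoc, htt, one_mul]
      _ = t := by rw [h, mul_one])
  have hwy : w₀ ≠ t * x := by
    intro h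
    have h1 : t * w₀ = x := by rw [h, ← mul_assoc, htt, one_mul]
    have h2 : n⁻¹ * (t * w₀) * n ∈ part e := by
      rw [show n⁻¹ * (t * w₀) * n = n⁻¹ * t * n * (n⁻¹ * w₀ * n) by group, htv]
      exact mul_mem (mem_inf.1 hvV).2 hw₀x
    rw [h1, hx, show n⁻¹ * (n * t * n⁻¹) * n = t by group] at h2
    exact htK h2
  -- the element of order three
  have hao : orderOf (partEquiv e ⟨v, (mem_inf.1 hvV).2⟩) = 2 := by
    rw [MulEquiv.orderOf_eq, Subgroup.orderOf_mk, hvo]
  have hbo : orderOf (partEquiv e ⟨n⁻¹ * w₀ * n, hw₀x⟩) = 2 := by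
    rw [MulEquiv.orderOf_eq, Subgroup.orderOf_mk]
    have := CfsgLib.Signalizer.orderOf_conj n⁻¹ w₀
    rw [inv_inv] at this
    rw [this, hwo]
  obtain ⟨r, hr3, hra, hrb⟩ := exists_cycle hq h3 hao hbo (partHom_injective e (by
      rw [map_mul, map_mul, partHom_symm, partHom_symm, ← htv,
        show n⁻¹ * t * n * (n⁻¹ * w₀ * n) = n⁻¹ * (t * w₀) * n by group, hcS t htS w₀ hw₀S]
      group)) (fun h => by
      have := congrArg (partHom e) h
      rw [partHom_symm, partHom_symm, ← htv] at this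
      exact htK (mul_left_cancel (mul_right_cancel this) ▸ hw₀K))
  have hra' := congrArg (partHom e) hra
  have hrb' := congrArg (partHom e) hrb
  rw [map_mul, map_mul, map_inv, partHom_symm, partHom_symm] at hra'
  rw [map_mul, map_mul, map_mul, map_inv, partHom_symm, partHom_symm] at hrb'
  exact ⟨{
    simp := inferInstance
    t := t
    ι := partHom e
    ht := ht
    inj := partHom_injective e
    tnot := by rw [range_partHom]; exact htK
    hC := fun z => by rw [range_partHom]; exact hC z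
    hq := hq
    hbig := hbig
    sylow_eight := fun T => (hS8 T).1
    two_sq := htwo
    one_class := hone
    w := w
    y := y
    hw := by rw [hw, MulEquiv.orderOf_eq, Subgroup.orderOf_mk, hwo]
    hy := by rw [hy, MulEquiv.orderOf_eq, Subgroup.orderOf_mk, hyo]
    hwy := partHom_injective e (by
      rw [map_mul, map_mul, hιw, hιy]
      exact hcS _ hw₀S _ (mul_mem htS hxS))
    hne := fun h => hwy (by rw [← hιw, ← hιy, h])
    g := n
    hgx := by rw [hιy, ← mul_assoc, htt, one_mul]
    t_mem := by rw [range_partHom, htv]; exact (mem_inf.1 hvV).2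
    w_mem := by rw [range_partHom, hιw]; exact hw₀x
    σ := n * partHom e r * n⁻¹
    σ_mem := by
      rw [range_partHom, show n⁻¹ * (n * partHom e r * n⁻¹) * n = partHom e r by group]
      exact partHom_mem e r
    σ_cube := by rw [conj_pow, ← map_pow, hr3, map_one, mul_one, mul_inv_cancel]
    σ_t := by
      rw [hιw]
      calc n * partHom e r * n⁻¹ * t * (n * partHom e r * n⁻¹)⁻¹
          = n * (partHom e r * (n⁻¹ * t * n) * (partHom e r)⁻¹) * n⁻¹ := by group
        _ = w₀ := by rw [htv, hra']; group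
    σ_w := by
      rw [hιw]
      calc n * partHom e r * n⁻¹ * w₀ * (n * partHom e r * n⁻¹)⁻¹
          = n * (partHom e r * (n⁻¹ * w₀ * n) * (partHom e r)⁻¹) * n⁻¹ := by group
        _ = t * w₀ := by rw [hrb', ← htv]; group }⟩

end CfsgLib.Recog.JankoThompson
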