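import Cfsg.Agent.Lib.Recog.JankoThompson.Ctx

/-!
Owner: helper22. The facts on `PSL(2, q)`, `q ≡ 3, 5 (mod 8)`, used by the local and the character arguments.
-/

set_option autoImplicit false
set_option linter.all false

namespace CfsgLib.Recog.JankoThompson

open scoped ComplexConjugate

/-- the two tori `R` (odd part, next to the involution `w`) and `T`, and the root group `U` -/
structure Tori (Fq : Type*) [Field Fq] [Fintype Fq] (w : P2 Fq) (p e f : ℕ) where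
  R : Subgroup (P2 Fq)
  T : Subgroup (P2 Fq)
  U : Subgroup (P2 Fq)
  prime_p : p.Prime
  card_field : ∃ n : ℕ, 0 < n ∧ Fintype.card Fq = p ^ n
  mem_R : ∀ r, r ∈ R ↔ Odd (orderOf r) ∧ r * w = w * r
  R_cyclic : IsCyclic R
  T_cyclic : IsCyclic T
  U_exp : ∀ u ∈ U, u ^ p = 1
  U_comm : ∀ a ∈ U, ∀ b ∈ U, a * b = b * a
  card_R : Nat.card R = e
  card_T : Nat.card T = f
  card_U : Nat.card U = Fintype.card Fq
  cent_w : ∀ k : P2 Fq, k * w = w * k →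
    k ∈ R ∨ w * k ∈ R ∨ (orderOf k = 2 ∧ ∀ r ∈ R, k * r * k⁻¹ = r⁻¹)
  cent_R : ∀ r ∈ R, r ≠ 1 → ∀ k : P2 Fq, k * r = r * k ↔ k ∈ R ∨ w * k ∈ R
  cent_T : ∀ z ∈ T, z ≠ 1 → ∀ k : P2 Fq, k * z = z * k ↔ k ∈ T
  cent_U : ∀ u ∈ U, u ≠ 1 → ∀ k : P2 Fq, k * u = u * k ↔ k ∈ U
  cover : ∀ k : P2 Fq, Odd (orderOf k) → ∃ h : P2 Fq, h * k * h⁻¹ ∈ R ∨ h * k * h⁻¹ ∈ T ∨ h * k * h⁻¹ ∈ U
  inverter_R : ∃ i : P2 Fq, orderOf i = 2 ∧ ∀ r ∈ R, i * r * i⁻¹ = r⁻¹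
  inverter_T : ∃ i : P2 Fq, orderOf i = 2 ∧ ∀ z ∈ T, i * z * i⁻¹ = z⁻¹
  fusion_R : ∀ r ∈ R, ∀ h : P2 Fq, h * r * h⁻¹ ∈ R → h * r * h⁻¹ = r ∨ h * r * h⁻¹ = r⁻¹
  fusion_T : ∀ z ∈ T, ∀ h : P2 Fq, h * z * h⁻¹ ∈ T → h * z * h⁻¹ = z ∨ h * z * h⁻¹ = z⁻¹
  inv_count : 2 * Nat.card {i : P2 Fq // orderOf i = 2} = Fintype.card Fq * (2 * f)
  inv_R : ∀ r ∈ R, r ≠ 1 → Nat.card {i : P2 Fq // orderOf i = 2 ∧ i * r * i⁻¹ = r⁻¹} = 2 * e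
  inv_T : ∀ z ∈ T, z ≠ 1 → Nat.card {i : P2 Fq // orderOf i = 2 ∧ i * z * i⁻¹ = z⁻¹} = f
  inv_U : ∀ u ∈ U, u ≠ 1 → Nat.card {i : P2 Fq // orderOf i = 2 ∧ i * u * i⁻¹ = u⁻¹} =
    if Fintype.card Fq % 4 = 1 then Fintype.card Fq else 0
  plus : P2 Fq
  minus : P2 Fq
  plus_mem : plus ∈ U
  minus_mem : minus ∈ U
  plus_ne : plus ≠ 1
  minus_ne : minus ≠ 1
  two_classes : ¬ IsConj plus minus
  root_cases : ∀ u ∈ U, u ≠ 1 → IsConj plus u ∨ IsConj minus u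
  card_plus : 2 * Nat.card {u : U // IsConj plus (u : P2 Fq)} + 1 = Fintype.card Fq
  card_minus : 2 * Nat.card {u : U // IsConj minus (u : P2 Fq)} + 1 = Fintype.card Fq
  gauss : ∃ ψ ψ' : U →* ℂˣ, ψ ≠ 1 ∧ ψ' ≠ 1 ∧
    ∀ [Fintype U] [DecidablePred fun u : U => IsConj plus (u : P2 Fq)]
      [DecidablePred fun u : U => IsConj minus (u : P2 Fq)],
      let P := ∑ u ∈ Finset.univ.filter (fun u : U => IsConj plus (u : P2 Fq)), (ψ u : ℂ)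
      let M := ∑ u ∈ Finset.univ.filter (fun u : U => IsConj minus (u : P2 Fq)), (ψ u : ℂ)
      (P - M) * conj (P - M) = (Fintype.card Fq : ℂ) ∧
        ∑ u ∈ Finset.univ.filter (fun u : U => IsConj plus (u : P2 Fq)), (ψ' u : ℂ) = M ∧
        ∑ u ∈ Finset.univ.filter (fun u : U => IsConj minus (u : P2 Fq)), (ψ' u : ℂ) = P

end CfsgLib.Recog.JankoThompson
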