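import Cfsg.Agent.Lib.Recog.JankoThompson.ToriRoot
import Cfsg.Agent.Lib.Recog.JankoThompson.ToriDef
import Cfsg.Agent.Lib.Signalizer.Involutions

/-!
Owner: helper17. The tori and the root group of `PSL(2, q)`, `q ≡ 3, 5 (mod 8)`, `q ≥ 11`.
-/

set_option autoImplicit false
set_option linter.unusedSectionVars false
set_option maxHeartbeats 800000

namespace CfsgLib.Recog.JankoThompson

open CfsgLib.PLocal.SLTwo (S2 tr U U_pow)
open CfsgLib.LocalEven.GoldS.PSLF (mk mk_surjective mk_eq_mk mk_eq_one mk_neg u u_mul u_zero u_inv u_injective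
  u_eq_one Us u_mem card_Us Us_comm lift_data)
open PSLTorus

variable {F : Type*} [Field F] [Fintype F]

/-- Subgroups of odd prime order different from the characteristic lie in cyclic Sylow subgroups. -/
theorem psl_sylow_isCyclic (p : ℕ) [Fact p.Prime] [CharP F p] (r : ℕ) [Fact r.Prime] (hr : r ≠ 2) (hrp : r ≠ p)
    (Q : Sylow r (P2 F)) : IsCyclic (Q : Subgroup (P2 F)) := by
  obtain ⟨R, rfl⟩ := Sylow.mapSurjective_surjective (mk_surjective (F := F)) r Q
  have := CfsgLib.Classical.Two.isCyclic_sylow_odd p r hr hrp R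
  exact isCyclic_of_surjective ((mk : S2 F →* P2 F).subgroupMap (R : Subgroup (S2 F)))
    ((mk : S2 F →* P2 F).subgroupMap_surjective _)

/-- Elements of the same prime order in a cyclic subgroup generate the same subgroup. -/
theorem mem_zpowers_of_cyclic {H : Type*} [Group H] [Finite H] {Q : Subgroup H} [IsCyclic Q] {r : ℕ}
    (hr : 0 < r) {a z : H} (ha : a ∈ Q) (hz : z ∈ Q) (hao : orderOf a = r) (hzo : orderOf z = r) :
    a ∈ Subgroup.zpowers z := by
  classical
  have : Fintype Q := Fintype.ofFinite Q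
  set S : Finset Q := {x : Q | x ^ r = 1} with hS
  have hle : ((Subgroup.zpowers (⟨z, hz⟩ : Q) : Subgroup Q) : Set Q).toFinset ⊆ S := by
    intro x hx
    simp only [Set.mem_toFinset, SetLike.mem_coe] at hx
    simp only [hS, Finset.mem_filter, Finset.mem_univ, true_and]
    obtain ⟨k, rfl⟩ := hx
    show ((⟨z, hz⟩ : Q) ^ k) ^ r = 1
    rw [← zpow_natCast, ← zpow_mul, mul_comm, zpow_mul, zpow_natCast, ← hzo, ← Subgroup.orderOf_mk z hz,
      pow_orderOf_eq_one, one_zpow]
  have hc : S.card ≤ ((Subgroup.zpowers (⟨z, hz⟩ : Q) : Subgroup Q) : Set Q).toFinset.card := by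
    rw [← Set.ncard_eq_toFinset_card', ← Nat.card_coe_set_eq, SetLike.coe_sort_coe, Nat.card_zpowers,
      Subgroup.orderOf_mk, hzo]
    exact IsCyclic.card_pow_eq_one_le hr
  have haS : (⟨a, ha⟩ : Q) ∈ S := by
    simp only [hS, Finset.mem_filter, Finset.mem_univ, true_and]
    rw [← hao, ← Subgroup.orderOf_mk a ha]
    exact pow_orderOf_eq_one _
  rw [← Finset.eq_of_subset_of_card_le hle hc, Set.mem_toFinset, SetLike.mem_coe] at haS
  obtain ⟨k, hk⟩ := haS
  exact ⟨k, by simpa using congrArg Subtype.val hk⟩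

/-- Existence of the tori data. -/
theorem exists_tori (hq : Fintype.card F % 8 = 3 ∨ Fintype.card F % 8 = 5) (hbig : 11 ≤ Fintype.card F)
    {w : P2 F} (hw : orderOf w = 2) :
    ∃ p, Nonempty (Tori F w p
      (if Fintype.card F % 4 = 1 then (Fintype.card F - 1) / 4 else (Fintype.card F + 1) / 4)
      (if Fintype.card F % 4 = 1 then (Fintype.card F + 1) / 2 else (Fintype.card F - 1) / 2)) := by
  classical
  obtain ⟨p, hp⟩ := CharP.exists F
  obtain ⟨n, hpp, hn⟩ := FiniteField.card F p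
  have : Fact p.Prime := ⟨hpp⟩
  have h2 := two_ne_zero_of_mod_eight hq
  set q := Fintype.card F with hqdef
  set e := if q % 4 = 1 then (q - 1) / 4 else (q + 1) / 4 with he
  set f := if q % 4 = 1 then (q + 1) / 2 else (q - 1) / 2 with hf
  have hef : (q % 4 = 1 ∧ 4 * e + 1 = q ∧ 2 * f = q + 1) ∨ (q % 4 = 3 ∧ 4 * e = q + 1 ∧ 2 * f + 1 = q) := by
    rcases hq with h | h
    · refine Or.inr ⟨by omega, ?_⟩
      rw [he, hf, if_neg (by omega), if_neg (by omega)]
      omega
    · refine Or.inl ⟨by omega, ?_⟩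
      rw [he, hf, if_pos (by omega), if_pos (by omega)]
      omega
  clear_value e f
  clear he hf
  have heo : Odd e := Nat.odd_iff.2 (by omega)
  have hfo : Odd f := Nat.odd_iff.2 (by omega)
  have hp2 : p ≠ 2 := fun h => by
    have : 2 ∣ q := by rw [hn, h]; exact dvd_pow_self 2 n.ne_zero
    omega
  have hpq : p ∣ q := by rw [hn]; exact dvd_pow_self p n.ne_zero
  have hpf : ¬ p ∣ f := by
    intro h
    have h2f : p ∣ 2 * f := h.mul_left 2
    rcases hef with ⟨-, -, h'⟩ | ⟨-, -, h'⟩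
    · rw [h'] at h2f
      exact hpp.not_dvd_one ((Nat.dvd_add_right hpq).1 h2f)
    · rw [← h'] at hpq
      exact hpp.not_dvd_one ((Nat.dvd_add_right h2f).1 hpq)
  have hcardP : 2 * Nat.card (P2 F) = q * (q ^ 2 - 1) := by
    have h := CfsgLib.Classical.Two.card_PSL_two (F := F)
    rwa [gcd_two_pred h2] at h
  -- the involution and its torus
  obtain ⟨A, hAw, hA, -⟩ := exists_lift_invol h2 hw
  set Tw := torusOf A with hTw
  have hTwc : Nat.card Tw = 2 * e := by
    have h := two_mul_card_torusOf h2 hA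
    rw [← hTw, ← hqdef] at h
    rcases hef with ⟨h1, h', -⟩ | ⟨h1, h', -⟩
    · rw [if_pos h1] at h; omega
    · rw [if_neg (by omega)] at h; omega
  have := torusOf_isCyclic h2 hA
  rw [← hTw] at this
  obtain ⟨⟨g0, hg0⟩, hgen⟩ := IsCyclic.exists_generator (α := Tw)
  have hg0o : orderOf g0 = 2 * e := by
    rw [← Subgroup.orderOf_mk g0 hg0, orderOf_eq_card_of_forall_mem_zpowers hgen, hTwc]
  have hTwpow : ∀ x ∈ Tw, ∃ j : ℕ, g0 ^ j = x := fun x hx => by
    obtain ⟨j, hj⟩ := (isOfFinOrder_of_finite (⟨g0, hg0⟩ : Tw)).mem_powers_iff_mem_zpowers.2 (hgen ⟨x, hx⟩)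
    exact ⟨j, congrArg Subtype.val hj⟩
  have hwTw : w ∈ Tw := mem_torusOf.2 ⟨A, rfl, hAw⟩
  have hwg : w = g0 ^ e := by
    obtain ⟨j, hj⟩ := hTwpow w hwTw
    have h1 : g0 ^ (2 * j) = 1 := by
      rw [mul_comm, pow_mul, hj]
      exact orderOf_dvd_iff_pow_eq_one.1 (dvd_of_eq hw)
    have h3 := orderOf_dvd_of_pow_eq_one h1
    rw [hg0o] at h3
    obtain ⟨i, rfl⟩ := (Nat.mul_dvd_mul_iff_left two_pos).1 h3
    rcases Nat.even_or_odd' i with ⟨m, rfl | rfl⟩
    · exfalso
      rw [show e * (2 * m) = 2 * e * m by ring, pow_mul, ← hg0o, pow_orderOf_eq_one, one_pow] at hj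
      simp [← hj] at hw
    · rw [← hj, show e * (2 * m + 1) = 2 * e * m + e by ring, pow_add, pow_mul, ← hg0o, pow_orderOf_eq_one,
        one_pow, one_mul]
  set R := Subgroup.zpowers (g0 ^ 2) with hR
  have hRc : Nat.card R = e := by
    rw [hR, Nat.card_zpowers, orderOf_pow' _ two_ne_zero, hg0o, Nat.gcd_eq_right (dvd_mul_right 2 e)]
    omega
  have hRTw : R ≤ Tw := Subgroup.zpowers_le.2 (pow_mem hg0 2)
  have hRpow : ∀ j : ℕ, Even j → g0 ^ j ∈ R := fun j ⟨i, hi⟩ => by
    rw [hi, ← two_mul, pow_mul]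
    exact pow_mem (Subgroup.mem_zpowers _) i
  have hTwR : ∀ x, x ∈ Tw ↔ x ∈ R ∨ w * x ∈ R := by
    intro x
    refine ⟨fun hx => ?_, fun h => ?_⟩
    · obtain ⟨j, rfl⟩ := hTwpow x hx
      rcases Nat.even_or_odd j with hj | hj
      · exact Or.inl (hRpow j hj)
      · refine Or.inr ?_
        rw [hwg, ← pow_add]
        exact hRpow _ (heo.add_odd hj)
    · rcases h with h | h
      · exact hRTw h
      · have := mul_mem (inv_mem hwTw) (hRTw h)
        rwa [inv_mul_cancel_left] at this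
  have hTwcomm : ∀ x ∈ Tw, ∀ y ∈ Tw, x * y = y * x := fun x hx y hy => by
    obtain ⟨i, rfl⟩ := hTwpow x hx
    obtain ⟨j, rfl⟩ := hTwpow y hy
    exact (Commute.pow_pow_self g0 i j).eq
  have hRodd : ∀ r ∈ R, Odd (orderOf r) := fun r hr =>
    heo.of_dvd_nat (hRc ▸ Subgroup.orderOf_dvd_natCard _ hr)
  have hmemR : ∀ r, r ∈ R ↔ Odd (orderOf r) ∧ r * w = w * r := by
    intro r
    refine ⟨fun hr => ⟨hRodd r hr, hTwcomm r (hRTw hr) w hwTw⟩, fun ⟨hodd, hcom⟩ => ?_⟩
    have hrT : r ∈ Tw := by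
      rcases centralizer_mk_cases h2 hA (k := r) (by rw [hAw]; exact hcom) with h | ⟨h, -⟩
      · exact h
      · rw [h] at hodd; exact absurd hodd (by decide)
    rcases (hTwR r).1 hrT with h | h
    · exact h
    · exfalso
      have hwr := hRodd _ h
      -- `w = (w r) r⁻¹` would have odd order
      have hc : Commute (w * r) r⁻¹ := (Commute.mul_left hcom.symm (Commute.refl r)).inv_right
      have hd : orderOf (w * r * r⁻¹) ∣ Nat.lcm (orderOf (w * r)) (orderOf r⁻¹) := hc.orderOf_mul_dvd_lcm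
      rw [mul_inv_cancel_right, hw, orderOf_inv] at hd
      have := (hd.trans (Nat.lcm_dvd_mul _ _))
      exact (Nat.not_even_iff_odd.2 (hwr.mul hodd)) (even_iff_two_dvd.2 this)
  have hRcomm : ∀ r ∈ R, ∀ s ∈ R, r * s = s * r := fun r hr s hs => hTwcomm r (hRTw hr) s (hRTw hs)
  -- centralisers of elements of odd order
  have hlift : ∀ k : P2 F, Odd (orderOf k) → k ≠ 1 →
      (∃ h : P2 F, h * k * h⁻¹ ∈ Us F) ∨
        ∃ y : S2 F, mk y = k ∧ CfsgLib.PLocal.SLTwo.NonScalar y ∧ tr y ≠ 0 ∧ tr y ^ 2 ≠ 4 ∧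
          (Nat.card (Subgroup.centralizer ({k} : Set (P2 F))) = 2 * e ∨
            Nat.card (Subgroup.centralizer ({k} : Set (P2 F))) = f) := by
    intro k hodd hk1
    have hkk : k * k ≠ 1 := fun h => by
      have hd : orderOf k ∣ 2 := orderOf_dvd_of_pow_eq_one (by rw [pow_two]; exact h)
      rcases (Nat.dvd_prime Nat.prime_two).1 hd with h' | h'
      · exact hk1 (orderOf_eq_one_iff.1 h')
      · rw [h'] at hodd; exact absurd hodd (by decide)
    obtain ⟨y, rfl, hns, h0⟩ := lift_data hkk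
    by_cases h4 : tr y ^ 2 = 4
    · exact Or.inl (conj_into_root h2 h4)
    · refine Or.inr ⟨y, rfl, hns, h0, h4, ?_⟩
      rcases centralizer_card_cases h2 h0 h4 with h | h <;> rw [← hqdef] at h <;> rcases hef with ⟨-, h5, h6⟩ | ⟨-, h5, h6⟩ <;>
        first | exact Or.inl (Nat.eq_of_mul_eq_mul_left two_pos (h.trans (by omega))) | exact Or.inr (Nat.eq_of_mul_eq_mul_left two_pos (h.trans (by omega)))
  have hroot : ∀ k m h : P2 F, k ≠ 1 → h * k * h⁻¹ ∈ Us F → m * k = k * m → m ^ p = 1 := by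
    intro k m h hk1 hh hm
    obtain ⟨t, ht⟩ := hh
    have ht0 : t ≠ 0 := fun h0 => hk1 (conj_eq_one_iff.1 (by rw [← ht, h0, u_zero]))
    obtain ⟨s, hs⟩ := centralizer_root h2 ht0 (k := h * m * h⁻¹) (by
      rw [ht]
      calc h * m * h⁻¹ * (h * k * h⁻¹) = h * (m * k) * h⁻¹ := by group
        _ = h * (k * m) * h⁻¹ := by rw [hm]
        _ = _ := by group)
    refine (conj_eq_one_iff (a := h)).1 ?_
    rw [← conj_pow, ← hs, u, ← map_pow, U_pow, CharP.cast_eq_zero F p, zero_mul]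
    exact u_zero
  have hRlift : ∀ r ∈ R, r ≠ 1 → ∃ y : S2 F, mk y = r ∧ CfsgLib.PLocal.SLTwo.NonScalar y ∧ tr y ≠ 0 ∧
      tr y ^ 2 ≠ 4 ∧ Subgroup.centralizer ({r} : Set (P2 F)) = Tw := by
    intro r hr hr1
    rcases hlift r (hRodd r hr) hr1 with ⟨h, hh⟩ | ⟨y, hy, hns, h0, h4, hcard⟩
    · exfalso
      have := orderOf_dvd_of_pow_eq_one (hroot r w h hr1 hh (hTwcomm w hwTw r (hRTw hr)))
      rw [hw, Nat.prime_dvd_prime_iff_eq Nat.prime_two hpp] at this
      exact hp2 this.symm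
    · refine ⟨y, hy, hns, h0, h4, ?_⟩
      have hle : Tw ≤ Subgroup.centralizer ({r} : Set (P2 F)) := fun x hx =>
        Subgroup.mem_centralizer_singleton_iff.2 (hTwcomm x hx r (hRTw hr))
      have hdvd := Subgroup.card_dvd_of_le hle
      rw [hTwc] at hdvd
      refine (Subgroup.eq_of_le_of_card_ge hle ?_).symm
      rcases hcard with h | h
      · exact le_of_eq (h.trans hTwc.symm)
      · exfalso
        rw [h] at hdvd
        exact (Nat.not_even_iff_odd.2 hfo) (even_iff_two_dvd.2 ((dvd_mul_right 2 e).trans hdvd))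
  have hCR : ∀ r ∈ R, r ≠ 1 → ∀ k : P2 F, k * r = r * k ↔ k ∈ R ∨ w * k ∈ R := fun r hr hr1 k => by
    obtain ⟨-, -, -, -, -, hC⟩ := hRlift r hr hr1
    rw [← hTwR, ← hC, Subgroup.mem_centralizer_singleton_iff]
  -- the second torus
  obtain ⟨g1, hg1⟩ : ∃ g : P2 F, orderOf g = f := by
    refine CfsgLib.Classical.Dickson.exists_orderOf p (q := q) rfl (by omega) ?_
    rw [gcd_two_pred h2]
    rcases hef with ⟨-, -, h⟩ | ⟨-, -, h⟩
    · exact Or.inl (by rw [← h, Nat.mul_div_cancel_left f two_pos])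
    · exact Or.inr (dvd_of_eq (by omega))
  set T := Subgroup.zpowers g1 with hT
  have hTc : Nat.card T = f := by rw [hT, Nat.card_zpowers, hg1]
  have hTodd : ∀ z ∈ T, Odd (orderOf z) := fun z hz =>
    hfo.of_dvd_nat (hTc ▸ Subgroup.orderOf_dvd_natCard _ hz)
  have hTcomm : ∀ a ∈ T, ∀ b ∈ T, a * b = b * a := by
    rintro _ ⟨i, rfl⟩ _ ⟨j, rfl⟩
    exact (Commute.zpow_zpow_self g1 i j).eq
  have hf1 : 1 < f := by omega
  have hTlift : ∀ z ∈ T, z ≠ 1 → ∃ y : S2 F, mk y = z ∧ CfsgLib.PLocal.SLTwo.NonScalar y ∧ tr y ≠ 0 ∧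
      tr y ^ 2 ≠ 4 ∧ Subgroup.centralizer ({z} : Set (P2 F)) = T := by
    intro z hz hz1
    rcases hlift z (hTodd z hz) hz1 with ⟨h, hh⟩ | ⟨y, hy, hns, h0, h4, hcard⟩
    · exfalso
      have := orderOf_dvd_of_pow_eq_one (hroot z g1 h hz1 hh (hTcomm g1 (Subgroup.mem_zpowers g1) z hz))
      rw [hg1] at this
      rcases (Nat.dvd_prime hpp).1 this with h' | h'
      · omega
      · exact hpf (dvd_of_eq h'.symm)
    · refine ⟨y, hy, hns, h0, h4, ?_⟩
      have hle : T ≤ Subgroup.centralizer ({z} : Set (P2 F)) := fun x hx =>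
        Subgroup.mem_centralizer_singleton_iff.2 (hTcomm x hx z hz)
      refine (Subgroup.eq_of_le_of_card_ge hle ?_).symm
      rcases hcard with h | h
      · exfalso
        have hd := Subgroup.card_dvd_of_le hle
        rw [hTc, h] at hd
        have h1 : f ∣ 1 := by
          rcases hef with ⟨-, he', hf'⟩ | ⟨-, he', hf'⟩
          · have : f = 2 * e + 1 := by omega
            exact (Nat.dvd_add_right hd).1 (dvd_of_eq this)
          · have : 2 * e = f + 1 := by omega
            rw [this] at hd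
            exact (Nat.dvd_add_right dvd_rfl).1 hd
        have := Nat.dvd_one.1 h1
        omega
      · omega
  have hCT : ∀ z ∈ T, z ≠ 1 → ∀ k : P2 F, k * z = z * k ↔ k ∈ T := fun z hz hz1 k => by
    obtain ⟨-, -, -, -, -, hC⟩ := hTlift z hz hz1
    rw [← hC, Subgroup.mem_centralizer_singleton_iff]
  have hg11 : g1 ≠ 1 := fun h => by rw [h, orderOf_one] at hg1; omega
  obtain ⟨y1, hy1, -, -, hy14, -⟩ := hTlift g1 (Subgroup.mem_zpowers g1) hg11
  obtain ⟨iT, hiT2, hiTinv, hiTnot⟩ : ∃ i : P2 F, i * i = 1 ∧ i * g1 * i⁻¹ = g1⁻¹ ∧ i ∉ Subgroup.zpowers g1 := by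
    obtain ⟨i, h1, h3, h5⟩ := CfsgLib.Classical.Dickson.exists_inverter (A := y1) hy14
    exact ⟨i, h1, hy1 ▸ h3, hy1 ▸ h5⟩
  have hiTo : orderOf iT = 2 :=
    orderOf_eq_prime (by rw [pow_two]; exact hiT2) fun h => hiTnot (h ▸ one_mem _)
  have hiTall : ∀ z ∈ T, iT * z * iT⁻¹ = z⁻¹ := by
    rintro _ ⟨j, rfl⟩
    show iT * g1 ^ j * iT⁻¹ = (g1 ^ j)⁻¹
    rw [← conj_zpow, hiTinv, inv_zpow]
  -- an inverter of the first torus
  obtain ⟨B, hB⟩ := exists_anticommute h2 hA
  have hAt := tr_eq_zero_of_sq hA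
  have hBo : orderOf (mk B) = 2 := orderOf_mk_of_tr_zero h2 (tr_zero_of_anticommute h2 hAt hB)
  have hBinv : ∀ x ∈ Tw, mk B * x * (mk B)⁻¹ = x⁻¹ := fun x hx => by
    obtain ⟨y, hy, rfl⟩ := mem_torusOf.1 hx
    exact inverts h2 hAt hB hy
  have hBnot : mk B ∉ Tw := by
    intro h
    have h1 := hBinv g0 hg0
    rw [hTwcomm (mk B) h g0 hg0, mul_inv_cancel_right] at h1
    have h3 : g0 ^ 2 = 1 := by rw [pow_two]; exact eq_inv_iff_mul_eq_one.1 h1
    have := Nat.le_of_dvd two_pos (hg0o ▸ orderOf_dvd_of_pow_eq_one h3)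
    omega
  -- the root group
  have hUc : Nat.card (Us F) = q := card_Us
  have hUodd : ∀ x ∈ Us F, Odd (orderOf x) := fun x hx =>
    (Nat.odd_iff.2 (by omega) : Odd q).of_dvd_nat (hUc ▸ Subgroup.orderOf_dvd_natCard _ hx)
  have hCU : ∀ x ∈ Us F, x ≠ 1 → ∀ k : P2 F, k * x = x * k ↔ k ∈ Us F := by
    intro x hx hx1 k
    refine ⟨fun h => ?_, fun hk => Us_comm hk hx⟩
    obtain ⟨t, rfl⟩ := hx
    exact centralizer_root h2 (fun h0 => hx1 (by rw [h0, u_zero])) h
  obtain ⟨ν, hν⟩ := FiniteField.exists_nonsquare (ringChar_ne_two h2)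
  have hν0 := nonsquare_ne_zero hν
  refine ⟨p, ⟨{
    R := R
    T := T
    U := Us F
    prime_p := hpp
    card_field := ⟨n, n.pos, hn⟩
    mem_R := hmemR
    R_cyclic := (Subgroup.isCyclic_iff_exists_zpowers_eq_top R).2 ⟨_, hR.symm⟩
    T_cyclic := (Subgroup.isCyclic_iff_exists_zpowers_eq_top T).2 ⟨_, hT.symm⟩
    U_exp := ?_
    U_comm := fun a ha b hb => Us_comm ha hb
    card_R := hRc
    card_T := hTc
    card_U := hUc
    cent_w := ?_
    cent_R := hCR
    cent_T := hCT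
    cent_U := hCU
    cover := ?_
    inverter_R := ⟨mk B, hBo, fun r hr => hBinv r (hRTw hr)⟩
    inverter_T := ⟨iT, hiTo, hiTall⟩
    fusion_R := ?_
    fusion_T := ?_
    inv_count := ?_
    inv_R := ?_
    inv_T := ?_
    inv_U := ?_
    plus := u 1
    minus := u ν
    plus_mem := u_mem 1
    minus_mem := u_mem ν
    plus_ne := fun h => one_ne_zero (u_eq_one h)
    minus_ne := fun h => hν0 (u_eq_one h)
    two_classes := ?_
    root_cases := ?_
    card_plus := card_plus_class hν h2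
    card_minus := card_minus_class hν h2
    gauss := gauss_classes hν h2 }⟩⟩
  · rintro _ ⟨t, rfl⟩
    rw [u, ← map_pow, U_pow, CharP.cast_eq_zero F p, zero_mul]
    exact u_zero
  · intro k hk
    rcases centralizer_mk_cases h2 hA (k := k) (by rw [hAw]; exact hk) with h | ⟨h, h'⟩
    · rcases (hTwR k).1 h with h | h
      · exact Or.inl h
      · exact Or.inr (Or.inl h)
    · exact Or.inr (Or.inr ⟨h, fun r hr => h' r (hRTw hr)⟩)
  · intro k hodd
    by_cases hk1 : k = 1
    · exact ⟨1, Or.inl (by rw [hk1]; simp)⟩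
    rcases hlift k hodd hk1 with ⟨h, hh⟩ | ⟨y, hy, hns, h0, h4, hcard⟩
    · exact ⟨h, Or.inr (Or.inr hh)⟩
    · have hcomm : ∀ a b : P2 F, a * k = k * a → b * k = k * b → a * b = b * a := fun a b ha hb => by
        rw [← hy] at ha hb
        exact centralizer_comm h2 hns h0 ha hb
      rcases hcard with h | h
      · have : Fact (Nat.Prime 2) := ⟨Nat.prime_two⟩
        obtain ⟨⟨i, hi⟩, hio⟩ := exists_prime_orderOf_dvd_card'
          (G := Subgroup.centralizer ({k} : Set (P2 F))) 2 (by rw [h]; exact dvd_mul_right 2 e)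
        rw [Subgroup.orderOf_mk] at hio
        obtain ⟨c, hc⟩ := isConj_iff.1 (psl_involutions_isConj hq (by omega) hio hw)
        refine ⟨c, Or.inl ((hmemR _).2 ⟨?_, ?_⟩)⟩
        · rw [CfsgLib.Signalizer.orderOf_conj]; exact hodd
        · rw [← hc]
          have := Subgroup.mem_centralizer_singleton_iff.1 hi
          calc c * k * c⁻¹ * (c * i * c⁻¹) = c * (k * i) * c⁻¹ := by group
            _ = c * (i * k) * c⁻¹ := by rw [this]
            _ = _ := by group
      · set o := orderOf k with ho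
        have ho1 : o ≠ 1 := fun h' => hk1 (orderOf_eq_one_iff.1 h')
        have hrp := Nat.minFac_prime ho1
        set r := o.minFac with hr
        have : Fact r.Prime := ⟨hrp⟩
        have hrf : r ∣ f := (Nat.minFac_dvd o).trans (h ▸ Subgroup.orderOf_dvd_natCard _
          (Subgroup.mem_centralizer_singleton_iff.2 rfl : k ∈ Subgroup.centralizer ({k} : Set (P2 F))))
        have hr2 : r ≠ 2 := fun h' => (Nat.not_even_iff_odd.2 hfo) (even_iff_two_dvd.2 (h' ▸ hrf))
        have hrpne : r ≠ p := fun h' => hpf (h' ▸ hrf)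
        have hk'o : orderOf (k ^ (o / r)) = r := orderOf_pow_orderOf_div (orderOf_pos k).ne' (Nat.minFac_dvd o)
        have hzo : orderOf (g1 ^ (f / r)) = r := by
          have := orderOf_pow_orderOf_div (x := g1) (orderOf_pos g1).ne' (hg1.symm ▸ hrf)
          rwa [hg1] at this
        set k' := k ^ (o / r) with hk'
        set z := g1 ^ (f / r) with hz
        have hpg : ∀ a : P2 F, orderOf a = r → IsPGroup r (Subgroup.zpowers a) := fun a ha =>
          IsPGroup.of_card (n := 1) (by rw [Nat.card_zpowers, ha, pow_one])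
        obtain ⟨Qk, hQk⟩ := (hpg k' hk'o).exists_le_sylow
        obtain ⟨Qz, hQz⟩ := (hpg z hzo).exists_le_sylow
        obtain ⟨g, hg⟩ := MulAction.exists_smul_eq (P2 F) Qk Qz
        have hgk : g * k' * g⁻¹ ∈ (Qz : Subgroup (P2 F)) := by
          rw [← hg, Sylow.coe_subgroup_smul]
          exact ⟨k', hQk (Subgroup.mem_zpowers k'), rfl⟩
        have := psl_sylow_isCyclic p r hr2 hrpne Qz
        have hgT : g * k' * g⁻¹ ∈ T := Subgroup.zpowers_le.2 (pow_mem (Subgroup.mem_zpowers g1) _)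
          (mem_zpowers_of_cyclic hrp.pos hgk (hQz (Subgroup.mem_zpowers z))
            (by rw [CfsgLib.Signalizer.orderOf_conj, hk'o]) hzo)
        have hne : g * k' * g⁻¹ ≠ 1 := fun h' => by
          rw [conj_eq_one_iff] at h'
          rw [h', orderOf_one] at hk'o
          exact hrp.ne_one hk'o.symm
        refine ⟨g, Or.inr (Or.inl ((hCT _ hgT hne _).1 ?_))⟩
        have hkk' : k * k' = k' * k := (Commute.self_pow k _).eq
        calc g * k * g⁻¹ * (g * k' * g⁻¹) = g * (k * k') * g⁻¹ := by group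
          _ = g * (k' * k) * g⁻¹ := by rw [hkk']
          _ = _ := by group
  · intro r hr h hh
    by_cases hr1 : r = 1
    · left; rw [hr1]; simp
    obtain ⟨y, rfl, hns, h0, h4, -⟩ := hRlift r hr hr1
    exact fusion_of_commute h2 hns h0 h4 (hRcomm _ hh _ hr)
  · intro z hz h hh
    by_cases hz1 : z = 1
    · left; rw [hz1]; simp
    obtain ⟨y, rfl, hns, h0, h4, -⟩ := hTlift z hz hz1
    exact fusion_of_commute h2 hns h0 h4 (hTcomm _ hh _ hz)
  · let C := Subgroup.centralizer ({w} : Set (P2 F))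
    let orb : P2 F ⧸ C → {i : P2 F // orderOf i = 2} := fun x => Quotient.liftOn' x
      (fun g => ⟨g * w * g⁻¹, by rw [CfsgLib.Signalizer.orderOf_conj, hw]⟩) (fun a b h => by
        rw [QuotientGroup.leftRel_apply] at h
        have e1 := Subgroup.mem_centralizer_singleton_iff.1 h
        apply Subtype.ext
        show a * w * a⁻¹ = b * w * b⁻¹
        calc a * w * a⁻¹ = a * (w * (a⁻¹ * b)) * b⁻¹ := by group
          _ = a * ((a⁻¹ * b) * w) * b⁻¹ := by rw [e1]
          _ = b * w * b⁻¹ := by group)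
    have horb : Function.Bijective orb := by
      constructor
      · intro a b h
        induction a using QuotientGroup.induction_on with | H a =>
        induction b using QuotientGroup.induction_on with | H b =>
        have e1 : a * w * a⁻¹ = b * w * b⁻¹ := congrArg Subtype.val h
        refine QuotientGroup.eq.2 (Subgroup.mem_centralizer_singleton_iff.2 ?_)
        calc a⁻¹ * b * w = a⁻¹ * (b * w * b⁻¹) * b := by group
          _ = a⁻¹ * (a * w * a⁻¹) * b := by rw [e1]
          _ = w * (a⁻¹ * b) := by group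
      · intro i
        obtain ⟨g, hg⟩ := isConj_iff.1 (psl_involutions_isConj hq (by omega) hw i.2)
        exact ⟨(g : P2 F ⧸ C), Subtype.ext hg⟩
    rw [← Nat.card_congr (Equiv.ofBijective _ horb)]
    have hC : Nat.card C = 4 * e := by
      have h := card_centralizer_mk h2 hA
      rw [hAw, ← hTw, hTwc] at h
      exact h.trans (by ring)
    have h1 : 2 * (Nat.card (P2 F ⧸ C) * Nat.card C) = q * (q ^ 2 - 1) := by
      rw [← Subgroup.card_eq_card_quotient_mul_card_subgroup C]; exact hcardP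
    rw [hC] at h1
    have h3 : q ^ 2 - 1 = 4 * e * (2 * f) := by
      refine Nat.sub_eq_of_eq_add ?_
      rcases hef with ⟨-, a, b⟩ | ⟨-, a, b⟩
      · rw [← a] at b ⊢
        rw [b]; ring
      · rw [← b] at a ⊢
        rw [a]; ring
    rw [h3] at h1
    refine Nat.eq_of_mul_eq_mul_right (show 0 < 4 * e by omega) ?_
    calc 2 * Nat.card (P2 F ⧸ C) * (4 * e) = 2 * (Nat.card (P2 F ⧸ C) * (4 * e)) := by ring
      _ = q * (4 * e * (2 * f)) := h1
      _ = q * (2 * f) * (4 * e) := by ring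
  · intro r hr hr1
    rw [← hTwc]
    exact card_inverters hBo hBnot hBinv (hRTw hr) fun k => (hCR r hr hr1 k).trans (hTwR k).symm
  · intro z hz hz1
    rw [← hTc]
    exact card_inverters hiTo hiTnot hiTall hz (hCT z hz hz1)
  · intro x hx hx1
    obtain ⟨t, rfl⟩ := hx
    have ht0 : t ≠ 0 := fun h0 => hx1 (by rw [h0, u_zero])
    split_ifs with h4
    · obtain ⟨a, ha⟩ := (neg_one_square_iff h2).2 h4
      have ha0 : a ≠ 0 := fun h => by rw [h] at ha; simp at ha
      let d : S2 F := CfsgLib.LocalEven.GoldS.PSLF.dS (Units.mk0 a ha0)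
      have hd : tr d = 0 := by
        show (a : F) + a⁻¹ = 0
        field_simp
        linear_combination -ha
      have hdo := orderOf_mk_of_tr_zero h2 hd
      have hdU : mk d ∉ Us F := fun h => by
        have := hUodd _ h
        rw [hdo] at this
        exact absurd this (by decide)
      refine Eq.trans ?_ hUc
      refine card_inverters hdo hdU ?_ (u_mem t) (hCU _ (u_mem t) hx1)
      rintro _ ⟨s, rfl⟩
      rw [u_inv, u, u, ← map_inv, ← map_mul, ← map_mul]
      congr 1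
      refine CfsgLib.PLocal.SLTwo.ext2 ?_ ?_ ?_ ?_ <;>
        simp [d, CfsgLib.PLocal.SLTwo.m00, CfsgLib.PLocal.SLTwo.m01, CfsgLib.PLocal.SLTwo.m10,
          CfsgLib.PLocal.SLTwo.m11, CfsgLib.PLocal.SLTwo.i00, CfsgLib.PLocal.SLTwo.i01,
          CfsgLib.PLocal.SLTwo.i10, CfsgLib.PLocal.SLTwo.i11, ha0]
      linear_combination (-s) * ha
    · rw [Nat.card_eq_zero]
      refine Or.inl ⟨fun ⟨k, _, hk⟩ => h4 ?_⟩
      obtain ⟨z, rfl⟩ := mk_surjective k
      rw [u_inv] at hk
      obtain ⟨-, hs⟩ := upper_of_conj h2 ht0 hk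
      exact (neg_one_square_iff h2).1 ⟨z.1 0 0, mul_right_cancel₀ ht0 (by linear_combination hs)⟩
  · intro h
    exact hν ((isConj_plus hν h2).1 h).2
  · intro x hx hx1
    obtain ⟨t, rfl⟩ := hx
    have ht0 : t ≠ 0 := fun h0 => hx1 (by rw [h0, u_zero])
    by_cases hs : IsSquare t
    · exact Or.inl ((isConj_plus hν h2).2 ⟨ht0, hs⟩)
    · exact Or.inr ((isConj_minus hν h2).2 hs)

/-- The tori of the context. -/
theorem nonempty_tori {G : Type*} [Group G] (c : Ctx G F) : ∃ p, Nonempty (Tori F c.w p c.e c.f) :=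
  exists_tori c.hq c.hbig c.hw

end CfsgLib.Recog.JankoThompson
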