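import Mathlib

/-!
Owner: helper22. Groups of Janko–Thompson type: the spurious pattern with `Δ` meeting the support of `A₁` leads
to an equation of degree five in the degree `y` without integral solutions.
-/

set_option autoImplicit false
set_option linter.all false
set_option maxHeartbeats 2000000
set_option maxRecDepth 8000

namespace CfsgLib.Recog.JankoThompson.Five

/-- coefficient -/
def pc1 (e : ℤ) : ℤ :=
  (4096) * e ^ 9 + (14336) * e ^ 8 + (15872) * e ^ 7 + (7744) * e ^ 6 + (1728) * e ^ 5 + (144) * e ^ 4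

/-- coefficient -/
def pc2 (e : ℤ) : ℤ :=
  (-16384) * e ^ 10 + (-65536) * e ^ 9 + (-109568) * e ^ 8 + (-114688) * e ^ 7 + (-76480) * e ^ 6 + (-29760) * e ^ 5 + (-6000) * e ^ 4 + (-480) * e ^ 3

/-- coefficient -/
def pc3 (e : ℤ) : ℤ :=
  (24576) * e ^ 8 + (61440) * e ^ 7 + (80896) * e ^ 6 + (62080) * e ^ 5 + (26336) * e ^ 4 + (5632) * e ^ 3 + (472) * e ^ 2

/-- coefficient -/
def pc4 (e : ℤ) : ℤ :=
  (65536) * e ^ 10 + (262144) * e ^ 9 + (483328) * e ^ 8 + (524288) * e ^ 7 + (365568) * e ^ 6 + (161536) * e ^ 5 + (39392) * e ^ 4 + (2752) * e ^ 3 + (-744) * e ^ 2 + (-120) * e ^ 1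

/-- coefficient -/
def pc5 (e : ℤ) : ℤ :=
  (-8192) * e ^ 7 + (-23552) * e ^ 6 + (-31488) * e ^ 5 + (-22656) * e ^ 4 + (-8640) * e ^ 3 + (-1532) * e ^ 2 + (-60) * e ^ 1 + (9)

/-- coefficient -/
def pc6 (e : ℤ) : ℤ :=
  (448) * e ^ 4 + (704) * e ^ 3 + (404) * e ^ 2 + (100) * e ^ 1 + (9)

/-- coefficient -/
def mc1 (e : ℤ) : ℤ :=
  (-4096) * e ^ 9 + (14336) * e ^ 8 + (-15872) * e ^ 7 + (7744) * e ^ 6 + (-1728) * e ^ 5 + (144) * e ^ 4

/-- coefficient -/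
def mc2 (e : ℤ) : ℤ :=
  (-16384) * e ^ 10 + (65536) * e ^ 9 + (-109568) * e ^ 8 + (114688) * e ^ 7 + (-76480) * e ^ 6 + (29760) * e ^ 5 + (-6000) * e ^ 4 + (480) * e ^ 3

/-- coefficient -/
def mc3 (e : ℤ) : ℤ :=
  (24576) * e ^ 8 + (-61440) * e ^ 7 + (80896) * e ^ 6 + (-62080) * e ^ 5 + (26336) * e ^ 4 + (-5632) * e ^ 3 + (472) * e ^ 2

/-- coefficient -/
def mc4 (e : ℤ) : ℤ :=
  (65536) * e ^ 10 + (-262144) * e ^ 9 + (483328) * e ^ 8 + (-524288) * e ^ 7 + (365568) * e ^ 6 + (-161536) * e ^ 5 + (39392) * e ^ 4 + (-2752) * e ^ 3 + (-744) * e ^ 2 + (120) * e ^ 1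

/-- coefficient -/
def mc5 (e : ℤ) : ℤ :=
  (8192) * e ^ 7 + (-23552) * e ^ 6 + (31488) * e ^ 5 + (-22656) * e ^ 4 + (8640) * e ^ 3 + (-1532) * e ^ 2 + (60) * e ^ 1 + (9)

/-- coefficient -/
def mc6 (e : ℤ) : ℤ :=
  (448) * e ^ 4 + (-704) * e ^ 3 + (404) * e ^ 2 + (-100) * e ^ 1 + (9)

theorem no_root {c1 c2 c3 c4 c5 c6 y : ℤ} (hy : y ≠ 0) (h6 : 0 < c6) (h3 : 0 ≤ c3) (h2 : 0 ≤ -c2)
    (key : 4 * c6 * (c3 - c2 + |c1|) < 4 * c6 * c4 - c5 ^ 2)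
    (h : c1 * y + c2 * y ^ 2 + c3 * y ^ 3 + c4 * y ^ 4 + c5 * y ^ 5 + c6 * y ^ 6 = 0) : False := by
  set m := c6 * y ^ 2 + c5 * y + c4 with hm
  have hm1 : c3 - c2 + |c1| < m := by
    have : 4 * c6 * (c3 - c2 + |c1|) < 4 * c6 * m := by
      have e1 : 4 * c6 * m = (2 * c6 * y + c5) ^ 2 + (4 * c6 * c4 - c5 ^ 2) := by rw [hm]; ring
      nlinarith [sq_nonneg (2 * c6 * y + c5)]
    exact lt_of_mul_lt_mul_left this (by omega)
  have hfac : y * (m * y ^ 2 + c3 * y + c2) = -c1 := by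
    have h0 : y * (c1 + y * (m * y ^ 2 + c3 * y + c2)) = 0 := by rw [hm]; linear_combination h
    have := (mul_eq_zero.1 h0).resolve_left hy
    linarith
  have hy1 : 1 ≤ |y| := Int.one_le_abs hy
  have hy2 : |y| ≤ y ^ 2 := by rw [← sq_abs]; nlinarith
  have hgt : |c1| < m * y ^ 2 + c3 * y + c2 := by
    have a1 : (c3 - c2 + |c1| + 1) * y ^ 2 ≤ m * y ^ 2 := mul_le_mul_of_nonneg_right (by omega) (sq_nonneg y)
    have a2 : -(c3 * y ^ 2) ≤ c3 * y := by nlinarith [neg_abs_le y, mul_le_mul_of_nonneg_left hy2 h3]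
    have a3 : -c2 * 1 ≤ -c2 * y ^ 2 := mul_le_mul_of_nonneg_left (hy1.trans hy2) h2
    have a4 : |c1| * 1 ≤ |c1| * y ^ 2 := mul_le_mul_of_nonneg_left (hy1.trans hy2) (abs_nonneg _)
    nlinarith [hy1.trans hy2]
  have h0 := abs_nonneg c1
  have : |y| * (m * y ^ 2 + c3 * y + c2) = |c1| := by
    rw [← abs_of_pos (show 0 < m * y ^ 2 + c3 * y + c2 by linarith), ← abs_mul, hfac, abs_neg]
  nlinarith

theorem p_facts (e : ℤ) (he : 7 ≤ e) : 0 < pc6 e ∧ 0 ≤ pc3 e ∧ 0 ≤ -pc2 e ∧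
    4 * pc6 e * (pc3 e - pc2 e + |pc1 e|) < 4 * pc6 e * pc4 e - pc5 e ^ 2 := by
  obtain ⟨k, hk⟩ : ∃ k : ℕ, e = k + 7 := ⟨(e - 7).toNat, by omega⟩
  subst hk
  refine ⟨by unfold pc6; ring_nf; positivity, by unfold pc3; ring_nf; positivity,
    by unfold pc2; ring_nf; positivity, ?_⟩
  rw [abs_of_nonneg (show 0 ≤ pc1 ((k : ℤ) + 7) by unfold pc1; ring_nf; positivity), ← sub_pos]
  unfold pc1 pc2 pc3 pc4 pc5 pc6
  ring_nf
  positivity

theorem m_facts (e : ℤ) (he : 7 ≤ e) : 0 < mc6 e ∧ 0 ≤ mc3 e ∧ 0 ≤ -mc2 e ∧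
    4 * mc6 e * (mc3 e - mc2 e + |mc1 e|) < 4 * mc6 e * mc4 e - mc5 e ^ 2 := by
  obtain ⟨k, hk⟩ : ∃ k : ℕ, e = k + 7 := ⟨(e - 7).toNat, by omega⟩
  subst hk
  refine ⟨by unfold mc6; ring_nf; positivity, by unfold mc3; ring_nf; positivity,
    by unfold mc2; ring_nf; positivity, ?_⟩
  rw [abs_of_nonpos (neg_nonneg.1 (show 0 ≤ -mc1 ((k : ℤ) + 7) by unfold mc1; ring_nf; positivity)), ← sub_pos]
  unfold mc1 mc2 mc3 mc4 mc5 mc6
  ring_nf
  positivity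

/-- the pattern does not occur -/
theorem impossible {q e f ε : ℤ} (hε : ε = 1 ∨ ε = -1) (he : 7 ≤ e) (hq : q = 4 * e + ε) (hf : f = 2 * e + ε)
    {v y Q D : ℤ} (hv : v ≠ 0) (hy : y ≠ 0) (hQ : Q ≠ 0) (hD : D ≠ 0) (h1 : 1 + v + 2 * y = 0)
    (h2 : 1 - v + 2 * Q - D = 0)
    (eA : 1 + (q : ℚ) ^ 2 / v + 8 * (e : ℚ) ^ 2 / y = 32 * (ε * e * f ^ 3 : ℚ) / (q * D))
    (eP : 1 - (q : ℚ) ^ 2 / v + 8 * (f : ℚ) ^ 2 / Q - 4 * (f : ℚ) ^ 2 / D =
      (f : ℚ) ^ 2 * (64 * ε * e ^ 2 + 32 * q) / (q * D)) : False := by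
  have hq0 : q ≠ 0 := by rcases hε with h | h <;> omega
  have hq' : (q : ℚ) ≠ 0 := by exact_mod_cast hq0
  have hv' : (v : ℚ) ≠ 0 := by exact_mod_cast hv
  have hy' : (y : ℚ) ≠ 0 := by exact_mod_cast hy
  have hQ' : (Q : ℚ) ≠ 0 := by exact_mod_cast hQ
  have hD' : (D : ℚ) ≠ 0 := by exact_mod_cast hD
  -- the first equation
  have g1 : q * D * (y - 2 * ε * e) ^ 2 = -(16 * ε * e * f ^ 3 * y * v) := by
    have hvv : (v : ℚ) = -1 - 2 * y := by exact_mod_cast (show v = -1 - 2 * y by omega)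
    have hεQ : (ε : ℚ) * ε = 1 := by rcases hε with h | h <;> subst h <;> norm_num
    have hqq : (q : ℚ) = 4 * e + ε := by exact_mod_cast hq
    have t1 : ((q : ℚ) ^ 2 / v) * v = q ^ 2 := by field_simp
    have t2 : (8 * (e : ℚ) ^ 2 / y) * y = 8 * e ^ 2 := by field_simp
    have t3 : (32 * (ε * e * f ^ 3 : ℚ) / (q * D)) * (q * D) = 32 * (ε * e * f ^ 3 : ℚ) := by field_simp
    have h : (q : ℚ) * D * (v * y + q ^ 2 * y + 8 * e ^ 2 * v) = 32 * (ε * e * f ^ 3) * v * y := by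
      linear_combination (q * D * v * y) * eA - q * D * y * t1 - q * D * v * t2 + v * y * t3
    have h' : q * D * (v * y + q ^ 2 * y + 8 * e ^ 2 * v) = 32 * (ε * e * f ^ 3) * v * y := by exact_mod_cast h
    have hpoly : v * y + q ^ 2 * y + 8 * e ^ 2 * v = -2 * (y - 2 * ε * e) ^ 2 := by
      have hv1 : v = -1 - 2 * y := by omega
      rw [hv1, hq]; rcases hε with h | h <;> subst h <;> ring
    rw [hpoly] at h'
    linarith
  -- the sum of the equations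
  have g2 : (2 * y + 8 * e ^ 2) * Q * D + 8 * f ^ 2 * y * D = 4 * f ^ 2 * (9 + 8 * ε * e) * y * Q := by
    have hK : (f : ℚ) ^ 2 * (64 * ε * e ^ 2 + 32 * q) / (q * D) + 32 * (ε * e * f ^ 3 : ℚ) / (q * D) +
        4 * (f : ℚ) ^ 2 / D = 4 * (f : ℚ) ^ 2 * (9 + 8 * ε * e) / D := by
      have hqq : (q : ℚ) = 4 * e + ε := by exact_mod_cast hq
      have hff : (f : ℚ) = 2 * e + ε := by exact_mod_cast hf
      rw [show 4 * (f : ℚ) ^ 2 / D = 4 * (f : ℚ) ^ 2 * q / (q * D) by field_simp,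
        show 4 * (f : ℚ) ^ 2 * (9 + 8 * ε * e) / D = 4 * (f : ℚ) ^ 2 * (9 + 8 * ε * e) * q / (q * D) by field_simp,
        ← add_div, ← add_div]
      congr 1
      rw [hqq, hff]
      rcases hε with h | h <;> subst h <;> push_cast <;> ring
    have t1 : (8 * (e : ℚ) ^ 2 / y) * y = 8 * e ^ 2 := by field_simp
    have t2 : (8 * (f : ℚ) ^ 2 / Q) * Q = 8 * f ^ 2 := by field_simp
    have t3 : (4 * (f : ℚ) ^ 2 * (9 + 8 * ε * e) / D) * D = 4 * (f : ℚ) ^ 2 * (9 + 8 * ε * e) := by field_simp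
    have h : (2 * (y : ℚ) + 8 * e ^ 2) * Q * D + 8 * f ^ 2 * y * D = 4 * f ^ 2 * (9 + 8 * ε * e) * y * Q := by
      linear_combination (y * Q * D : ℚ) * eA + (y * Q * D : ℚ) * eP + (y * Q * D : ℚ) * hK - Q * D * t1 -
        y * D * t2 + y * Q * t3
    exact_mod_cast h
  -- the polynomial
  set N := 8 * ε * e * f ^ 3 * y * (2 * y + 1) with hN
  set M := q * (y - 2 * ε * e) ^ 2 with hM
  have hDM : D * M = 2 * N := by
    rw [hM, hN]; linear_combination g1 - 16 * ε * e * f ^ 3 * y * h1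
  have hQM : Q * M = N - (1 + y) * M := by
    have : 2 * (Q * M) = 2 * (N - (1 + y) * M) := by linear_combination M * h2 + M * h1 + hDM
    linarith
  have hP : (y + 4 * e ^ 2) * N * (N - (1 + y) * M) + 4 * f ^ 2 * y * N * M -
      f ^ 2 * (9 + 8 * ε * e) * y * (N - (1 + y) * M) * M = 0 := by
    have h4 : 4 * ((y + 4 * e ^ 2) * N * (N - (1 + y) * M) + 4 * f ^ 2 * y * N * M -
        f ^ 2 * (9 + 8 * ε * e) * y * (N - (1 + y) * M) * M) = 0 := by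
      rw [← hQM]
      linear_combination M ^ 2 * g2 - (2 * (y + 4 * e ^ 2) * Q * M + 8 * f ^ 2 * y * M) * hDM
    linarith
  rw [hN, hM, hq, hf] at hP
  rcases hε with h | h <;> subst h
  · obtain ⟨a6, a3, a2, akey⟩ := p_facts e he
    refine no_root (c1 := pc1 e) (c4 := pc4 e) (c5 := pc5 e) hy a6 a3 a2 akey ?_
    unfold pc1 pc2 pc3 pc4 pc5 pc6
    linear_combination hP
  · obtain ⟨a6, a3, a2, akey⟩ := m_facts e he
    refine no_root (c1 := mc1 e) (c4 := mc4 e) (c5 := mc5 e) hy a6 a3 a2 akey ?_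
    unfold mc1 mc2 mc3 mc4 mc5 mc6
    linear_combination hP

end CfsgLib.Recog.JankoThompson.Five
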