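import Cfsg.Agent.Lib.Recog.JankoThompson.ArithFour

/-!
Owner: helper22. Groups of Janko–Thompson type: reduction of the equations of the spurious pattern four to the
Diophantine system of `Four.core`.
-/

set_option autoImplicit false
set_option linter.all false
set_option maxHeartbeats 1600000

namespace CfsgLib.Recog.JankoThompson.Four

/-- the `q`-pole: in `T1 * p^k1 + T2 * p^k2 = T3 * p^k3` the least exponent is not unique -/
theorem unique_min {p : ℤ} {T1 T2 T3 : ℤ} {k1 k2 k3 : ℕ} (h12 : k1 < k2) (h13 : k1 < k3) (h1 : ¬ p ∣ T1)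
    (hp : p ≠ 0) (h : T1 * p ^ k1 + T2 * p ^ k2 = T3 * p ^ k3) : False := by
  obtain ⟨i, rfl⟩ : ∃ i, k2 = k1 + 1 + i := ⟨k2 - k1 - 1, by omega⟩
  obtain ⟨l, rfl⟩ : ∃ l, k3 = k1 + 1 + l := ⟨k3 - k1 - 1, by omega⟩
  refine h1 ⟨T3 * p ^ l - T2 * p ^ i, mul_right_cancel₀ (pow_ne_zero k1 hp) ?_⟩
  rw [pow_add, pow_add, pow_add, pow_add, pow_one] at h
  linear_combination h

/-- a divisor of a number with `p`-part `p ^ m` has `p`-part at most `p ^ m` -/
theorem exists_part {p : ℕ} (hp : p.Prime) {v M : ℤ} {m : ℕ} (hv : v ≠ 0) (hM : ¬ (p : ℤ) ∣ M)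
    (h : v ∣ M * (p : ℤ) ^ m) : ∃ k v', k ≤ m ∧ ¬ (p : ℤ) ∣ v' ∧ v = v' * (p : ℤ) ^ k := by
  have hpz : Prime (p : ℤ) := Nat.prime_iff_prime_int.1 hp
  obtain ⟨k, v', hv', rfl⟩ := WfDvdMonoid.max_power_factor hv hpz.irreducible
  refine ⟨k, v', ?_, hv', mul_comm _ _⟩
  have hd : (p : ℤ) ^ k ∣ (p : ℤ) ^ m :=
    ((hpz.coprime_iff_not_dvd.2 hM).pow_left).dvd_of_dvd_mul_left ((dvd_mul_right _ _).trans h)
  by_contra hlt
  have := Nat.le_of_dvd (pow_pos hp.pos m) (show p ^ k ∣ p ^ m by exact_mod_cast hd)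
  exact absurd this (not_le.2 (Nat.pow_lt_pow_right hp.one_lt (not_le.1 hlt)))

/-- the pattern does not occur -/
theorem impossible {p n : ℕ} (hp : p.Prime) (hn : 0 < n) {q e f ε : ℤ} (hqp : q = (p : ℤ) ^ n)
    (hε : ε = 1 ∨ ε = -1) (he : 7 ≤ e) (hq : q = 4 * e + ε) (hf : f = 2 * e + ε) {u v w Q H D : ℤ}
    (hv : v ≠ 0) (hw : w ≠ 0) (huo : Odd u) (hQo : Odd Q) (hHo : Odd H) (hcong : e ∣ u - 1)
    (h1 : 1 + u + v + w = 0) (h2 : 1 + u - v - w + 2 * Q + 2 * H = 0) (hHD : 2 * H = -D)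
    (hvN : v ∣ 4 * ε * e * q ^ 3 * D) (hwN : w ∣ 4 * ε * e * q ^ 3 * D) (hQN : Q ∣ 4 * ε * e * q ^ 3 * D)
    (eA : 1 + 1 / (u : ℚ) + (q : ℚ) ^ 2 / v + (q : ℚ) ^ 2 / w = 32 * (ε * e * f ^ 3 : ℚ) / (q * D))
    (eP : 1 + 1 / (u : ℚ) - (q : ℚ) ^ 2 / v - (q : ℚ) ^ 2 / w + 2 * (f : ℚ) ^ 2 / Q + 2 * (f : ℚ) ^ 2 / H =
      (f : ℚ) ^ 2 * (64 * ε * e ^ 2 + 32 * q) / (q * D)) : False := by
  have hp2 : p ≠ 2 := by
    rintro rfl
    obtain ⟨n', rfl⟩ := Nat.exists_eq_succ_of_ne_zero hn.ne'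
    rw [pow_succ] at hqp
    rcases hε with h | h <;> subst h <;> omega
  have hpz : Prime (p : ℤ) := Nat.prime_iff_prime_int.1 hp
  have hpq : (p : ℤ) ∣ q := hqp ▸ dvd_pow_self _ hn.ne'
  have hq0 : q ≠ 0 := by rcases hε with h | h <;> omega
  have hεu : IsUnit ε := Int.isUnit_iff.2 hε
  have hu : u ≠ 0 := fun h => by simp [h] at huo
  have hQ : Q ≠ 0 := fun h => by simp [h] at hQo
  set X : ℤ := -H with hX
  have hXo : Odd X := hHo.neg
  have hX0 : X ≠ 0 := fun h => by simp [h] at hXo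
  have hD : D = 2 * X := by rw [hX]; linarith
  set U : ℤ := u + 1 with hU
  have hUe : Even U := huo.add_one
  have hXQ : X = U + Q := by rw [hX, hU]; linarith
  -- the sum of the equations
  have hI : U * Q * X + f ^ 2 * u * X = f ^ 2 * u * Q * (8 * ε * e + 9) := by
    have hXq : (X : ℚ) ≠ 0 := by exact_mod_cast hX0
    have hqq0 : (q : ℚ) ≠ 0 := by exact_mod_cast hq0
    have hu' : (u : ℚ) ≠ 0 := by exact_mod_cast hu
    have hQ' : (Q : ℚ) ≠ 0 := by exact_mod_cast hQ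
    have hDq : (D : ℚ) = 2 * X := by exact_mod_cast hD
    have hHq : (H : ℚ) = -X := by exact_mod_cast (show H = -X by rw [hX, neg_neg])
    have hqe : (q : ℚ) = 4 * e + ε := by exact_mod_cast hq
    have hfe : (f : ℚ) = 2 * e + ε := by exact_mod_cast hf
    have hεQ : (ε : ℚ) * ε = 1 := by rcases hε with h | h <;> subst h <;> norm_num
    have hRHS : (f : ℚ) ^ 2 * (64 * ε * e ^ 2 + 32 * q) / (q * D) + 32 * (ε * e * f ^ 3 : ℚ) / (q * D) =
        16 * (f : ℚ) ^ 2 * (ε * e + 1) / X := by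
      rw [hDq, show 16 * (f : ℚ) ^ 2 * (ε * e + 1) / X = 32 * (f : ℚ) ^ 2 * (ε * e + 1) * q / (q * (2 * X)) by field_simp; ring,
        ← add_div]
      congr 1
      rw [hqe, hfe]
      linear_combination 0 * hεQ
    have t1 : (1 / (u : ℚ)) * u = 1 := by field_simp
    have t2 : (2 * (f : ℚ) ^ 2 / Q) * Q = 2 * f ^ 2 := by field_simp
    have t3 : (2 * (f : ℚ) ^ 2 / H) * X = -2 * f ^ 2 := by rw [hHq]; field_simp
    have t4 : (16 * (f : ℚ) ^ 2 * (ε * e + 1) / X) * X = 16 * (f : ℚ) ^ 2 * (ε * e + 1) := by field_simp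
    have h : 2 * ((u : ℚ) + 1) * Q * X + 2 * f ^ 2 * u * X = 2 * f ^ 2 * u * Q * (8 * ε * e + 9) := by
      linear_combination (u * Q * X : ℚ) * eA + (u * Q * X : ℚ) * eP + (u * Q * X : ℚ) * hRHS - 2 * Q * X * t1 -
        u * X * t2 - u * Q * t3 + u * Q * t4
    have h' : 2 * (u + 1) * Q * X + 2 * f ^ 2 * u * X = 2 * f ^ 2 * u * Q * (8 * ε * e + 9) := by exact_mod_cast h
    rw [hU]; linarith
  have hU0 : U ≠ 0 := by
    intro h0
    have hXQ' : X = Q := by rw [hXQ, h0, zero_add]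
    rw [h0, hXQ'] at hI
    have : f ^ 2 * u * Q * (8 * ε * e + 8) = 0 := by linear_combination -hI
    rcases mul_eq_zero.1 this with h | h
    · exact mul_ne_zero (mul_ne_zero (pow_ne_zero 2 (by rcases hε with h | h <;> omega)) hu) hQ h
    · rcases hε with h' | h' <;> subst h' <;> omega
  -- the parametrisation
  obtain ⟨a, b, hcop, hQa, hUb⟩ : ∃ a b, IsCoprime a b ∧ Q = a * (Int.gcd Q U : ℤ) ∧ U = b * (Int.gcd Q U : ℤ) := by
    obtain ⟨a, b, h, e1, e2⟩ := Int.exists_gcd_one (Int.gcd_pos_of_ne_zero_left U hQ)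
    exact ⟨a, b, Int.isCoprime_iff_gcd_eq_one.2 h, e1, e2⟩
  set c : ℤ := (Int.gcd Q U : ℤ) with hc
  have hc0 : c ≠ 0 := fun h => by rw [h, mul_zero] at hUb; exact hU0 hUb
  have hodd := Int.odd_mul.1 (hQa ▸ hQo)
  have hbe : Even b := by
    rcases Int.even_mul.1 (hUb ▸ hUe) with h | h
    · exact h
    · exact absurd h (Int.not_even_iff_odd.2 hodd.2)
  have hb0 : b ≠ 0 := fun h => hU0 (by rw [hUb, h, zero_mul])
  have hII : c ^ 2 * a * b * (a + b) = f ^ 2 * u * ((8 * ε * e + 8) * a - b) := by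
    refine mul_left_cancel₀ hc0 ?_
    rw [hXQ, hQa, hUb] at hI
    linear_combination hI
  have hae : IsCoprime a e := by
    obtain ⟨i, hi⟩ := hcong
    have hue : IsCoprime u e := ⟨1, -i, by linear_combination hi⟩
    have had : a ∣ f ^ 2 * u * b := ⟨f ^ 2 * u * (8 * ε * e + 8) - c ^ 2 * b * (a + b), by linear_combination hII⟩
    have hfe : IsCoprime f e := ⟨ε, -(2 * ε), by rw [hf]; rcases hε with h | h <;> subst h <;> ring⟩
    exact ((hfe.pow_left).mul_left hue).of_isCoprime_of_dvd_left (hcop.dvd_of_dvd_mul_right had)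
  have haq3 : a ∣ q ^ 3 := by
    rw [hD, hXQ, hQa, hUb, show 4 * ε * e * q ^ 3 * (2 * (b * c + a * c)) = (8 * ε * e * (a + b) * q ^ 3) * c by ring,
      mul_dvd_mul_iff_right hc0] at hQN
    have h8 : IsCoprime a 8 := by
      have : IsCoprime a 2 := (Int.prime_two.coprime_iff_not_dvd.2 fun h =>
        Int.not_even_iff_odd.2 hodd.1 (even_iff_two_dvd.2 h)).symm
      rw [show (8 : ℤ) = 2 ^ 3 by norm_num]
      exact this.pow_right
    have hadd : IsCoprime a (a + b) := by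
      have := hcop.add_mul_left_right 1
      rwa [mul_one, add_comm] at this
    exact (((h8.mul_right (show IsCoprime a ε from ⟨0, ε, by rcases hε with h | h <;> subst h <;> ring⟩)).mul_right hae).mul_right hadd).dvd_of_dvd_mul_left hQN
  have haf : IsCoprime a f := by
    have hqf : IsCoprime q f := ⟨-ε, 2 * ε, by rw [hq, hf]; rcases hε with h | h <;> subst h <;> ring⟩
    exact (hqf.pow_left (m := 3)).of_isCoprime_of_dvd_left haq3
  have hau : a ∣ u := by
    have hd : a ∣ f ^ 2 * u * b := ⟨f ^ 2 * u * (8 * ε * e + 8) - c ^ 2 * b * (a + b), by linear_combination hII⟩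
    exact (haf.pow_right (n := 2)).dvd_of_dvd_mul_left (hcop.dvd_of_dvd_mul_right hd)
  obtain ⟨u', hu'⟩ := hau
  have ha0 : a ≠ 0 := fun h => hQ (by rw [hQa, h, zero_mul])
  have hIII : c ^ 2 * b * (a + b) = f ^ 2 * u' * ((8 * ε * e + 8) * a - b) := by
    refine mul_left_cancel₀ ha0 ?_
    rw [hu'] at hII
    linear_combination hII
  have hcb : c * b = u' * a + 1 := by rw [mul_comm c b, ← hUb, hU, hu']; ring
  have hu'cb : IsCoprime u' (c * b) := ⟨-a, 1, by rw [hcb]; ring⟩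
  have hu'd : u' ∣ a + b := by
    refine (hu'cb.of_mul_right_left.pow_right (n := 2)).mul_right hu'cb.of_mul_right_right |>.dvd_of_dvd_mul_left ?_
    exact ⟨f ^ 2 * ((8 * ε * e + 8) * a - b), by linear_combination hIII⟩
  obtain ⟨j, hj⟩ := hu'd
  have hu'0 : u' ≠ 0 := fun h => hu (by rw [hu', h, mul_zero])
  have hE : c ^ 2 * b * j = f ^ 2 * ((8 * ε * e + 8) * a - b) := by
    refine mul_left_cancel₀ hu'0 ?_
    rw [hj] at hIII
    linear_combination hIII
  have hjo : Odd j := by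
    have : Odd (a + b) := hodd.1.add_even hbe
    rw [hj] at this
    exact (Int.odd_mul.1 this).2
  -- `|a|` is a power of `p` not above `q`
  obtain ⟨i, hi3, hiA⟩ := (Nat.dvd_prime_pow hp).1
    (show a.natAbs ∣ p ^ (3 * n) by
      have := Int.natAbs_dvd_natAbs.2 haq3
      rwa [Int.natAbs_pow, hqp, Int.natAbs_pow, Int.natAbs_natCast, ← pow_mul, mul_comm n 3] at this)
  have habs : |a| = (p : ℤ) ^ i := by rw [Int.abs_eq_natAbs, hiA]; push_cast; rfl
  have hin : i ≤ n := by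
    by_contra hlt
    rw [not_le] at hlt
    have hpa : (p : ℤ) ∣ a := (dvd_abs _ _).1 (habs ▸ dvd_pow_self _ (by omega : i ≠ 0))
    have hpb : ¬ (p : ℤ) ∣ b := fun h => hpz.not_unit (hcop.isUnit_of_dvd' hpa h)
    have hpU : ¬ (p : ℤ) ∣ U := fun h => by
      have := dvd_sub h (hpa.trans (dvd_mul_right a u'))
      rw [hU, hu', show a * u' + 1 - a * u' = 1 by ring] at this
      exact hpz.not_unit (isUnit_of_dvd_one this)
    have hpc : ¬ (p : ℤ) ∣ c := fun h => hpU (hUb ▸ h.mul_left b)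
    have hpu' : ¬ (p : ℤ) ∣ u' := fun h => hpb (by
      have := dvd_sub (hj ▸ h.mul_right j : (p : ℤ) ∣ a + b) hpa
      simpa using this)
    have hpX : ¬ (p : ℤ) ∣ X := by
      rw [hXQ, hQa, hUb, show b * c + a * c = c * (a + b) by ring]
      rintro h
      rcases hpz.dvd_mul.1 h with h | h
      · exact hpc h
      · exact hpb (by simpa using dvd_sub h hpa)
    have hpe : ¬ (p : ℤ) ∣ 4 * ε * e * D := by
      rw [hD, show 4 * ε * e * (2 * X) = 8 * e * ε * X by ring]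
      intro h
      rcases hpz.dvd_mul.1 h with h | h
      · rcases hpz.dvd_mul.1 h with h | h
        · rcases hpz.dvd_mul.1 h with h | h
          · exact hp2 ((Nat.prime_dvd_prime_iff_eq hp Nat.prime_two).1 (by
              exact_mod_cast hpz.dvd_of_dvd_pow (show (p : ℤ) ∣ 2 ^ 3 by norm_num; exact h)))
          · have := dvd_sub hpq (h.mul_left 4)
            rw [hq, show 4 * e + ε - 4 * e = ε by ring] at this
            exact hpz.not_unit (isUnit_of_dvd_unit this hεu)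
        · exact hpz.not_unit (isUnit_of_dvd_unit h hεu)
      · exact hpX h
    have hN : 4 * ε * e * q ^ 3 * D = (4 * ε * e * D) * (p : ℤ) ^ (3 * n) := by
      rw [hqp, ← pow_mul, mul_comm n 3]; ring
    obtain ⟨kv, v', hkv, hv', hve⟩ := exists_part hp hv hpe (hN ▸ hvN)
    obtain ⟨kw, w', hkw, hw', hwe⟩ := exists_part hp hw hpe (hN ▸ hwN)
    have hone : kv = 0 ∨ kw = 0 := by
      by_contra h
      rw [not_or] at h
      refine hpU ?_
      have : U = -(v + w) := by rw [hU]; linarith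
      rw [this, dvd_neg, hve, hwe]
      exact dvd_add ((dvd_pow_self _ h.1).mul_left v') ((dvd_pow_self _ h.2).mul_left w')
    -- the first equation, cleared
    have h5 : U * X * q * v * w - q ^ 3 * u * U * X = 16 * ε * e * f ^ 3 * u * v * w := by
      have hDq : (D : ℚ) = 2 * X := by exact_mod_cast hD
      have hXq : (X : ℚ) ≠ 0 := by exact_mod_cast hX0
      have hqq : (q : ℚ) ≠ 0 := by exact_mod_cast hq0
      have hu'' : (u : ℚ) ≠ 0 := by exact_mod_cast hu
      have hv'' : (v : ℚ) ≠ 0 := by exact_mod_cast hv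
      have hw'' : (w : ℚ) ≠ 0 := by exact_mod_cast hw
      have hsum : (v : ℚ) + w = -((u : ℚ) + 1) := by exact_mod_cast (show v + w = -(u + 1) by linarith)
      have t1 : (1 / (u : ℚ)) * u = 1 := by field_simp
      have t2 : ((q : ℚ) ^ 2 / v) * v = q ^ 2 := by field_simp
      have t3 : ((q : ℚ) ^ 2 / w) * w = q ^ 2 := by field_simp
      have t4 : (32 * (ε * e * f ^ 3 : ℚ) / (q * D)) * (q * X) = 16 * (ε * e * f ^ 3 : ℚ) := by
        rw [hDq]; field_simp; ring
      have h : ((u : ℚ) + 1) * X * q * v * w - q ^ 3 * u * (u + 1) * X = 16 * ε * e * f ^ 3 * u * v * w := by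
        linear_combination (q * X * u * v * w : ℚ) * eA - q * X * v * w * t1 - q * X * u * w * t2 -
          q * X * u * v * t3 - q ^ 3 * u * X * hsum + u * v * w * t4
      have h' : (u + 1) * X * q * v * w - q ^ 3 * u * (u + 1) * X = 16 * ε * e * f ^ 3 * u * v * w := by
        exact_mod_cast h
      rw [hU]; linarith
    obtain ⟨s, hs, has⟩ : ∃ s : ℤ, (s = 1 ∨ s = -1) ∧ a = s * (p : ℤ) ^ i := by
      rcases abs_choice a with h | h
      · exact ⟨1, Or.inl rfl, by rw [← habs, h]; ring⟩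
      · exact ⟨-1, Or.inr rfl, by rw [← habs, h]; ring⟩
    refine unique_min (k1 := n + (kv + kw)) (k2 := 3 * n + i) (k3 := i + (kv + kw)) (T1 := U * X * v' * w')
      (T2 := -(s * u' * U * X)) (T3 := 16 * ε * e * f ^ 3 * s * u' * v' * w') (by omega) (by omega) ?_
      hpz.ne_zero ?_
    · intro h
      rcases hpz.dvd_mul.1 h with h | h
      · rcases hpz.dvd_mul.1 h with h | h
        · rcases hpz.dvd_mul.1 h with h | h
          exacts [hpU h, hpX h]
        · exact hv' h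
      · exact hw' h
    · rw [hve, hwe, hu', has, hqp] at h5
      linear_combination h5
  have haq : |a| = q ∨ 3 * |a| ≤ q := by
    rcases hin.eq_or_lt with h | h
    · left; rw [habs, h, hqp]
    · right
      obtain ⟨d, hd⟩ := Nat.exists_eq_add_of_lt h
      rw [habs, hqp, hd, pow_succ, pow_add]
      have hp3 : (3 : ℤ) ≤ p := by exact_mod_cast (by have := hp.two_le; omega : 3 ≤ p)
      have h1 : (1 : ℤ) ≤ (p : ℤ) ^ d := one_le_pow₀ (by linarith)
      calc 3 * (p : ℤ) ^ i ≤ p * ((p : ℤ) ^ i * (p : ℤ) ^ d) := by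
            refine mul_le_mul hp3 ?_ (by positivity) (by positivity)
            nlinarith [pow_pos (show (0 : ℤ) < p by linarith) i]
        _ = _ := by ring
  exact core hε he hq hf haq hodd.1 hbe hb0 hodd.2 hjo hcb (by rw [hj]) hcop hE

end CfsgLib.Recog.JankoThompson.Four
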