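import Mathlib

/-!
Owner: helper22. Groups of Janko–Thompson type: the equations of the pattern of the Ree groups determine the
degrees, and force `q = 3 ^ (2 m + 1)`.
-/

set_option autoImplicit false
set_option linter.all false

namespace CfsgLib.Recog.JankoThompson

/-- the Ree pattern: all degrees -/
theorem ree_values {q e f ε : ℤ} (hε : ε = 1 ∨ ε = -1) (he : 7 ≤ e) (hq : q = 4 * e + ε) (hf : f = 2 * e + ε)
    {u v w A B A' B' D : ℤ} (hu : u ≠ 0) (hv : v ≠ 0) (hw : w ≠ 0) (hA : A ≠ 0) (hB : B ≠ 0) (hA' : A' ≠ 0)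
    (hB' : B' ≠ 0) (hD : D ≠ 0) (h1 : 1 + u + v + w = 0) (h2 : w - u = D)
    (h3 : 1 + u - v - w + A + B + A' + B' = 0) (h4 : A' + B' - A - B = 0)
    (eG : (q : ℚ) ^ 2 / w - 1 / u = 4 * (f : ℚ) ^ 2 / D)
    (eA : 1 + 1 / (u : ℚ) + (q : ℚ) ^ 2 / v + (q : ℚ) ^ 2 / w = 32 * (ε * e * f ^ 3 : ℚ) / (q * D))
    (eP : 1 + 1 / (u : ℚ) - (q : ℚ) ^ 2 / v - (q : ℚ) ^ 2 / w + (f : ℚ) ^ 2 * (1 / A + 1 / B + 1 / A' + 1 / B') =
      (f : ℚ) ^ 2 * (64 * ε * e ^ 2 + 32 * q) / (q * D))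
    (eD : (f : ℚ) ^ 2 * (1 / A' + 1 / B' - 1 / A - 1 / B) = 0) :
    D = (ε * q + 1) * (q ^ 2 + ε * q + 1) ∧ u = -(q ^ 2 + ε * q + 1) ∧ w = ε * q * (q ^ 2 + ε * q + 1) ∧
      v = -(ε * q ^ 3) ∧ A + B = q * (q + ε) ∧ A' + B' = A + B ∧
      12 * (A * B) = ε * q * (q + ε) ^ 2 * (q ^ 2 + ε * q + 1) ∧ A' * B' = A * B := by
  have hε2 : ε * ε = 1 := by rcases hε with h | h <;> simp [h]
  have hq0 : q ≠ 0 := by rcases hε with h | h <;> omega
  have hf0 : f ≠ 0 := by rcases hε with h | h <;> omega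
  have hεQ : (ε : ℚ) * ε = 1 := by exact_mod_cast hε2
  have hu' : (u : ℚ) ≠ 0 := by exact_mod_cast hu
  have hv' : (v : ℚ) ≠ 0 := by exact_mod_cast hv
  have hw' : (w : ℚ) ≠ 0 := by exact_mod_cast hw
  have hA1 : (A : ℚ) ≠ 0 := by exact_mod_cast hA
  have hB1 : (B : ℚ) ≠ 0 := by exact_mod_cast hB
  have hA2 : (A' : ℚ) ≠ 0 := by exact_mod_cast hA'
  have hB2 : (B' : ℚ) ≠ 0 := by exact_mod_cast hB'
  have hD' : (D : ℚ) ≠ 0 := by exact_mod_cast hD
  have hq' : (q : ℚ) ≠ 0 := by exact_mod_cast hq0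
  have hf' : (f : ℚ) ≠ 0 := by exact_mod_cast hf0
  have hfq : 2 * f = q + ε := by omega
  have heq : 4 * e = q - ε := by omega
  -- the degree `D`
  have g1 : q ^ 2 * u * D - w * D = 4 * f ^ 2 * u * w := by
    have h : (q : ℚ) ^ 2 * u * D - w * D = 4 * (f : ℚ) ^ 2 * u * w := by
      field_simp at eG
      linear_combination eG
    exact_mod_cast h
  have hDu : D = -((ε * q + 1) * u) := by
    have h : (D + (ε * q + 1) * u) ^ 2 = 0 := by
      linear_combination -g1 + (-(4 * f ^ 2 * u) - D) * h2 - u * (u + D) * (2 * f + q + ε) * hfq +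
        (-(u * D)) * hε2 + q ^ 2 * u ^ 2 * hε2 - u ^ 2 * hε2
    have := pow_eq_zero_iff (two_ne_zero) |>.1 h
    linarith
  have hw1 : w = -(ε * q * u) := by linear_combination h2 + hDu
  have hv1 : v = (ε * q - 1) * u - 1 := by linear_combination h1 - hw1
  -- the degree `u`
  have hu1 : u = -(q ^ 2 + ε * q + 1) := by
    have hDv : (D : ℚ) = -((ε * q + 1) * u) := by exact_mod_cast hDu
    have hwv : (w : ℚ) = -(ε * q * u) := by exact_mod_cast hw1
    have hfq' : (2 : ℚ) * f = q + ε := by exact_mod_cast hfq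
    have heq' : (4 : ℚ) * e = q - ε := by exact_mod_cast heq
    have k : (q * u + q : ℚ) * v * (ε * q + 1) + q ^ 3 * u * (ε * q + 1) - ε * q ^ 2 * v * (ε * q + 1) =
        -(32 * ε * e * f ^ 3 * v) := by
      have hne : (ε : ℚ) * q + 1 ≠ 0 := by
        intro h0
        exact hD (by exact_mod_cast (show (D : ℚ) = 0 by rw [hDv, h0]; ring))
      have hε0 : (ε : ℚ) ≠ 0 := by rcases hε with h | h <;> simp [h]
      have t1 : (1 / (u : ℚ)) * u = 1 := by field_simp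
      have t2 : ((q : ℚ) ^ 2 / v) * v = q ^ 2 := by field_simp
      have t3 : ((q : ℚ) ^ 2 / w) * (ε * q * u) = -q ^ 2 := by rw [hwv]; field_simp
      have t4 : (32 * (ε * e * f ^ 3) / (q * D) : ℚ) * (q * ((ε * q + 1) * u)) = -(32 * (ε * e * f ^ 3)) := by
        rw [hDv]; field_simp
      linear_combination (q * v * (ε * q + 1) * u) * eA + v * t4 - q * v * (ε * q + 1) * t1 -
        q * (ε * q + 1) * u * t2 - (v * (ε * q + 1) * ε) * t3 +
        (q * v * (ε * q + 1) * u * ((q : ℚ) ^ 2 / w)) * hεQ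
    have k2 : (q * u + q) * v * (ε * q + 1) + q ^ 3 * u * (ε * q + 1) - ε * q ^ 2 * v * (ε * q + 1) =
        -(32 * ε * e * f ^ 3 * v) := by exact_mod_cast k
    have k3 : (ε * q + 1) * ((ε * q * u - 1) * ((q - ε) * u + (q ^ 3 - ε))) = 0 := by
      have e1 : 32 * ε * e * f ^ 3 = ε * (q - ε) * (q + ε) ^ 3 := by rw [← heq, ← hfq]; ring
      rw [e1, hv1] at k2
      rcases hε with h | h <;> subst h <;> linear_combination k2
    have hne : ε * q + 1 ≠ 0 := by rcases hε with h | h <;> subst h <;> omega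
    have hne2 : ε * q * u - 1 ≠ 0 := by
      intro h0
      have := Int.eq_one_of_dvd_one (show (0 : ℤ) ≤ q by rcases hε with h | h <;> omega) ⟨ε * u, by linear_combination -h0⟩
      rcases hε with h | h <;> omega
    have k4 := ((mul_eq_zero.1 ((mul_eq_zero.1 k3).resolve_left hne)).resolve_left hne2)
    have k5 : (q - ε) * (u + (q ^ 2 + ε * q + 1)) = 0 := by
      rcases hε with h | h <;> subst h <;> linear_combination k4
    have := (mul_eq_zero.1 k5).resolve_left (by rcases hε with h | h <;> omega)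
    linarith
  refine ⟨by rw [hDu, hu1]; ring, hu1, by rw [hw1, hu1]; ring,
    by rw [hv1, hu1]; rcases hε with h | h <;> subst h <;> ring, ?_⟩
  -- the two pairs
  have hS : A + B = -(1 + u) := by linarith
  have hS' : A' + B' = -(1 + u) := by linarith
  set Φ := q ^ 2 + ε * q + 1 with hΦ
  have hSΦ : A + B = q * (q + ε) := by rw [hS, hu1, hΦ]; ring
  have hP : 12 * (A * B) = ε * q * (q + ε) ^ 2 * Φ := by
    have hDq : D = (ε * q + 1) * Φ := by rw [hDu, hu1, hΦ]; ring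
    have hwq : w = ε * q * Φ := by rw [hw1, hu1, hΦ]; ring
    have hvq : v = -(ε * q ^ 3) := by rw [hv1, hu1]; rcases hε with h | h <;> subst h <;> ring
    have huq : u = -Φ := by rw [hu1, hΦ]
    have hfr : (f : ℚ) = ((q : ℚ) + ε) / 2 := by
      rw [eq_div_iff two_ne_zero]; exact_mod_cast (by linarith : f * 2 = q + ε)
    have her : (e : ℚ) = ((q : ℚ) - ε) / 4 := by
      rw [eq_div_iff (by norm_num : (4 : ℚ) ≠ 0)]; exact_mod_cast (by linarith : e * 4 = q - ε)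
    have e1 : (1 : ℚ) / A' + 1 / B' = 1 / A + 1 / B := by
      linear_combination (mul_eq_zero.1 eD).resolve_left (pow_ne_zero 2 hf')
    have hX : ((A : ℚ) * B) * (1 / A + 1 / B) = q * (q + ε) := by
      rw [show ((A : ℚ) * B) * (1 / A + 1 / B) = A + B by field_simp; ring]
      exact_mod_cast hSΦ
    set X : ℚ := 1 / A + 1 / B with hXdef
    have h : 1 + 1 / (u : ℚ) - (q : ℚ) ^ 2 / v - (q : ℚ) ^ 2 / w + (f : ℚ) ^ 2 * (2 * X) =
        (f : ℚ) ^ 2 * (64 * ε * e ^ 2 + 32 * q) / (q * D) := by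
      rw [← eP, show (1 : ℚ) / A + 1 / B + 1 / A' + 1 / B' = (1 / A + 1 / B) + (1 / A' + 1 / B') by ring, e1, hXdef]
      ring
    clear eP
    clear_value X
    have hΦQ : (Φ : ℚ) = q ^ 2 + ε * q + 1 := by rw [hΦ]; push_cast; ring
    have hne : (ε : ℚ) * q + 1 ≠ 0 := by
      have : ε * q + 1 ≠ 0 := by rcases hε with h' | h' <;> subst h' <;> omega
      exact_mod_cast this
    have hΦ0 : (Φ : ℚ) ≠ 0 := by
      have : Φ ≠ 0 := by rw [← neg_ne_zero, ← huq]; exact hu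
      exact_mod_cast this
    rw [show (u : ℚ) = -(Φ : ℚ) by exact_mod_cast huq, show (v : ℚ) = -((ε : ℚ) * q ^ 3) by exact_mod_cast hvq,
      show (w : ℚ) = (ε : ℚ) * q * Φ by exact_mod_cast hwq,
      show (D : ℚ) = ((ε : ℚ) * q + 1) * Φ by exact_mod_cast hDq, hfr, her] at h
    have hXv : X * ((q + ε) * Φ) = 12 * (ε : ℚ) := by
      have hz : (q : ℚ) + ε ≠ 0 := by
        have : q + ε ≠ 0 := by rcases hε with h' | h' <;> subst h' <;> omega
        exact_mod_cast this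
      rcases hε with h' | h' <;> subst h' <;> push_cast at h hz hne hΦQ ⊢
      · have h0 : ((q : ℚ) + 1) / 2 * q * (X * ((q + 1) * Φ) - 12) = 0 := by
          have h2 := congrArg (fun z : ℚ => z * (q * Φ * (q + 1))) h
          field_simp at h2
          rw [hΦQ] at h2 ⊢
          linear_combination h2 / 64
        linear_combination (mul_eq_zero.1 h0).resolve_left (mul_ne_zero (div_ne_zero hz two_ne_zero) hq')
      · have h0 : ((q : ℚ) - 1) / 2 * q * (X * ((q - 1) * Φ) + 12) = 0 := by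
          have hn2 : -(q : ℚ) + 1 ≠ 0 := by intro h3; apply hne; linarith
          field_simp at h
          rw [hΦQ] at h ⊢
          have h1 : (-(q : ℚ) + 1) * (((q : ℚ) - 1) / 2 * q * (X * ((q - 1) * ((q : ℚ) ^ 2 + -1 * q + 1)) + 12)) = 0 := by
            linear_combination h / 64
          exact (mul_eq_zero.1 h1).resolve_left hn2
        have hz' : (q : ℚ) - 1 ≠ 0 := by intro h3; apply hz; linarith
        linear_combination (mul_eq_zero.1 h0).resolve_left (mul_ne_zero (div_ne_zero hz' two_ne_zero) hq')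
    have goal : (12 * (A * B) : ℚ) = ε * q * (q + ε) ^ 2 * Φ := by
      linear_combination (ε : ℚ) * (q + ε) * Φ * hX - (ε : ℚ) * ((A : ℚ) * B) * hXv - 12 * ((A : ℚ) * B) * hεQ
    exact_mod_cast goal
  refine ⟨hSΦ, by linarith, hP, ?_⟩
  have e1 := (mul_eq_zero.1 eD).resolve_left (pow_ne_zero 2 hf')
  have hne : (A : ℚ) + B ≠ 0 := by
    have : A + B ≠ 0 := by
      rw [hSΦ]; exact mul_ne_zero hq0 (by rcases hε with h | h <;> subst h <;> omega)
    exact_mod_cast this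
  have hsum : (A' : ℚ) + B' = A + B := by exact_mod_cast (by linarith : A' + B' = A + B)
  have h : ((A : ℚ) + B) * ((A' : ℚ) * B' - A * B) = 0 := by
    field_simp at e1
    linear_combination (A : ℚ) * B * hsum - e1
  exact_mod_cast sub_eq_zero.1 ((mul_eq_zero.1 h).resolve_left hne)

/-- the Ree pattern: the order and the sign -/
theorem ree_solution {q e f ε : ℤ} (hε : ε = 1 ∨ ε = -1) (he : 7 ≤ e) (hq : q = 4 * e + ε) (hf : f = 2 * e + ε)
    {u v w A B A' B' D : ℤ} (hu : u ≠ 0) (hv : v ≠ 0) (hw : w ≠ 0) (hA : A ≠ 0) (hB : B ≠ 0) (hA' : A' ≠ 0)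
    (hB' : B' ≠ 0) (hD : D ≠ 0) (h1 : 1 + u + v + w = 0) (h2 : w - u = D)
    (h3 : 1 + u - v - w + A + B + A' + B' = 0) (h4 : A' + B' - A - B = 0)
    (eG : (q : ℚ) ^ 2 / w - 1 / u = 4 * (f : ℚ) ^ 2 / D)
    (eA : 1 + 1 / (u : ℚ) + (q : ℚ) ^ 2 / v + (q : ℚ) ^ 2 / w = 32 * (ε * e * f ^ 3 : ℚ) / (q * D))
    (eP : 1 + 1 / (u : ℚ) - (q : ℚ) ^ 2 / v - (q : ℚ) ^ 2 / w + (f : ℚ) ^ 2 * (1 / A + 1 / B + 1 / A' + 1 / B') =
      (f : ℚ) ^ 2 * (64 * ε * e ^ 2 + 32 * q) / (q * D))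
    (eD : (f : ℚ) ^ 2 * (1 / A' + 1 / B' - 1 / A - 1 / B) = 0) :
    D = (ε * q + 1) * (q ^ 2 + ε * q + 1) ∧ 3 * (A - B) ^ 2 = -(ε * q * (q ^ 2 - 1) ^ 2) := by
  obtain ⟨h0, -, -, -, hS, -, hP, -⟩ :=
    ree_values hε he hq hf hu hv hw hA hB hA' hB' hD h1 h2 h3 h4 eG eA eP eD
  refine ⟨h0, ?_⟩
  rw [show 3 * (A - B) ^ 2 = 3 * (A + B) ^ 2 - 12 * (A * B) by ring, hS, hP]
  rcases hε with h | h <;> subst h <;> ring

/-- the square forces `q = 3 ^ (2 m + 1)` and `ε = -1` -/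
theorem three_power {p n : ℕ} (hp : p.Prime) (hn : Odd n) {ε X : ℤ} (hε : ε = 1 ∨ ε = -1) (hbig : 11 ≤ p ^ n)
    (h : 3 * X ^ 2 = -(ε * (p : ℤ) ^ n * (((p : ℤ) ^ n) ^ 2 - 1) ^ 2)) :
    ε = -1 ∧ ∃ m : ℕ, 1 ≤ m ∧ p ^ n = 3 ^ (2 * m + 1) := by
  set Q : ℤ := (p : ℤ) ^ n with hQ
  have hQ11 : 11 ≤ Q := by rw [hQ]; exact_mod_cast hbig
  have hY : 0 < (Q ^ 2 - 1) ^ 2 := pow_pos (by nlinarith) 2
  have hε' : ε = -1 := hε.resolve_left fun h1 => by
    subst h1
    nlinarith [sq_nonneg X, mul_pos (show 0 < Q by omega) hY]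
  refine ⟨hε', ?_⟩
  have hp3 : p = 3 := by
    by_contra hne
    haveI := Fact.mk hp
    subst hε'
    have hX : X ≠ 0 := fun hx => by
      subst hx
      nlinarith [mul_pos (show 0 < Q by omega) hY]
    have hpY : ¬ (p : ℤ) ∣ Q ^ 2 - 1 := by
      intro hd
      have h1 : (p : ℤ) ∣ Q ^ 2 := dvd_pow (dvd_pow_self _ (by rintro rfl; simp at hn)) two_ne_zero
      have : (p : ℤ) ∣ 1 := by simpa using dvd_sub h1 hd
      exact hp.ne_one (Nat.dvd_one.1 (by exact_mod_cast this))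
    have hv := congrArg (padicValInt p) (show 3 * X ^ 2 = Q * (Q ^ 2 - 1) ^ 2 by linear_combination h)
    rw [padicValInt.mul three_ne_zero (pow_ne_zero 2 hX), padicValInt.mul (by omega) hY.ne', pow_two,
      padicValInt.mul hX hX, pow_two (Q ^ 2 - 1), padicValInt.mul (by nlinarith) (by nlinarith),
      padicValInt.eq_zero_of_not_dvd hpY] at hv
    have h3 : padicValInt p 3 = 0 := padicValInt.eq_zero_of_not_dvd fun hd => hne
      ((Nat.prime_dvd_prime_iff_eq hp Nat.prime_three).1 (by exact_mod_cast hd))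
    have hQv : padicValInt p Q = n := by
      rw [hQ, ← Nat.cast_pow, padicValInt.of_nat, padicValNat.prime_pow]
    rw [h3, hQv] at hv
    obtain ⟨k, hk⟩ := hn
    omega
  obtain ⟨m, hm⟩ := hn
  refine ⟨m, ?_, by rw [hp3, hm]⟩
  rcases Nat.eq_zero_or_pos m with rfl | h1
  · rw [hp3, hm] at hbig; norm_num at hbig
  · exact h1

end CfsgLib.Recog.JankoThompson
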