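import Cfsg.Agent.Lib.Recog.JankoThompson.Split

/-!
Owner: helper22. Groups of Janko–Thompson type: `G₀` has two constituents, free of the exceptional columns.
-/

set_option autoImplicit false
set_option linter.all false
set_option maxHeartbeats 800000

namespace CfsgLib.Recog.JankoThompson.Cols

variable {ι L J : Type*} [Fintype ι] [Fintype L] [Fintype J] [DecidableEq ι] {K : Cols ι L J}

theorem orbit_rot_back {l m : L} (h : K.InOrbit l (K.rot m)) : K.InOrbit l m := by
  have hm : m = K.rot (K.rot (K.rot m)) := (K.rot_three m).symm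
  unfold InOrbit at h ⊢
  rcases h with h | h | h | h | h | h <;> rw [h] at hm
  · exact Or.inr (Or.inr (Or.inr (Or.inr (Or.inl hm))))
  · rw [K.rot_inv, K.rot_inv] at hm
    exact Or.inr (Or.inr (Or.inr (Or.inr (Or.inr hm))))
  · rw [K.rot_three] at hm
    exact Or.inl hm
  · rw [K.rot_inv, K.rot_inv, K.rot_three] at hm
    exact Or.inr (Or.inl hm)
  · rw [K.rot_three] at hm
    exact Or.inr (Or.inr (Or.inl hm))
  · rw [K.rot_inv, K.rot_inv, K.rot_three] at hm
    exact Or.inr (Or.inr (Or.inr (Or.inl hm)))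

namespace Quad

variable {l : L} (Q : K.Quad l)

theorem B_ne_mem (χ : ι) (h : Q.Mem χ) : K.B l χ ≠ 0 := by
  obtain ⟨a1, a2, a3, a4⟩ := Q.Ba
  rcases h with rfl | rfl | rfl | rfl <;> simp only [a1, a2, a3, a4] <;> rcases Q.hs with e | e <;> omega

/-- if `G` has at most one nonzero value off `{a, b, c}` then no other quadruple meets it -/
theorem G_other {x : ι} (hx : Q.G x ≠ 0) (hmem : ¬ Q.Mem x) {m : L} (hm : K.B m x ≠ 0) :
    ∃ Q' : K.Quad m, Q'.Mem x ∧ (∀ t, Q'.Mem t → Q.G t ≠ 0) ∧ ∀ t, Q'.Mem t → ¬ Q.Mem t := by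
  obtain ⟨Q'⟩ := K.exists_quad m
  have hxm := K.orbit_rot hm Q'
  have h0 : ¬ K.InOrbit l m := fun h => hm (Q.B_off hmem m h)
  have h1 : ¬ K.InOrbit l (K.rot m) := fun h => h0 (orbit_rot_back h)
  have h2 : ¬ K.InOrbit l (K.rot (K.rot m)) := fun h => h1 (orbit_rot_back h)
  obtain ⟨e1, e2, e3⟩ := Q'.const (Q.G_other_B h0) (Q.G_other_B h1) (Q.G_other_B h2)
  refine ⟨Q', hxm, fun t ht => ?_, fun t ht hQ => Q'.B_ne_mem t ht (Q.B_other hQ h0)⟩
  have hxa : Q.G x = Q.G Q'.a := by rcases hxm with rfl | rfl | rfl | rfl <;> first | rfl | assumption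
  have hta : Q.G t = Q.G Q'.a := by rcases ht with rfl | rfl | rfl | rfl <;> first | rfl | assumption
  rw [hta, ← hxa]; exact hx

theorem G_o : Q.G K.o = 0 := by
  have ha : K.o ≠ Q.a := fun h => by
    have := K.o_B l
    rw [h, Q.Ba.1] at this
    rcases Q.hs with e | e <;> omega
  rw [G, if_neg ha, K.o_V, add_zero]

theorem no_five {x y : ℤ} (hy : y ≠ 0) (h : x ^ 2 = 5 * y ^ 2) : False := by
  haveI : Fact (Nat.Prime 5) := ⟨by norm_num⟩
  have hx : x ≠ 0 := fun h0 => by rw [h0] at h; exact hy (pow_eq_zero_iff (two_ne_zero) |>.1 (by linarith))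
  have hv := congrArg (padicValInt 5) h
  rw [pow_two, pow_two, padicValInt.mul hx hx, padicValInt.mul (by norm_num) (mul_ne_zero hy hy), padicValInt.mul hy hy,
    show padicValInt 5 5 = 1 from padicValInt.self (by norm_num)] at hv
  omega

/-- the structure of `G₀` -/
theorem G_struct : (∑ χ, Q.G χ * Q.G χ = 2) ∧ ∀ x, Q.G x ≠ 0 → K.Free x := by
  classical
  obtain ⟨gb, gc, gn⟩ := Q.G_abc
  set k := Q.G Q.a with hk
  have spl : ∀ h : ι → ℤ, ∑ χ, h χ = h Q.a + h Q.b + h Q.c + h Q.z + ∑ χ ∈ ({Q.a, Q.b, Q.c, Q.z} : Finset ι)ᶜ, h χ :=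
    fun h => sum_sdiff_four h Q.hab Q.hac Q.haz Q.hbc Q.hbz Q.hcz
  set R := ∑ χ ∈ ({Q.a, Q.b, Q.c, Q.z} : Finset ι)ᶜ, Q.G χ * Q.G χ with hR
  have hR0 : 0 ≤ R := Finset.sum_nonneg fun _ _ => mul_self_nonneg _
  have hnorm : 3 * (k * k) + Q.G Q.z * Q.G Q.z + R = 2 + 2 * Q.s * k := by
    rw [← gn, spl (fun χ => Q.G χ * Q.G χ), gb, gc, ← hk, hR]; ring
  have hdeg := Q.G_deg
  rw [spl (fun χ => Q.G χ * K.deg χ), gb, gc, Q.deg_b, Q.deg_c, Q.deg_z, ← hk, D] at hdeg
  obtain ⟨ta, tb, tc, tz⟩ := Q.tau_values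
  have hεQ : (K.ε : ℚ) * K.ε = 1 := by exact_mod_cast K.eps_sq
  have hsQ : (Q.s : ℚ) * Q.s = 1 := by rcases Q.hs with e | e <;> rw [e] <;> norm_num
  have hdq : (K.deg Q.a : ℚ) ≠ 0 := by exact_mod_cast K.deg_ne Q.a
  have hd := K.deg_pos Q.a
  have heq := Q.G_eqV
  rw [sum_sdiff_four _ Q.hab Q.hac Q.haz Q.hbc Q.hbz Q.hcz, gb, gc, ta, tb, tc, tz, Q.deg_b, Q.deg_c, Q.deg_z, ← hk,
    D] at heq
  have hk01 : k = 0 ∨ k = Q.s := by
    have hz0 := mul_self_nonneg (Q.G Q.z)
    rcases Q.hs with e | e <;> rw [e] at hnorm ⊢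
    · have : k < 2 := by nlinarith
      have : -1 < k := by nlinarith
      omega
    · have : -2 < k := by nlinarith
      have : k < 1 := by nlinarith
      omega
  rcases hk01 with hk0 | hk1
  · -- two constituents
    rw [hk0] at hnorm; simp only [mul_zero, zero_add, add_zero] at hnorm
    have hG2 : ∑ χ, Q.G χ * Q.G χ = 2 := by rw [gn, hk0, mul_zero, add_zero]
    refine ⟨hG2, ?_⟩
    obtain ⟨u, v, huv, hu, hv, hoff⟩ := exists_two hG2
    have notabc : ∀ x, Q.G x ≠ 0 → x ≠ Q.a ∧ x ≠ Q.b ∧ x ≠ Q.c := fun x hx =>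
      ⟨fun h => hx (by rw [h, ← hk, hk0]), fun h => hx (by rw [h, gb, hk0]), fun h => hx (by rw [h, gc, hk0])⟩
    have hz : Q.G Q.z = 0 := by
      by_contra hzne
      have hR1 : R = 1 := by
        have : Q.G Q.z * Q.G Q.z = 1 := by
          have h1 : 0 < Q.G Q.z * Q.G Q.z := mul_self_pos.2 hzne
          have h2 : Q.G Q.z < 2 := by nlinarith
          have h3 : -2 < Q.G Q.z := by nlinarith
          rcases (show Q.G Q.z = 1 ∨ Q.G Q.z = -1 by omega) with e | e <;> rw [e] <;> norm_num
        omega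
      obtain ⟨w, hw, hw1, hwoff⟩ := exists_one hR1
      rw [Finset.sum_eq_single w (fun t ht htw => by rw [hwoff t ht htw, zero_mul]) (fun h => absurd hw h), hk0] at hdeg
      rw [Finset.sum_eq_single w (fun t ht htw => by rw [hwoff t ht htw]; simp) (fun h => absurd hw h), hk0] at heq
      have hzs : Q.G Q.z = -Q.s ∧ Q.G w = Q.s ∧ K.deg w = 2 * K.deg Q.a := by
        have := K.deg_pos w
        have hz1 : Q.G Q.z = 1 ∨ Q.G Q.z = -1 := by
          have h1 : 0 < Q.G Q.z * Q.G Q.z := mul_self_pos.2 hzne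
          have h2 : Q.G Q.z < 2 := by nlinarith
          have h3 : -2 < Q.G Q.z := by nlinarith
          omega
        rcases Q.hs with e | e <;> rcases hz1 with e' | e' <;> rcases hw1 with e'' | e'' <;>
          rw [e, e', e''] at hdeg <;> rw [e, e', e''] <;> refine ⟨?_, ?_, ?_⟩ <;> linarith
      rw [hzs.1, hzs.2.1, hzs.2.2] at heq
      refine no_five (x := K.τ w) (y := 4 * K.f) (by linarith [K.f_ge]) ?_
      have : (K.τ w : ℚ) ^ 2 = 5 * (4 * (K.f : ℚ)) ^ 2 := by
        push_cast at heq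
        rcases Q.hs with e | e <;> rw [e] at heq <;> push_cast at heq <;> field_simp at heq <;>
          first
            | linear_combination heq + 72 * (K.f : ℚ) ^ 2 * hεQ
            | linear_combination -heq + 72 * (K.f : ℚ) ^ 2 * hεQ
      exact_mod_cast this
    intro x hx
    have hxm : ¬ Q.Mem x := by
      obtain ⟨n1, n2, n3⟩ := notabc x hx
      rintro (h | h | h | h)
      exacts [n1 h, n2 h, n3 h, hx (h ▸ hz)]
    have hsupp : ∀ t, Q.G t ≠ 0 → t = u ∨ t = v := fun t ht => by
      by_contra hn; rw [not_or] at hn; exact ht (hoff t hn.1 hn.2)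
    refine ⟨fun m => ?_, fun j => ?_⟩
    · by_contra hm
      obtain ⟨Q', -, hne, -⟩ := Q.G_other hx hxm hm
      have ha := hsupp _ (hne _ (Or.inl rfl))
      have hb := hsupp _ (hne _ (Or.inr (Or.inl rfl)))
      have hc := hsupp _ (hne _ (Or.inr (Or.inr (Or.inl rfl))))
      rcases ha with ha | ha <;> rcases hb with hb | hb <;> rcases hc with hc | hc <;>
        first
          | exact Q'.hab (ha.trans hb.symm)
          | exact Q'.hac (ha.trans hc.symm)
          | exact Q'.hbc (hb.trans hc.symm)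
    · by_contra hj
      obtain ⟨-, hPx, -, -, y, hyx, -, hPy, -, hCy, hoff'⟩ := K.C_ne_facts hj
      have hdot := Q.G_C j
      rw [← Finset.sum_subset (Finset.subset_univ ({x, y} : Finset ι)) (fun t _ ht => by
          simp only [Finset.mem_insert, Finset.mem_singleton, not_or] at ht; rw [hoff' t ht.1 ht.2, mul_zero]),
        Finset.sum_pair hyx.symm, hCy] at hdot
      have hyG : Q.G y ≠ 0 := fun h => by
        rw [h, zero_mul, add_zero] at hdot
        exact (mul_ne_zero hx hj) hdot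
      have hboth : ∀ t, Q.G t ≠ 0 → t = x ∨ t = y := fun t ht => by
        rcases hsupp t ht with h | h <;> rcases hsupp x hx with h' | h' <;> rcases hsupp y hyG with h'' | h'' <;>
          first
            | exact Or.inl (h.trans h'.symm)
            | exact Or.inr (h.trans h''.symm)
            | exact absurd (h''.trans h'.symm) hyx
      have hP := Q.G_P
      rw [Finset.sum_eq_zero fun t _ => by
        by_cases ht : Q.G t = 0
        · rw [ht, zero_mul]
        · rcases hboth t ht with rfl | rfl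
          · rw [hPx, mul_zero]
          · rw [hPy, mul_zero]] at hP
      omega
  · -- the case `k = s` does not occur
    exfalso
    have hs2 : Q.s * Q.s = 1 := by rcases Q.hs with e | e <;> rw [e] <;> norm_num
    rw [hk1, hs2] at hnorm
    have hz : Q.G Q.z = 0 := by
      by_contra hzne
      have h1 : 0 < Q.G Q.z * Q.G Q.z := mul_self_pos.2 hzne
      have h2 : Q.G Q.z * Q.G Q.z = 1 := by linarith
      have hRz : R = 0 := by linarith
      rw [Finset.sum_eq_zero (fun t ht => by
        rw [mul_self_eq_zero.1 ((Finset.sum_eq_zero_iff_of_nonneg fun t _ => mul_self_nonneg (Q.G t)).1 hRz t ht),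
          zero_mul]), hk1] at hdeg
      rcases Q.hs with e | e <;> rcases mul_self_eq_one_iff.1 h2 with e' | e' <;> rw [e, e'] at hdeg <;> linarith
    have hR1 : R = 1 := by rw [hz] at hnorm; linarith
    obtain ⟨w, hw, hw1, hwoff⟩ := exists_one hR1
    rw [Finset.sum_eq_single w (fun t ht htw => by rw [hwoff t ht htw, zero_mul]) (fun h => absurd hw h), hk1, hz] at hdeg
    rw [Finset.sum_eq_single w (fun t ht htw => by rw [hwoff t ht htw]; simp) (fun h => absurd hw h), hk1, hz] at heq
    have hwm : ¬ Q.Mem w := by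
      simpa [Mem, Finset.mem_compl, not_or] using hw
    have hwne : Q.G w ≠ 0 := by rcases hw1 with e | e <;> omega
    have hsupp : ∀ t, Q.G t ≠ 0 → ¬ Q.Mem t → t = w := fun t ht htm => by
      by_contra hne
      exact ht (hwoff t (by simpa [Mem, Finset.mem_compl, not_or] using htm) hne)
    have hfree : K.Free w := by
      refine ⟨fun m => ?_, fun j => ?_⟩
      · by_contra hm
        obtain ⟨Q', -, hne, hnm⟩ := Q.G_other hwne hwm hm
        have ha := hsupp _ (hne _ (Or.inl rfl)) (hnm _ (Or.inl rfl))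
        have hb := hsupp _ (hne _ (Or.inr (Or.inl rfl))) (hnm _ (Or.inr (Or.inl rfl)))
        exact Q'.hab (ha.trans hb.symm)
      · by_contra hj
        obtain ⟨-, -, -, -, y, hyx, -, -, -, hCy, hoff'⟩ := K.C_ne_facts hj
        have hdot := Q.G_C j
        rw [← Finset.sum_subset (Finset.subset_univ ({w, y} : Finset ι)) (fun t _ ht => by
            simp only [Finset.mem_insert, Finset.mem_singleton, not_or] at ht; rw [hoff' t ht.1 ht.2, mul_zero]),
          Finset.sum_pair hyx.symm, hCy] at hdot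
        have hyG : Q.G y ≠ 0 := fun h => by
          rw [h, zero_mul, add_zero] at hdot
          exact (mul_ne_zero hwne hj) hdot
        have hym : ¬ Q.Mem y := fun h => by
          have := Q.C_zero h j
          rw [hCy] at this
          exact hj (neg_eq_zero.1 this)
        exact hyx (hsupp y hyG hym)
    have hws : Q.G w = -Q.s ∧ K.deg w = 2 * K.deg Q.a := by
      have := K.deg_pos w
      rcases Q.hs with e | e <;> rcases hw1 with e'' | e'' <;>
        rw [e, e''] at hdeg <;> rw [e, e''] <;> refine ⟨?_, ?_⟩ <;> linarith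
    rw [hws.1, hws.2] at heq
    have hsq : (K.τ w : ℤ) ^ 2 = (4 * K.f) ^ 2 := by
      have : (K.τ w : ℚ) ^ 2 = (4 * (K.f : ℚ)) ^ 2 := by
        push_cast at heq
        rcases Q.hs with e | e <;> rw [e] at heq <;> push_cast at heq <;> field_simp at heq <;>
          first
            | linear_combination heq + 24 * (K.f : ℚ) ^ 2 * hεQ
            | linear_combination -heq + 24 * (K.f : ℚ) ^ 2 * hεQ
      exact_mod_cast this
    rw [hfree.tau] at hsq
    have h2 : (K.f * K.P w - 2 * K.e * K.A w) ^ 2 = (4 * K.f) ^ 2 := by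
      linear_combination hsq - (K.f * K.P w - 2 * K.e * K.A w) ^ 2 * K.eps_sq
    obtain ⟨hA1, hA2⟩ := A_bound (K := K) w
    have hA : K.A w = 0 := by
      rcases sq_eq_sq_iff_eq_or_eq_neg.1 h2 with h | h
      · exact K.f_not_dvd hA1 hA2 ⟨K.P w - 4, by linarith⟩
      · exact K.f_not_dvd hA1 hA2 ⟨K.P w + 4, by linarith⟩
    have hP2 := sq_bound K.PP w
    rw [hA, mul_zero, sub_zero] at h2
    have hf := K.f_ge
    have : K.P w * K.P w = 16 := by
      have h3 : K.f ^ 2 * (K.P w * K.P w - 16) = 0 := by linear_combination h2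
      linarith [(mul_eq_zero.1 h3).resolve_left (pow_ne_zero 2 (by omega))]
    omega

end Quad

end CfsgLib.Recog.JankoThompson.Cols
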