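import Cfsg.Agent.Lib.Recog.JankoThompson.Enum
import Cfsg.Agent.Lib.Recog.JankoThompson.GFree
import Cfsg.Agent.Lib.Recog.JankoThompson.ArithRee
import Cfsg.Agent.Lib.Recog.JankoThompson.ArithFive
import Cfsg.Agent.Lib.Recog.JankoThompson.ArithFourRed

/-!
Owner: helper22. Groups of Janko–Thompson type: the character data force the order of a Ree group.
-/

set_option autoImplicit false
set_option linter.all false
set_option maxHeartbeats 1600000

namespace CfsgLib.Recog.JankoThompson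

theorem total_map {α : Type*} (r : α → Row) : ∀ l : List α, total (l.map r) =
    ⟨(l.map fun x => (r x).1 * (r x).1).sum, (l.map fun x => (r x).2.1 * (r x).2.1).sum,
      (l.map fun x => (r x).2.2.1 * (r x).2.2.1).sum, (l.map fun x => (r x).2.2.2 * (r x).2.2.2).sum,
      (l.map fun x => (r x).1 * (r x).2.1).sum, (l.map fun x => (r x).1 * (r x).2.2.1).sum,
      (l.map fun x => (r x).2.1 * (r x).2.2.1).sum, (l.map fun x => (r x).1 * (r x).2.2.2).sum,
      (l.map fun x => (r x).2.1 * (r x).2.2.2).sum, (l.map fun x => (r x).2.2.1 * (r x).2.2.2).sum⟩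
  | [] => rfl
  | x :: l => by
    rw [List.map_cons, total, total_map r l]
    rcases hx : r x with ⟨a, p, d, g⟩
    simp [mom, hx]

theorem perm_of_map {α β : Type*} (f : α → β) : ∀ {l : List α} {m : List β}, (l.map f).Perm m →
    ∃ l' : List α, l'.Perm l ∧ l'.map f = m := by
  intro l m
  induction m generalizing l with
  | nil => intro h; exact ⟨[], by simpa using h.eq_nil, rfl⟩
  | cons b m ih =>
    intro h
    obtain ⟨a, ha, hab⟩ := List.mem_map.1 (h.mem_iff.2 (List.mem_cons_self))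
    obtain ⟨s, t, rfl⟩ := List.append_of_mem ha
    have h1 : ((s ++ t).map f).Perm m := by
      have h2 : (f a :: (s ++ t).map f).Perm (b :: m) := by
        refine List.Perm.trans ?_ h
        simp only [List.map_append, List.map_cons]
        exact (List.perm_middle).symm
      rw [hab] at h2
      exact h2.cons_inv
    obtain ⟨l', hl', hm⟩ := ih h1
    exact ⟨a :: l', (hl'.cons a).trans List.perm_middle.symm, by rw [List.map_cons, hab, hm]⟩

theorem normal_neg {a p d g : ℤ} (h : a ≠ 0 ∨ p ≠ 0 ∨ d ≠ 0 ∨ g ≠ 0) (hn : ¬ Row.normal (a, p, d, g) = true) :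
    Row.normal (-a, -p, -d, -g) = true := by
  simp only [Row.normal] at hn ⊢
  by_cases ha : a = 0 <;> by_cases hp : p = 0 <;> by_cases hd : d = 0 <;> simp_all <;> omega

namespace Cols

variable {ι L J : Type*} [Fintype ι] [Fintype L] [Fintype J] [DecidableEq ι] {K : Cols ι L J}

namespace Quad

variable {l : L} (Q : K.Quad l)

/-- the raw row -/
def raw (χ : ι) : Row := (K.A χ, K.P χ, K.Δ χ, Q.G χ)

/-- the normalising sign -/
def sgn (χ : ι) : ℤ := if Row.normal (Q.raw χ) then 1 else -1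

/-- the normalised row -/
def row (χ : ι) : Row := (Q.sgn χ * K.A χ, Q.sgn χ * K.P χ, Q.sgn χ * K.Δ χ, Q.sgn χ * Q.G χ)

/-- the signed degree -/
def F (χ : ι) : ℤ := Q.sgn χ * K.deg χ

/-- the constituents other than `o` -/
def supp : Finset ι :=
  Finset.univ.filter fun χ => χ ≠ K.o ∧ (K.A χ ≠ 0 ∨ K.P χ ≠ 0 ∨ K.Δ χ ≠ 0 ∨ Q.G χ ≠ 0)

theorem sgn_sq (χ : ι) : Q.sgn χ * Q.sgn χ = 1 := by unfold sgn; split_ifs <;> norm_num

theorem sgn_cases (χ : ι) : Q.sgn χ = 1 ∨ Q.sgn χ = -1 := by unfold sgn; split_ifs <;> simp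

theorem F_ne (χ : ι) : Q.F χ ≠ 0 :=
  mul_ne_zero (by rcases Q.sgn_cases χ with e | e <;> omega) (K.deg_ne χ)

theorem free_supp {χ : ι} (h : χ ∈ Q.supp) : K.Free χ := by
  simp only [supp, Finset.mem_filter, Finset.mem_univ, true_and] at h
  rcases h.2 with e | e | e | e
  exacts [K.free_of (Or.inl e), K.free_of (Or.inr (Or.inl e)), K.free_of (Or.inr (Or.inr e)), Q.G_struct.2 χ e]

theorem raw_o : K.A K.o = 1 ∧ K.P K.o = 1 ∧ K.Δ K.o = 0 ∧ Q.G K.o = 0 := ⟨K.o_A, K.o_P, K.o_Δ, Q.G_o⟩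

theorem tau_o : K.τ K.o = 1 := by
  rw [(K.free_of (Or.inl (by rw [K.o_A]; exact one_ne_zero))).tau, K.o_A, K.o_P]
  linear_combination K.ε * K.f_sub + K.eps_sq

theorem tau_row {χ : ι} (h : χ ∈ Q.supp) :
    K.τ χ = K.ε * Q.sgn χ * (K.f * (Q.row χ).2.1 - 2 * K.e * (Q.row χ).1) := by
  rw [(Q.free_supp h).tau]
  simp only [row]
  linear_combination -(K.ε * (K.f * K.P χ - 2 * K.e * K.A χ)) * Q.sgn_sq χ

theorem sum_split {M : Type*} [AddCommMonoid M] (l' : List ι) (hl : l'.Perm Q.supp.toList) (h : ι → M)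
    (h0 : ∀ χ, K.A χ = 0 → K.P χ = 0 → K.Δ χ = 0 → Q.G χ = 0 → h χ = 0) :
    ∑ χ, h χ = h K.o + (l'.map h).sum := by
  have hno : K.o ∉ Q.supp := by simp [supp]
  rw [(hl.map h).sum_eq, Finset.sum_map_toList, ← Finset.sum_insert hno]
  refine (Finset.sum_subset (Finset.subset_univ _) fun χ _ hχ => ?_).symm
  simp only [Finset.mem_insert, supp, Finset.mem_filter, Finset.mem_univ, true_and, not_or, not_and, not_or] at hχ
  obtain ⟨e1, e2, e3, e4⟩ := hχ.2 hχ.1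
  exact h0 χ (not_not.1 e1) (not_not.1 e2) (not_not.1 e3) (not_not.1 e4)

theorem row_mem {χ : ι} (h : χ ∈ Q.supp) : Q.row χ ∈ rows := by
  have hb : ∀ {u : ι → ℤ} {N : ℤ}, (∑ x, u x * u x = N) → u K.o * u K.o + u χ * u χ ≤ N := by
    intro u N hu
    simp only [supp, Finset.mem_filter] at h
    rw [← hu, ← Finset.sum_pair (f := fun x => u x * u x) (Ne.symm h.2.1)]
    exact Finset.sum_le_sum_of_subset_of_nonneg (Finset.subset_univ _) fun _ _ _ => mul_self_nonneg _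
  have hA := hb K.AA
  have hP := hb K.PP
  have hD := hb K.DD
  have hG := hb Q.G_struct.1
  rw [K.o_A] at hA
  rw [K.o_P] at hP
  rw [K.o_Δ] at hD
  rw [Q.G_o] at hG
  have a1 : -1 ≤ K.A χ ∧ K.A χ ≤ 1 := by constructor <;> nlinarith
  have p1 : -2 ≤ K.P χ ∧ K.P χ ≤ 2 := by constructor <;> nlinarith
  have d1 : -2 ≤ K.Δ χ ∧ K.Δ χ ≤ 2 := by constructor <;> nlinarith
  have g1 : -1 ≤ Q.G χ ∧ Q.G χ ≤ 1 := by constructor <;> nlinarith
  have hpar := K.parity χ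
  simp only [supp, Finset.mem_filter, Finset.mem_univ, true_and] at h
  have h2 := h.2
  refine mem_rows _ ?_ _ ?_ _ ?_ _ ?_ ?_ ?_
  · rcases Q.sgn_cases χ with e | e <;> rw [e] <;> simp only [List.mem_cons, List.not_mem_nil, or_false] <;> omega
  · rcases Q.sgn_cases χ with e | e <;> rw [e] <;> simp only [List.mem_cons, List.not_mem_nil, or_false] <;> omega
  · rcases Q.sgn_cases χ with e | e <;> rw [e] <;> simp only [List.mem_cons, List.not_mem_nil, or_false] <;> omega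
  · rcases Q.sgn_cases χ with e | e <;> rw [e] <;> simp only [List.mem_cons, List.not_mem_nil, or_false] <;> omega
  · rcases Q.sgn_cases χ with e | e <;> rw [e] <;> omega
  · by_cases hn : Row.normal (Q.raw χ) = true
    · rw [show Q.sgn χ = 1 from if_pos hn, one_mul, one_mul, one_mul, one_mul]
      exact hn
    · rw [show Q.sgn χ = -1 from if_neg hn]
      simp only [neg_mul, one_mul]
      exact normal_neg h2 hn

/-- the six patterns of the rows -/
theorem exists_pattern : ∃ l' : List ι, l'.Perm Q.supp.toList ∧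
    (l'.map Q.row = patTwoSingle ∨ l'.map Q.row = patTwoPair ∨ l'.map Q.row = patSingle ∨ l'.map Q.row = patFour ∨
      l'.map Q.row = patFive ∨ l'.map Q.row = patRee) := by
  have hm : ∀ r ∈ Q.supp.toList.map Q.row, r ∈ rows := by
    intro r hr
    obtain ⟨χ, hχ, rfl⟩ := List.mem_map.1 hr
    exact Q.row_mem (Finset.mem_toList.1 hχ)
  have sq : ∀ (u v : ι → ℤ) (χ : ι), Q.sgn χ * u χ * (Q.sgn χ * v χ) = u χ * v χ := fun u v χ => by
    linear_combination u χ * v χ * Q.sgn_sq χ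
  have mo : ∀ (u v : ι → ℤ) (N : ℤ), (∑ χ, u χ * v χ = N) →
      (∀ χ, K.A χ = 0 → K.P χ = 0 → K.Δ χ = 0 → Q.G χ = 0 → u χ = 0) →
      (Q.supp.toList.map fun χ => Q.sgn χ * u χ * (Q.sgn χ * v χ)).sum = N - u K.o * v K.o := by
    intro u v N h h0
    simp only [sq]
    rw [← h, Q.sum_split _ (List.Perm.refl _) (fun χ => u χ * v χ) fun χ a b c d => by rw [h0 χ a b c d, zero_mul]]
    ring
  have htot : total (Q.supp.toList.map Q.row) = budget := by
    rw [total_map]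
    obtain ⟨oA, oP, oD, oG⟩ := Q.raw_o
    simp only [row]
    rw [mo K.A K.A _ K.AA (fun _ a _ _ _ => a), mo K.P K.P _ K.PP (fun _ _ b _ _ => b),
      mo K.Δ K.Δ _ K.DD (fun _ _ _ c _ => c), mo Q.G Q.G _ Q.G_struct.1 (fun _ _ _ _ d => d),
      mo K.A K.P _ K.AP (fun _ a _ _ _ => a), mo K.A K.Δ _ K.AD (fun _ a _ _ _ => a),
      mo K.P K.Δ _ K.PD (fun _ _ b _ _ => b),
      mo K.A Q.G 0 (by rw [← Q.G_A]; exact Finset.sum_congr rfl fun _ _ => mul_comm _ _) (fun _ a _ _ _ => a),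
      mo K.P Q.G (-2) (by rw [← Q.G_P]; exact Finset.sum_congr rfl fun _ _ => mul_comm _ _) (fun _ _ b _ _ => b),
      mo K.Δ Q.G 0 (by rw [← Q.G_Δ]; exact Finset.sum_congr rfl fun _ _ => mul_comm _ _) (fun _ _ _ c _ => c),
      oA, oP, oD, oG]
    simp [budget]
  rcases patterns hm htot with h | h | h | h | h | h <;> obtain ⟨l', hl, he⟩ := perm_of_map Q.row h
  exacts [⟨l', hl, Or.inl he⟩, ⟨l', hl, Or.inr (Or.inl he)⟩, ⟨l', hl, Or.inr (Or.inr (Or.inl he))⟩,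
    ⟨l', hl, Or.inr (Or.inr (Or.inr (Or.inl he)))⟩, ⟨l', hl, Or.inr (Or.inr (Or.inr (Or.inr (Or.inl he))))⟩,
    ⟨l', hl, Or.inr (Or.inr (Or.inr (Or.inr (Or.inr he))))⟩]

variable {l' : List ι} (hl : l'.Perm Q.supp.toList)
include hl

theorem lin (π : Row → ℤ) (hπ : ∀ χ, K.A χ = 0 → K.P χ = 0 → K.Δ χ = 0 → Q.G χ = 0 → π (Q.raw χ) = 0)
    (hodd : ∀ χ, π (Q.row χ) = Q.sgn χ * π (Q.raw χ)) :
    ∑ χ, π (Q.raw χ) * K.deg χ = π (1, 1, 0, 0) + (l'.map fun χ => π (Q.row χ) * Q.F χ).sum := by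
  obtain ⟨oA, oP, oD, oG⟩ := Q.raw_o
  rw [Q.sum_split l' hl _ fun χ a b c d => by rw [hπ χ a b c d, zero_mul], K.deg_o, mul_one]
  congr 1
  · simp [raw, oA, oP, oD, oG]
  · congr 1
    refine List.map_congr_left fun χ _ => ?_
    rw [hodd, F]
    linear_combination -(π (Q.raw χ) * K.deg χ) * Q.sgn_sq χ

theorem quad (π : Row → ℤ) (hπ : ∀ χ, K.A χ = 0 → K.P χ = 0 → K.Δ χ = 0 → Q.G χ = 0 → π (Q.raw χ) = 0)
    (hodd : ∀ χ, π (Q.row χ) = Q.sgn χ * π (Q.raw χ)) :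
    ∑ χ, (π (Q.raw χ) * K.τ χ ^ 2 : ℚ) / K.deg χ = π (1, 1, 0, 0) +
      (l'.map fun χ => (π (Q.row χ) : ℚ) * ((K.f : ℚ) * (Q.row χ).2.1 - 2 * K.e * (Q.row χ).1) ^ 2 / Q.F χ).sum := by
  obtain ⟨oA, oP, oD, oG⟩ := Q.raw_o
  rw [Q.sum_split l' hl _ fun χ a b c d => by rw [hπ χ a b c d]; simp, K.deg_o, tau_o (K := K)]
  congr 1
  · simp [raw, oA, oP, oD, oG]
  · congr 1
    refine List.map_congr_left fun χ hχ => ?_
    rw [hodd, F, Q.tau_row (Finset.mem_toList.1 (hl.subset hχ))]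
    have hd : (K.deg χ : ℚ) ≠ 0 := by exact_mod_cast K.deg_ne χ
    have hεQ : (K.ε : ℚ) * K.ε = 1 := by exact_mod_cast K.eps_sq
    rcases Q.sgn_cases χ with e | e <;> rw [e] <;> push_cast <;> field_simp <;>
      linear_combination ((π (Q.raw χ) : ℚ) * ((K.f : ℚ) * (Q.row χ).2.1 - 2 * K.e * (Q.row χ).1) ^ 2) * hεQ

theorem linA : (l'.map fun χ => (Q.row χ).1 * Q.F χ).sum = -1 := by
  have h := Q.lin hl (fun r => r.1) (fun _ a _ _ _ => a) (fun _ => rfl)
  simp only [raw] at h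
  rw [K.degA] at h
  linarith

theorem linP : (l'.map fun χ => (Q.row χ).2.1 * Q.F χ).sum = -1 := by
  have h := Q.lin hl (fun r => r.2.1) (fun _ _ b _ _ => b) (fun _ => rfl)
  simp only [raw] at h
  rw [K.degP] at h
  linarith

theorem linΔ : (l'.map fun χ => (Q.row χ).2.2.1 * Q.F χ).sum = 0 := by
  have h := Q.lin hl (fun r => r.2.2.1) (fun _ _ _ c _ => c) (fun _ => rfl)
  simp only [raw] at h
  rw [K.degD] at h
  linarith

theorem linG : (l'.map fun χ => (Q.row χ).2.2.2 * Q.F χ).sum = Q.D := by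
  have h := Q.lin hl (fun r => r.2.2.2) (fun _ _ _ _ d => d) (fun _ => rfl)
  simp only [raw] at h
  rw [Q.G_deg] at h
  linarith

theorem quadA : (l'.map fun χ => ((Q.row χ).1 : ℚ) * ((K.f : ℚ) * (Q.row χ).2.1 - 2 * K.e * (Q.row χ).1) ^ 2 /
    Q.F χ).sum = 32 * (K.ε * K.e * K.f ^ 3 : ℚ) / (K.q * Q.D) - 1 := by
  have h := Q.quad hl (fun r => r.1) (fun _ a _ _ _ => a) (fun _ => rfl)
  simp only [raw] at h
  rw [K.eqA] at h
  have hN : (K.N : ℚ) = 4 * K.ε * K.e * K.q ^ 3 * Q.D := by exact_mod_cast Q.N_eq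
  have hne : (4 * K.ε * K.e * K.q ^ 3 * Q.D : ℚ) ≠ 0 := hN ▸ (by exact_mod_cast K.N_pos.ne')
  have e1 : 64 * (K.e : ℚ) ^ 2 * K.f ^ 2 * K.q ^ 2 * (2 * K.f) / K.N =
      32 * (K.ε * K.e * K.f ^ 3 : ℚ) / (K.q * Q.D) := by
    rw [hN]
    simp only [mul_ne_zero_iff] at hne
    obtain ⟨⟨⟨⟨-, h1⟩, h2⟩, h3⟩, h4⟩ := hne
    have h3' : (K.q : ℚ) ≠ 0 := fun h0 => h3 (by rw [h0]; ring)
    field_simp
    rcases K.hε with e | e <;> rw [e] <;> push_cast <;> ring
  rw [e1] at h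
  push_cast at h
  linarith

theorem quadP : (l'.map fun χ => ((Q.row χ).2.1 : ℚ) * ((K.f : ℚ) * (Q.row χ).2.1 - 2 * K.e * (Q.row χ).1) ^ 2 /
    Q.F χ).sum = (K.f : ℚ) ^ 2 * (64 * K.ε * K.e ^ 2 + 32 * K.q) / (K.q * Q.D) - 1 := by
  have h := Q.quad hl (fun r => r.2.1) (fun _ _ b _ _ => b) (fun _ => rfl)
  simp only [raw] at h
  rw [K.eqP] at h
  have hN : (K.N : ℚ) = 4 * K.ε * K.e * K.q ^ 3 * Q.D := by exact_mod_cast Q.N_eq
  have hne : (4 * K.ε * K.e * K.q ^ 3 * Q.D : ℚ) ≠ 0 := hN ▸ (by exact_mod_cast K.N_pos.ne')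
  have e1 : 64 * (K.e : ℚ) ^ 2 * K.f ^ 2 * K.q ^ 2 * (4 * K.e + 2 * K.ε * K.q / K.e) / K.N =
      (K.f : ℚ) ^ 2 * (64 * K.ε * K.e ^ 2 + 32 * K.q) / (K.q * Q.D) := by
    rw [hN]
    simp only [mul_ne_zero_iff] at hne
    obtain ⟨⟨⟨⟨-, h1⟩, h2⟩, h3⟩, h4⟩ := hne
    have h3' : (K.q : ℚ) ≠ 0 := fun h0 => h3 (by rw [h0]; ring)
    field_simp
    rcases K.hε with e | e <;> rw [e] <;> push_cast <;> ring
  rw [e1] at h
  push_cast at h
  linarith

theorem quadΔ : (l'.map fun χ => ((Q.row χ).2.2.1 : ℚ) * ((K.f : ℚ) * (Q.row χ).2.1 - 2 * K.e * (Q.row χ).1) ^ 2 /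
    Q.F χ).sum = 0 := by
  have h := Q.quad hl (fun r => r.2.2.1) (fun _ _ _ c _ => c) (fun _ => rfl)
  simp only [raw] at h
  rw [K.eqD] at h
  push_cast at h
  linarith

theorem quadG : (l'.map fun χ => ((Q.row χ).2.2.2 : ℚ) * ((K.f : ℚ) * (Q.row χ).2.1 - 2 * K.e * (Q.row χ).1) ^ 2 /
    Q.F χ).sum = 4 * (K.f : ℚ) ^ 2 / Q.D := by
  have h := Q.quad hl (fun r => r.2.2.2) (fun _ _ _ _ d => d) (fun _ => rfl)
  simp only [raw] at h
  rw [Q.G_eqV] at h
  push_cast at h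
  linarith

end Quad

theorem Quad.D_ne {l : L} (Q : K.Quad l) : Q.D ≠ 0 :=
  mul_ne_zero (by rcases Q.hs with e | e <;> omega) (K.deg_ne _)

theorem Quad.D_pos {l : L} (Q : K.Quad l) : 0 < K.ε * Q.D := by
  have h := Q.N_eq ▸ K.N_pos
  have he := K.he
  have hq : 0 < K.q := by rcases K.hε with e | e <;> rw [K.hq, e] <;> omega
  by_contra hn
  have : K.ε * Q.D * (4 * K.e * K.q ^ 3) ≤ 0 :=
    mul_nonpos_of_nonpos_of_nonneg (not_lt.1 hn) (by positivity)
  nlinarith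

theorem no_two {f x y D : ℤ} (hf : f ≠ 0) (hx : x ≠ 0) (hy : y ≠ 0) (hD : D ≠ 0) (h1 : x - y = D)
    (h2 : -((2 * f : ℚ) ^ 2) / y = 4 * (f : ℚ) ^ 2 / D) : False := by
  have hf' : (f : ℚ) ≠ 0 := by exact_mod_cast hf
  have hy' : (y : ℚ) ≠ 0 := by exact_mod_cast hy
  have hD' : (D : ℚ) ≠ 0 := by exact_mod_cast hD
  field_simp at h2
  have : (D : ℚ) + y = 0 := by linarith
  have : D + y = 0 := by exact_mod_cast this
  exact hx (by linarith)

theorem halves_eq {f H H' D : ℤ} (hf : f ≠ 0) (hH : H ≠ 0) (hH' : H' ≠ 0) (hD : D ≠ 0) (h1 : -H - H' = D)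
    (h2 : -((f : ℚ) ^ 2) / H + -((f : ℚ) ^ 2) / H' = 4 * (f : ℚ) ^ 2 / D) : H = H' := by
  have hf' : (f : ℚ) ≠ 0 := by exact_mod_cast hf
  have hH1 : (H : ℚ) ≠ 0 := by exact_mod_cast hH
  have hH2 : (H' : ℚ) ≠ 0 := by exact_mod_cast hH'
  have hDq : (D : ℚ) = -H - H' := by exact_mod_cast h1.symm
  have hne : (-(H : ℚ) - H') ≠ 0 := by rw [← hDq]; exact_mod_cast hD
  rw [hDq] at h2
  field_simp at h2
  have h3 : ((H : ℚ) - H') ^ 2 = 0 := by linarith
  have h4 : (H - H') ^ 2 = 0 := by exact_mod_cast h3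
  linarith [(pow_eq_zero_iff (two_ne_zero)).1 h4]

theorem conclusion_of_ree {l : L} (Q : K.Quad l) {A B : ℤ}
    (hD : Q.D = (K.ε * K.q + 1) * (K.q ^ 2 + K.ε * K.q + 1))
    (hsq : 3 * (A - B) ^ 2 = -(K.ε * K.q * (K.q ^ 2 - 1) ^ 2)) : K.Conclusion := by
  have he := K.he
  have hq27 : 27 ≤ K.q := by rcases K.hε with e | e <;> rw [K.hq, e] <;> omega
  have hε : K.ε = -1 := K.hε.resolve_left fun h => by
    rw [h] at hsq
    nlinarith [sq_nonneg (A - B), mul_pos (show 0 < K.q by omega) (pow_pos (show 0 < K.q ^ 2 - 1 by nlinarith) 2)]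
  have hbig : 11 ≤ K.p ^ K.n := by
    have : (11 : ℤ) ≤ ((K.p ^ K.n : ℕ) : ℤ) := by push_cast; rw [← K.q_eq]; omega
    exact_mod_cast this
  have hn : Odd K.n := by
    rcases Nat.even_or_odd K.n with ⟨k, hk⟩ | h
    · exfalso
      have h4 : K.q % 4 = 3 := by rw [K.hq, hε]; omega
      rw [K.q_eq, hk, ← two_mul, mul_comm, pow_mul, pow_two, Int.mul_emod] at h4
      rcases (show ((K.p : ℤ) ^ k) % 4 = 0 ∨ ((K.p : ℤ) ^ k) % 4 = 1 ∨ ((K.p : ℤ) ^ k) % 4 = 2 ∨ ((K.p : ℤ) ^ k) % 4 = 3 by omega)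
        with e | e | e | e <;> rw [e] at h4 <;> norm_num at h4
    · exact h
  obtain ⟨-, m, hm, hpm⟩ := three_power K.prime_p hn K.hε hbig (X := A - B) (by rw [hsq, K.q_eq])
  refine ⟨hε, ⟨m, hm, hpm⟩, ?_⟩
  rw [Q.N_eq, hD, hε, show 4 * (-1 : ℤ) * K.e = -(4 * K.e) by ring, show 4 * K.e = K.q + 1 by rw [K.hq, hε]; ring]
  ring

/-- per orbit: the pattern of the Ree groups, or `G` vanishes on the support of `A` -/
theorem Quad.step {l : L} (Q : K.Quad l) :
    (∃ l' : List ι, l'.Perm Q.supp.toList ∧ l'.map Q.row = patRee) ∨ (∀ χ, K.A χ ≠ 0 → Q.G χ = 0) ∧ ((∀ χ, K.A χ ≠ 0 → K.e ∣ K.deg χ - K.P χ) → False) := by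
  obtain ⟨l', hl, hpat⟩ := Q.exists_pattern
  have lA := Q.linA hl
  have lP := Q.linP hl
  have lD := Q.linΔ hl
  have lG := Q.linG hl
  have qA := Q.quadA hl
  have qP := Q.quadP hl
  have qD := Q.quadΔ hl
  have qG := Q.quadG hl
  have hf := K.f_ge
  have hDne := Q.D_ne
  have hqf : (K.f : ℚ) + 2 * K.e = K.q := by exact_mod_cast (by rw [K.hq, K.hf]; ring : K.f + 2 * K.e = K.q)
  have hfe : ((K.f : ℚ) - 2 * K.e) ^ 2 = 1 := by
    exact_mod_cast (by rw [K.f_sub, pow_two, K.eps_sq] : (K.f - 2 * K.e) ^ 2 = 1)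
  have hnq : (-(K.f : ℚ) - 2 * K.e) ^ 2 = (K.q : ℚ) ^ 2 := by rw [← hqf]; ring
  rcases hpat with h | h | h | h | h | h
  · simp only [patTwoSingle, List.map_eq_cons_iff, List.map_eq_nil_iff] at h
    obtain ⟨x1, _, rfl, r1, x2, _, rfl, r2, x3, _, rfl, r3, x4, _, rfl, r4, x5, _, rfl, r5, x6, _, rfl, r6, rfl⟩ := h
    exfalso
    simp only [List.map_cons, List.map_nil, List.sum_cons, List.sum_nil, r1, r2, r3, r4, r5, r6] at lG qG
    norm_num at lG qG
    exact no_two (f := K.f) (by omega) (Q.F_ne x1) (Q.F_ne x3) hDne (by linarith) (by linear_combination qG)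
  · simp only [patTwoPair, List.map_eq_cons_iff, List.map_eq_nil_iff] at h
    obtain ⟨x1, _, rfl, r1, x2, _, rfl, r2, x3, _, rfl, r3, x4, _, rfl, r4, x5, _, rfl, r5, x6, _, rfl, r6, x7, _, rfl, r7, rfl⟩ := h
    exfalso
    simp only [List.map_cons, List.map_nil, List.sum_cons, List.sum_nil, r1, r2, r3, r4, r5, r6, r7] at lG qG
    norm_num at lG qG
    exact no_two (f := K.f) (by omega) (Q.F_ne x1) (Q.F_ne x4) hDne (by linarith) (by linear_combination qG)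
  · simp only [patSingle, List.map_eq_cons_iff, List.map_eq_nil_iff] at h
    obtain ⟨x1, _, rfl, r1, x2, _, rfl, r2, x3, _, rfl, r3, x4, _, rfl, r4, x5, _, rfl, r5, rfl⟩ := h
    exfalso
    simp only [List.map_cons, List.map_nil, List.sum_cons, List.sum_nil, r1, r2, r3, r4, r5] at lD
    norm_num at lD
    exact Q.F_ne x1 lD
  · simp only [patFour, List.map_eq_cons_iff, List.map_eq_nil_iff] at h
    obtain ⟨x1, _, rfl, r1, x2, _, rfl, r2, x3, _, rfl, r3, x4, _, rfl, r4, x5, _, rfl, r5, x6, _, rfl, r6, x7, _, rfl, r7, rfl⟩ := h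
    refine Or.inr ⟨fun χ hχ => ?_, fun hcg => ?_⟩
    · by_cases ho : χ = K.o
      · subst ho; exact Q.G_o
      have hm : χ ∈ [x1, x2, x3, x4, x5, x6, x7] :=
        hl.mem_iff.2 (Finset.mem_toList.2 (by simp [Quad.supp, ho, hχ]))
      have hrow : (Q.row χ).2.2.2 = 0 ∨ (Q.row χ).1 = 0 := by
        simp only [List.mem_cons, List.not_mem_nil, or_false] at hm
        rcases hm with rfl | rfl | rfl | rfl | rfl | rfl | rfl <;>
          simp only [r1, r2, r3, r4, r5, r6, r7] <;> norm_num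
      have hs : Q.sgn χ ≠ 0 := by rcases Q.sgn_cases χ with e | e <;> omega
      rcases hrow with e | e
      · exact (mul_eq_zero.1 e).resolve_left hs
      · exact absurd ((mul_eq_zero.1 e).resolve_left hs) hχ
    · simp only [List.map_cons, List.map_nil, List.sum_cons, List.sum_nil, r1, r2, r3, r4, r5, r6, r7] at lA lP lD lG qA qP qG
      norm_num at lA lP lD lG qA qP qG
      simp only [hnq, hfe] at qA qP qG
      have hH : Q.F x1 = Q.F x3 := halves_eq (f := K.f) (by omega) (Q.F_ne x1) (Q.F_ne x3) hDne (by linarith)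
        (by linear_combination qG)
      have hQ : Q.F x2 = Q.F x4 := by linarith
      rw [← hH, ← hQ] at qP
      have mem : ∀ x ∈ [x1, x2, x3, x4, x5, x6, x7], x ∈ Q.supp := fun x hx =>
        Finset.mem_toList.1 (hl.subset hx)
      have odd : ∀ x ∈ [x1, x2, x3, x4, x5, x6, x7], Odd (K.f * (Q.row x).2.1 - 2 * K.e * (Q.row x).1) → Odd (Q.F x) := by
        intro x hx ho
        obtain ⟨i, hi⟩ := K.deg_par x
        obtain ⟨j, hj⟩ := ho
        have ht := Q.tau_row (mem x hx)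
        rw [hj] at ht
        rw [Int.odd_iff, Quad.F]
        rcases Q.sgn_cases x with e | e <;> rcases K.hε with e' | e' <;> rw [e, e'] at ht <;> rw [e] <;> omega
      obtain ⟨fi, hfi⟩ : Odd K.f := by rcases K.hε with e | e <;> rw [K.hf, e] ; exacts [⟨K.e, rfl⟩, ⟨K.e - 1, by ring⟩]
      have hu : Odd (Q.F x7) := odd x7 (by simp) (by rw [r7]; simp only [mul_one]; rw [K.f_sub]; rcases K.hε with e | e <;> rw [e] <;> decide)
      have hQ2 : Odd (Q.F x2) := odd x2 (by simp) (by rw [r2]; exact ⟨fi, by linarith⟩)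
      have hH1 : Odd (Q.F x1) := odd x1 (by simp) (by rw [r1]; exact ⟨fi, by linarith⟩)
      have hAu : K.A x7 ≠ 0 := by
        intro h0
        have := congrArg Prod.fst r7
        simp [Quad.row, h0] at this
      have hcong : K.e ∣ Q.F x7 - 1 := by
        have h1 := congrArg (fun r : Row => r.2.1) r7
        simp only [Quad.row] at h1
        have := (hcg x7 hAu).mul_left (Q.sgn x7)
        rwa [mul_sub, h1] at this
      have hdvd : ∀ x, Q.F x ∣ 4 * K.ε * K.e * K.q ^ 3 * Q.D := fun x => by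
        rw [← Q.N_eq, Quad.F]
        rcases Q.sgn_cases x with e | e <;> rw [e] <;> simp [K.deg_dvd x]
      exact Four.impossible K.prime_p K.n_pos K.q_eq K.hε K.he K.hq K.hf (u := Q.F x7) (v := Q.F x5) (w := Q.F x6)
        (Q := Q.F x2) (H := Q.F x1) (D := Q.D) (Q.F_ne x5) (Q.F_ne x6) hu hQ2 hH1 hcong (by linarith) (by linarith)
        (by linarith) (hdvd x5) (hdvd x6) (hdvd x2) (by linear_combination qA) (by linear_combination qP)
  · simp only [patFive, List.map_eq_cons_iff, List.map_eq_nil_iff] at h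
    obtain ⟨x1, _, rfl, r1, x2, _, rfl, r2, x3, _, rfl, r3, x4, _, rfl, r4, x5, _, rfl, r5, x6, _, rfl, r6, rfl⟩ := h
    exfalso
    simp only [List.map_cons, List.map_nil, List.sum_cons, List.sum_nil, r1, r2, r3, r4, r5, r6] at lA lP lD lG qA qP qG
    norm_num at lA lP lD lG qA qP qG
    simp only [hnq] at qA qP qG
    have hH : Q.F x1 = Q.F x2 := halves_eq (f := K.f) (by omega) (Q.F_ne x1) (Q.F_ne x2) hDne (by linarith)
      (by linear_combination qG)
    have hy : Q.F x5 = Q.F x6 := by linarith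
    rw [← hy] at qA
    rw [← hH] at qP
    have hHD : 2 * (Q.F x1 : ℚ) = -(Q.D : ℚ) := by exact_mod_cast (by linarith : 2 * Q.F x1 = -Q.D)
    have hH2 : (K.f : ℚ) ^ 2 / (Q.F x1 : ℚ) = -(2 * (K.f : ℚ) ^ 2 / (Q.D : ℚ)) := by
      have : (Q.F x1 : ℚ) ≠ 0 := by exact_mod_cast Q.F_ne x1
      have : (Q.D : ℚ) ≠ 0 := by exact_mod_cast hDne
      rw [show (Q.D : ℚ) = -(2 * (Q.F x1 : ℚ)) by linarith]
      field_simp
    rw [hH2] at qP
    exact Five.impossible K.hε K.he K.hq K.hf (v := Q.F x4) (y := Q.F x5) (Q := Q.F x3) (D := Q.D) (Q.F_ne x4)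
      (Q.F_ne x5) (Q.F_ne x3) hDne (by linarith) (by linarith) (by linear_combination qA) (by linear_combination qP)
  · exact Or.inl ⟨l', hl, h⟩

/-- the pattern of the Ree groups gives the conclusion -/
theorem Quad.conclusion {l : L} (Q : K.Quad l) {l' : List ι} (hl : l'.Perm Q.supp.toList)
    (h : l'.map Q.row = patRee) : K.Conclusion := by
  have lA := Q.linA hl
  have lP := Q.linP hl
  have lD := Q.linΔ hl
  have lG := Q.linG hl
  have qA := Q.quadA hl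
  have qP := Q.quadP hl
  have qD := Q.quadΔ hl
  have qG := Q.quadG hl
  have hDne := Q.D_ne
  have hfe : ((K.f : ℚ) - 2 * K.e) ^ 2 = 1 := by
    exact_mod_cast (by rw [K.f_sub, pow_two, K.eps_sq] : (K.f - 2 * K.e) ^ 2 = 1)
  have hqf : (K.f : ℚ) + 2 * K.e = K.q := by exact_mod_cast (by rw [K.hq, K.hf]; ring : K.f + 2 * K.e = K.q)
  have hnq : (-(K.f : ℚ) - 2 * K.e) ^ 2 = (K.q : ℚ) ^ 2 := by rw [← hqf]; ring
  simp only [patRee, List.map_eq_cons_iff, List.map_eq_nil_iff] at h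
  obtain ⟨x1, _, rfl, r1, x2, _, rfl, r2, x3, _, rfl, r3, x4, _, rfl, r4, x5, _, rfl, r5, x6, _, rfl, r6, x7, _, rfl, r7, rfl⟩ := h
  simp only [List.map_cons, List.map_nil, List.sum_cons, List.sum_nil, r1, r2, r3, r4, r5, r6, r7] at lA lP lD lG qA qP qD qG
  norm_num at lA lP lD lG qA qP qD qG
  simp only [hnq, hfe] at qA qP qG
  obtain ⟨e1, e2⟩ := ree_solution K.hε K.he K.hq K.hf (u := Q.F x7) (v := Q.F x5) (w := Q.F x6) (A := Q.F x1)
    (B := Q.F x2) (A' := Q.F x3) (B' := Q.F x4) (D := Q.D) (Q.F_ne x7) (Q.F_ne x5) (Q.F_ne x6) (Q.F_ne x1)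
    (Q.F_ne x2) (Q.F_ne x3) (Q.F_ne x4) hDne (by linarith) (by linarith) (by linarith) (by linarith)
    (by linear_combination qG) (by linear_combination qA) (by linear_combination qP) (by linear_combination qD)
  exact conclusion_of_ree Q e1 e2

/-- some orbit has the pattern of the Ree groups -/
theorem exists_ree (K : Cols ι L J) :
    ∃ (l : L) (Q : K.Quad l) (l' : List ι), l'.Perm Q.supp.toList ∧ l'.map Q.row = patRee := by
  obtain ⟨l0⟩ := K.nonempty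
  by_contra hK
  push Not at hK
  have hS : ∀ {m : L} (Q : K.Quad m), (∀ χ, K.A χ ≠ 0 → Q.G χ = 0) ∧
      ((∀ χ, K.A χ ≠ 0 → K.e ∣ K.deg χ - K.P χ) → False) := fun {m} Q =>
    Q.step.resolve_left fun ⟨l', h1, h2⟩ => hK m Q l' h1 h2
  have hG : ∀ m, ∀ χ, K.A χ ≠ 0 → K.V m χ = 0 := by
    intro m χ hχ
    obtain ⟨Q⟩ := K.exists_quad m
    have hne : χ ≠ Q.a := fun h => hχ (Q.A_zero (Or.inl h))
    rw [Q.V_eq, if_neg hne, (hS Q).1 χ hχ, sub_zero]
  obtain ⟨Q⟩ := K.exists_quad l0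
  refine (hS Q).2 fun χ hχ => ?_
  have h := K.cong χ
  rwa [Finset.sum_eq_zero fun m _ => (K.free_of (Or.inl hχ)).1 m,
    Finset.sum_eq_zero fun m _ => hG m χ hχ, mul_zero, sub_zero, add_zero] at h

/-- **The character argument** -/
theorem conclusion (K : Cols ι L J) : K.Conclusion := by
  obtain ⟨l, Q, l', hl, h⟩ := K.exists_ree
  exact Q.conclusion hl h

end Cols

end CfsgLib.Recog.JankoThompson
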