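import Mathlib

/-!
Owner: helper22. Groups of Janko–Thompson type: the spurious pattern with `Δ` outside the support of `A₁` and
`G₀` inside the support of `Δ` has no solution.
-/

set_option autoImplicit false
set_option linter.all false
set_option maxHeartbeats 1600000

namespace CfsgLib.Recog.JankoThompson.Four

/-- the case `|j| ≥ 3` of the final inequality, in absolute values -/
theorem large {A B J K f qq : ℤ} (hA : 1 ≤ A) (hAq : A ≤ qq) (hq : 27 ≤ qq) (hB : 2 ≤ B) (hK : 2 ≤ K) (hJ : 3 ≤ J)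
    (hS : B * K ≤ A ^ 2 + J) (hJB : J ≤ A + B) (hf : (qq - 1) ^ 2 ≤ 4 * f ^ 2) :
    B * (A + K) ^ 2 < f ^ 2 * (J * ((2 * qq - 6) * A - B)) := by
  have hB2 : 2 * B ≤ A ^ 2 + J := by nlinarith
  have hBA : B ≤ A ^ 2 + A := by linarith
  have hJA : J ≤ A ^ 2 + 2 * A := by linarith
  have hsum : 2 * B + 2 * K ≤ A ^ 2 + J + 4 := by nlinarith [mul_nonneg (show 0 ≤ B - 2 by omega) (show 0 ≤ K - 2 by omega)]
  have hL : 2 * (B * (A + K) ^ 2) ≤ A ^ 4 + 4 * A ^ 3 + 4 * A ^ 2 + J * (3 * A ^ 2 + 6 * A + 4) := by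
    have e : B * (A + K) ^ 2 = B * A ^ 2 + 2 * A * (B * K) + K * (B * K) := by ring
    have e1 : B * A ^ 2 + K * (B * K) ≤ (B + K) * (A ^ 2 + J) := by
      nlinarith [mul_le_mul_of_nonneg_left hS (show 0 ≤ K by omega), mul_nonneg (show 0 ≤ B by omega) (show 0 ≤ J by omega)]
    have e2 : 2 * ((B + K) * (A ^ 2 + J)) ≤ (A ^ 2 + J + 4) * (A ^ 2 + J) := by
      have h0 : 0 ≤ A ^ 2 + J := by positivity
      nlinarith [mul_le_mul_of_nonneg_right hsum h0]
    have e3 : 2 * A * (B * K) ≤ 2 * A * (A ^ 2 + J) := mul_le_mul_of_nonneg_left hS (by omega)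
    have e4 : J * J ≤ J * (A ^ 2 + 2 * A) := mul_le_mul_of_nonneg_left hJA (by omega)
    nlinarith
  have hq3 : (qq - 1) ^ 2 * (qq - 7) * A ≥ 0 := by
    have : 0 ≤ qq - 7 := by omega
    positivity
  have hA3 : A ^ 3 ≤ qq ^ 3 := pow_le_pow_left₀ (by omega) hAq 3
  rcases (show J = 3 ∨ 4 ≤ J by omega) with h3 | h4
  · subst h3
    have hR : (qq - 1) ^ 2 * (3 * ((3 * qq - 12) * A - 3)) ≤ 8 * (f ^ 2 * (3 * ((2 * qq - 6) * A - B))) := by
      have hx : (3 * qq - 12) * A - 3 ≤ 2 * ((2 * qq - 6) * A - B) := by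
        nlinarith [mul_le_mul_of_nonneg_left hAq (show 0 ≤ A by omega)]
      have hp : 0 ≤ (3 * qq - 12) * A - 3 := by nlinarith
      nlinarith [mul_le_mul hf (show 3 * ((3 * qq - 12) * A - 3) ≤ 2 * (3 * ((2 * qq - 6) * A - B)) by linarith)
        (show 0 ≤ 3 * ((3 * qq - 12) * A - 3) by linarith) (show 0 ≤ 4 * f ^ 2 by positivity)]
    have key : 4 * (A ^ 4 + 4 * A ^ 3 + 4 * A ^ 2 + 3 * (3 * A ^ 2 + 6 * A + 4)) <
        (qq - 1) ^ 2 * (3 * ((3 * qq - 12) * A - 3)) := by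
      have k1 : A ^ 4 ≤ A * qq ^ 3 := by nlinarith [mul_le_mul_of_nonneg_left hA3 (show 0 ≤ A by omega)]
      have k2 : A ^ 3 ≤ A * qq ^ 2 := by nlinarith [pow_le_pow_left₀ (show 0 ≤ A by omega) hAq 2]
      have k3 : A ^ 2 ≤ A * qq := by nlinarith
      have k4 : 4 * qq ^ 3 + 16 * qq ^ 2 + 52 * qq + 120 + 9 * (qq - 1) ^ 2 < (qq - 1) ^ 2 * (9 * qq - 36) := by
        nlinarith [mul_le_mul_of_nonneg_left hq (show 0 ≤ qq ^ 2 by positivity), mul_le_mul_of_nonneg_left hq (show 0 ≤ qq by omega)]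
      nlinarith [mul_le_mul_of_nonneg_left k4.le (show 0 ≤ A by omega), mul_le_mul_of_nonneg_right hA (sq_nonneg (qq - 1))]
    nlinarith
  · have hR : (qq - 1) ^ 2 * (J * (A * (qq - 7))) ≤ 4 * (f ^ 2 * (J * ((2 * qq - 6) * A - B))) := by
      have hx : A * (qq - 7) ≤ (2 * qq - 6) * A - B := by
        nlinarith [mul_le_mul_of_nonneg_left hAq (show 0 ≤ A by omega)]
      have hp : 0 ≤ J * (A * (qq - 7)) := mul_nonneg (by omega) (mul_nonneg (by omega) (by omega))
      nlinarith [mul_le_mul hf (mul_le_mul_of_nonneg_left hx (show 0 ≤ J by omega)) hp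
        (show 0 ≤ 4 * f ^ 2 by positivity)]
    have key : 2 * (A ^ 4 + 4 * A ^ 3 + 4 * A ^ 2 + J * (3 * A ^ 2 + 6 * A + 4)) <
        (qq - 1) ^ 2 * (J * (A * (qq - 7))) := by
      have k1 : A ^ 4 ≤ A * qq ^ 3 := by nlinarith [mul_le_mul_of_nonneg_left hA3 (show 0 ≤ A by omega)]
      have k2 : A ^ 3 ≤ A * qq ^ 2 := by nlinarith [pow_le_pow_left₀ (show 0 ≤ A by omega) hAq 2]
      have k3 : A ^ 2 ≤ A * qq := by nlinarith
      have k4 : 2 * qq ^ 3 + 8 * qq ^ 2 + 8 * qq < 4 * ((qq - 1) ^ 2 * (qq - 7) - (6 * qq + 20)) := by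
        nlinarith [mul_le_mul_of_nonneg_left hq (show 0 ≤ qq ^ 2 by positivity), mul_le_mul_of_nonneg_left hq (show 0 ≤ qq by omega)]
      have k5 : 0 ≤ (qq - 1) ^ 2 * (qq - 7) - (6 * qq + 20) := by nlinarith [sq_nonneg qq]
      have k6 : 3 * A ^ 2 + 6 * A + 4 ≤ A * (3 * qq + 10) := by nlinarith
      nlinarith [mul_le_mul_of_nonneg_left k6 (show 0 ≤ J by omega),
        mul_le_mul_of_nonneg_right h4 (mul_nonneg (show 0 ≤ A by omega) k5),
        mul_lt_mul_of_pos_left k4 (show 0 < A by omega)]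
    nlinarith

/-- the case `j = -1` of the final inequality -/
theorem unit_case {A B K qq ε : ℤ} (hε : ε = 1 ∨ ε = -1) (hq : 27 ≤ qq) (hA : 2 ≤ A) (hAq : A = qq ∨ 3 * A ≤ qq)
    (hmod : ε = 1 ∨ ε = -1) (hB : 2 ≤ B) (hK : 2 ≤ K) (hBe : 2 ∣ B) (hKe : 2 ∣ K) (hBK : B * K = A ^ 2 - 1) :
    4 * (B * (A - ε * K) ^ 2) ≠ (qq + ε) ^ 2 * (B + (2 * qq + 6 * ε) * A) := by
  intro h
  have hAq' : A ≤ qq := by rcases hAq with h' | h' <;> omega
  rcases (show B = 2 ∨ 4 ≤ B by omega) with hB2 | hB4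
  · subst hB2
    have h' : (A ^ 2 - 1 - 2 * ε * A) ^ 2 = (qq + ε) ^ 2 * (1 + (qq + 3 * ε) * A) := by
      rw [show A ^ 2 - 1 = 2 * K by linarith]
      rcases hε with h1 | h1 <;> subst h1 <;> linarith
    rcases hAq with hAe | hA3
    · subst hAe
      rcases hε with h1 | h1 <;> subst h1 <;>
        nlinarith [sq_nonneg A, mul_le_mul_of_nonneg_left hq (sq_nonneg A), mul_le_mul_of_nonneg_left hq (show 0 ≤ A by omega)]
    · have hb : (A ^ 2 - 1 - 2 * ε * A) ^ 2 ≤ (A ^ 2 + 2 * A) ^ 2 :=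
        sq_le_sq' (by rcases hε with h1 | h1 <;> subst h1 <;> nlinarith) (by rcases hε with h1 | h1 <;> subst h1 <;> nlinarith)
      have hc : (qq - 1) ^ 2 * ((qq - 3) * A) ≤ (qq + ε) ^ 2 * (1 + (qq + 3 * ε) * A) := by
        refine mul_le_mul ?_ ?_ (mul_nonneg (by omega) (by omega)) (sq_nonneg _)
        · rcases hε with h1 | h1 <;> subst h1 <;> nlinarith
        · rcases hε with h1 | h1 <;> subst h1 <;> nlinarith
      have h3 : 27 * (A * (A + 2) ^ 2) < 27 * ((qq - 1) ^ 2 * (qq - 3)) := by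
        nlinarith [mul_le_mul hA3 (pow_le_pow_left₀ (show 0 ≤ 3 * (A + 2) by omega) (show 3 * (A + 2) ≤ qq + 6 by omega) 2)
          (sq_nonneg _) (show 0 ≤ qq by omega), mul_le_mul_of_nonneg_left hq (sq_nonneg qq), mul_le_mul_of_nonneg_left hq (show 0 ≤ qq by omega)]
      nlinarith [mul_lt_mul_of_pos_left h3 (show 0 < A by omega)]
  · rcases (show K = 2 ∨ 4 ≤ K by omega) with hK2 | hK4
    · subst hK2
      have h' : 4 * (A ^ 2 - 1) * (A - 2 * ε) ^ 2 = (qq + ε) ^ 2 * (A ^ 2 - 1 + 4 * (qq + 3 * ε) * A) := by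
        rw [show A ^ 2 - 1 = 2 * B by linarith]
        rcases hε with h1 | h1 <;> subst h1 <;> linarith
      rcases hAq with hAe | hA3
      · subst hAe
        have hd : A ∣ 15 := by
          rcases hε with h1 | h1 <;> subst h1
          · exact ⟨-A ^ 3 - 38 * A ^ 2 - 16 * A + 6, by linear_combination -h'⟩
          · exact ⟨-A ^ 3 + 38 * A ^ 2 - 16 * A - 6, by linear_combination -h'⟩
        have := Int.le_of_dvd (by norm_num) hd
        omega
      · have hb : 4 * (A ^ 2 - 1) * (A - 2 * ε) ^ 2 ≤ 4 * A ^ 2 * (A + 2) ^ 2 := by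
          refine mul_le_mul (by linarith) ?_ (sq_nonneg _) (by positivity)
          rcases hε with h1 | h1 <;> subst h1 <;> nlinarith
        have hc : (qq - 1) ^ 2 * (4 * (qq - 3) * A) ≤ (qq + ε) ^ 2 * (A ^ 2 - 1 + 4 * (qq + 3 * ε) * A) := by
          refine mul_le_mul ?_ ?_ (mul_nonneg (by omega) (by omega)) (sq_nonneg _)
          · rcases hε with h1 | h1 <;> subst h1 <;> nlinarith
          · rcases hε with h1 | h1 <;> subst h1 <;> nlinarith
        have h3 : 27 * (A * (A + 2) ^ 2) < 27 * ((qq - 1) ^ 2 * (qq - 3)) := by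
          nlinarith [mul_le_mul hA3 (pow_le_pow_left₀ (show 0 ≤ 3 * (A + 2) by omega) (show 3 * (A + 2) ≤ qq + 6 by omega) 2)
            (sq_nonneg _) (show 0 ≤ qq by omega), mul_le_mul_of_nonneg_left hq (sq_nonneg qq), mul_le_mul_of_nonneg_left hq (show 0 ≤ qq by omega)]
        nlinarith [mul_lt_mul_of_pos_left h3 (show 0 < A by omega)]
    · have hsum : 4 * B + 4 * K ≤ A ^ 2 + 15 := by
        nlinarith [mul_nonneg (show 0 ≤ B - 4 by omega) (show 0 ≤ K - 4 by omega)]
      have hb : 4 * (B * (A - ε * K) ^ 2) ≤ A ^ 4 + 8 * A ^ 3 + 16 * A ^ 2 := by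
        have e0 : B * (A - ε * K) ^ 2 ≤ B * A ^ 2 + 2 * A * (A ^ 2 - 1) + K * (A ^ 2 - 1) := by
          rw [← hBK]
          rcases hε with h1 | h1 <;> subst h1 <;>
            nlinarith [mul_nonneg (mul_nonneg (show 0 ≤ B by omega) (show 0 ≤ K by omega)) (show 0 ≤ A by omega)]
        nlinarith [mul_le_mul_of_nonneg_left hsum (sq_nonneg A)]
      have hBub : 4 * B ≤ A ^ 2 := by nlinarith
      have hc : (qq - 1) ^ 2 * ((2 * qq - 6) * A) ≤ (qq + ε) ^ 2 * (B + (2 * qq + 6 * ε) * A) := by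
        refine mul_le_mul ?_ ?_ (mul_nonneg (by omega) (by omega)) (sq_nonneg _)
        · rcases hε with h1 | h1 <;> subst h1 <;> nlinarith
        · rcases hε with h1 | h1 <;> subst h1 <;> nlinarith
      have h3 : A ^ 3 + 8 * A ^ 2 + 16 * A < (qq - 1) ^ 2 * (2 * qq - 6) := by
        nlinarith [pow_le_pow_left₀ (show 0 ≤ A by omega) hAq' 3, pow_le_pow_left₀ (show 0 ≤ A by omega) hAq' 2,
          mul_le_mul_of_nonneg_left hq (sq_nonneg qq), mul_le_mul_of_nonneg_left hq (show 0 ≤ qq by omega)]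
      nlinarith [mul_lt_mul_of_pos_left h3 (show 0 < A by omega)]

/-- the final Diophantine system has no solution -/
theorem core {q e f ε a b c j u' : ℤ} (hε : ε = 1 ∨ ε = -1) (he : 7 ≤ e) (hq : q = 4 * e + ε) (hf : f = 2 * e + ε)
    (haq : |a| = q ∨ 3 * |a| ≤ q) (ha : Odd a) (hb : Even b) (hb0 : b ≠ 0) (hc : Odd c) (hj : Odd j)
    (hcb : c * b = u' * a + 1) (hab : a + b = u' * j) (hgcd : IsCoprime a b)
    (hE : c ^ 2 * b * j = f ^ 2 * ((8 * ε * e + 8) * a - b)) : False := by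
  have hq27 : 27 ≤ q := by rcases hε with h | h <;> omega
  set k := c * j - a with hk
  have hkb : k * b = j + a ^ 2 := by rw [hk]; linear_combination j * hcb - a * hab
  have hke : Even k := by rw [hk]; exact Odd.sub_odd (hc.mul hj) ha
  have hL : (8 * ε * e + 8) = ε * (2 * q + 6 * ε) := by rw [hq]; rcases hε with h | h <;> subst h <;> ring
  have hfq : 2 * f = q + ε := by omega
  have ha0 : a ≠ 0 := by rintro rfl; simp at ha
  have hab0 : a + b ≠ 0 := by
    intro h
    have : Odd (a + b) := ha.add_even hb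
    rw [h] at this
    simp at this
  have hA1 : 1 ≤ |a| := Int.one_le_abs ha0
  have hAq : |a| ≤ q := by rcases haq with h | h <;> linarith
  have hB2 : 2 ≤ |b| := by
    have := abs_pos.2 hb0
    obtain ⟨i, hi⟩ := hb
    rcases abs_cases b with h | h <;> omega
  have hJ : |j| ≤ |a| + |b| :=
    (Int.le_of_dvd (abs_pos.2 hab0) (by rw [abs_dvd, dvd_abs]; exact ⟨u', by rw [hab]; ring⟩)).trans (abs_add_le a b)
  by_cases hk0 : k = 0
  · rw [hk0, zero_mul] at hkb
    have hja : j = -a ^ 2 := by linarith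
    have hau : IsUnit a := by
      refine (hgcd.symm.of_isCoprime_of_dvd_left ?_).isUnit_of_dvd' dvd_rfl (dvd_refl a)
      exact ⟨-(u' * a) - 1, by rw [hja] at hab; linear_combination hab⟩
    have ha2 : a * a = 1 := by rcases Int.isUnit_iff.1 hau with h | h <;> subst h <;> norm_num
    have hj1 : j = -1 := by rw [hja, pow_two, ha2]
    have hca : c = -a := by rw [hk, hj1] at hk0; linarith
    rw [hj1, hca] at hE
    have hE' : b * (f ^ 2 - 1) = f ^ 2 * ((8 * ε * e + 8) * a) := by linear_combination hE + b * ha2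
    have hcop : IsCoprime (f ^ 2 - 1) (f ^ 2) := ⟨-1, 1, by ring⟩
    have hd : f ^ 2 - 1 ∣ (8 * ε * e + 8) * a := hcop.dvd_of_dvd_mul_left ⟨b, by linear_combination -hE'⟩
    have hne : (8 * ε * e + 8) * a ≠ 0 := mul_ne_zero (by rcases hε with h | h <;> subst h <;> omega) ha0
    have hle := Int.le_of_dvd (abs_pos.2 hne) ((dvd_abs _ _).2 hd)
    rw [abs_mul, show |a| = 1 from Int.isUnit_iff_abs_eq.1 hau, mul_one] at hle
    rcases hε with h | h <;> subst h
    · rw [abs_of_nonneg (by linarith : (0 : ℤ) ≤ 8 * 1 * e + 8), hf] at hle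
      nlinarith
    · rw [abs_of_nonpos (by linarith : 8 * -1 * e + 8 ≤ (0 : ℤ)), hf] at hle
      nlinarith
  · have hK2 : 2 ≤ |k| := by
      have := abs_pos.2 hk0
      obtain ⟨i, hi⟩ := hke
      rcases abs_cases k with h | h <;> omega
    have hS : |b| * |k| ≤ |a| ^ 2 + |j| := by
      rw [mul_comm, ← abs_mul, hkb, sq_abs, add_comm j]
      exact (abs_add_le _ _).trans_eq (by rw [abs_of_nonneg (sq_nonneg a)])
    have hEj : b * (a + k) ^ 2 = f ^ 2 * j * ((8 * ε * e + 8) * a - b) := by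
      rw [hk]; linear_combination j * hE
    have habsE : |b| * |a + k| ^ 2 = f ^ 2 * (|j| * |(8 * ε * e + 8) * a - b|) := by
      have := congrArg abs hEj
      rw [abs_mul, abs_mul, abs_mul, abs_pow, abs_of_nonneg (sq_nonneg f)] at this
      rw [this]; ring
    have hlow : (2 * q - 6) * |a| - |b| ≤ |(8 * ε * e + 8) * a - b| := by
      refine le_trans ?_ (abs_sub_abs_le_abs_sub _ _)
      rw [abs_mul, hL, abs_mul]
      have : 2 * q - 6 ≤ |ε| * |2 * q + 6 * ε| := by
        rcases hε with h | h <;> subst h <;> rw [abs_of_nonneg (by linarith : (0 : ℤ) ≤ 2 * q + 6 * _)] <;> norm_num <;> linarith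
      nlinarith
    have hf2 : (q - 1) ^ 2 ≤ 4 * f ^ 2 := by
      rw [show 4 * f ^ 2 = (q + ε) ^ 2 by rw [← hfq]; ring]
      rcases hε with h | h <;> subst h <;> nlinarith
    rcases (show |j| = 1 ∨ 3 ≤ |j| by obtain ⟨i, hi⟩ := hj; rcases abs_cases j with h | h <;> omega) with hj1 | hj3
    · have hjm : j = -1 := by
        obtain ⟨i, hi⟩ := hke
        obtain ⟨i', hi'⟩ := hb
        obtain ⟨i'', hi''⟩ := ha
        have h4 : j = 4 * (i * i') - (4 * (i'' * i'' + i'') + 1) := by rw [hi, hi', hi''] at hkb; linear_combination -hkb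
        rcases abs_cases j with h | h <;> omega
      rw [hjm] at hkb hEj
      have hkb' : |b| * |k| = |a| ^ 2 - 1 := by
        rw [mul_comm, ← abs_mul, hkb, sq_abs, abs_of_nonneg (by nlinarith [mul_self_pos.2 ha0])]
        ring
      have hA2 : 2 ≤ |a| := by nlinarith [mul_le_mul hB2 hK2 (by norm_num) (abs_nonneg b)]
      have hsame : (0 ≤ b ∧ 0 ≤ k) ∨ (b ≤ 0 ∧ k ≤ 0) := by
        have : 0 ≤ b * k := by nlinarith [mul_self_pos.2 ha0, hkb]
        exact mul_nonneg_iff.1 this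
      have hBb : |b| ≤ q * |a| := by nlinarith [mul_le_mul_of_nonneg_left hAq (abs_nonneg a)]
      -- signs
      have hsign : 4 * (|b| * (|a| - ε * |k|) ^ 2) = (q + ε) ^ 2 * (|b| + (2 * q + 6 * ε) * |a|) := by
        rw [hL] at hEj
        have hEj' : 4 * (b * (a + k) ^ 2) = (q + ε) ^ 2 * (b - ε * (2 * q + 6 * ε) * a) := by
          rw [← hfq]; linear_combination 4 * hEj
        have hpos : 0 < b * (b - ε * (2 * q + 6 * ε) * a) := by
          have h1 : 0 ≤ b * b * (a + k) ^ 2 := mul_nonneg (mul_self_nonneg b) (sq_nonneg _)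
          have h2 : b - ε * (2 * q + 6 * ε) * a ≠ 0 := by
            intro h0
            have := congrArg abs (sub_eq_zero.1 h0)
            rw [abs_mul, abs_mul] at this
            rcases hε with h | h <;> subst h <;>
              rw [abs_of_nonneg (by linarith : (0 : ℤ) ≤ 2 * q + 6 * _)] at this <;> norm_num at this <;> nlinarith
          have h3 : 0 < (q + ε) ^ 2 := by rcases hε with h | h <;> subst h <;> nlinarith
          rcases lt_trichotomy (b * (b - ε * (2 * q + 6 * ε) * a)) 0 with h | h | h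
          · have h4 : 4 * (b * b * (a + k) ^ 2) = (q + ε) ^ 2 * (b * (b - ε * (2 * q + 6 * ε) * a)) := by
              linear_combination b * hEj'
            linarith [mul_neg_of_pos_of_neg h3 h]
          · exact absurd h (mul_ne_zero hb0 h2)
          · exact h
        have hBA : |b| < (2 * q + 6 * ε) * |a| := by
          have : q * |a| < (2 * q + 6 * ε) * |a| :=
            mul_lt_mul_of_pos_right (by rcases hε with h | h <;> subst h <;> linarith) (by linarith)
          linarith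
        have hneg : ε * a * b < 0 := by
          by_contra hcon
          rw [not_lt] at hcon
          have h5 : |a| * |b| = ε * a * b := by
            rw [← abs_mul, ← abs_of_nonneg hcon]
            rcases hε with h | h <;> subst h <;> simp [abs_mul]
          have h6 : |b| * |b| < |b| * ((2 * q + 6 * ε) * |a|) := mul_lt_mul_of_pos_left hBA (by linarith)
          rw [abs_mul_abs_self, show |b| * ((2 * q + 6 * ε) * |a|) = (2 * q + 6 * ε) * (|a| * |b|) by ring, h5] at h6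
          nlinarith
        obtain ⟨σ, hσ, hbσ, hkσ⟩ : ∃ σ : ℤ, (σ = 1 ∨ σ = -1) ∧ b = σ * |b| ∧ k = σ * |k| := by
          rcases hsame with ⟨s1, s2⟩ | ⟨s1, s2⟩
          · exact ⟨1, Or.inl rfl, by rw [abs_of_nonneg s1]; ring, by rw [abs_of_nonneg s2]; ring⟩
          · exact ⟨-1, Or.inr rfl, by rw [abs_of_nonpos s1]; ring, by rw [abs_of_nonpos s2]; ring⟩
        have haσ : a = -(ε * σ) * |a| := by
          rw [hbσ] at hneg
          rcases hε with h | h <;> subst h <;> rcases hσ with h | h <;> subst h <;>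
            rcases abs_cases a with ⟨e1, e2⟩ | ⟨e1, e2⟩ <;> rw [e1] <;> first | linarith | nlinarith
        rw [hbσ, hkσ, haσ] at hEj'
        rcases hε with h | h <;> subst h <;> rcases hσ with h | h <;> subst h <;>
          first | linear_combination hEj' | linear_combination -hEj'
      exact unit_case hε hq27 hA2 (by rcases haq with h | h <;> [left; right] <;> linarith) hε hB2 hK2
        ((dvd_abs _ _).2 (even_iff_two_dvd.1 hb)) ((dvd_abs _ _).2 (even_iff_two_dvd.1 hke)) hkb' hsign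
    · have hlt := large hA1 hAq hq27 hB2 hK2 hj3 hS hJ hf2
      have h1 : |b| * |a + k| ^ 2 ≤ |b| * (|a| + |k|) ^ 2 :=
        mul_le_mul_of_nonneg_left (pow_le_pow_left₀ (abs_nonneg _) (abs_add_le _ _) 2) (abs_nonneg _)
      have h2 : f ^ 2 * (|j| * ((2 * q - 6) * |a| - |b|)) ≤ f ^ 2 * (|j| * |(8 * ε * e + 8) * a - b|) :=
        mul_le_mul_of_nonneg_left (mul_le_mul_of_nonneg_left hlow (abs_nonneg _)) (sq_nonneg _)
      linarith

end CfsgLib.Recog.JankoThompson.Four
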