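import Cfsg.Agent.Lib.Core.TwoTimesPSL.CentralizerModel
import Cfsg.Agent.Lib.Recog.TwoTimesAlt.Setup

/-!
Owner: helper17. A centraliser of an involution isomorphic to `Z₂ × P`: the factor `P` inside the group.
-/

set_option autoImplicit false

namespace CfsgLib.Recog.JankoThompson

open Subgroup
open CfsgLib.Core.TwoTimesPSL (flag flag_cases flag_mul flag_ne)

variable {G : Type*} [Group G] {a : G} {P : Type*} [Group P]
  (e : ↥(centralizer ({a} : Set G)) ≃* Multiplicative (ZMod 2) × P)

/-- The factor `P` of the centraliser, as a subgroup of the group. -/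
def part : Subgroup G :=
  ((MonoidHom.fst (Multiplicative (ZMod 2)) P).comp e.toMonoidHom).ker.map (centralizer ({a} : Set G)).subtype

theorem part_le : part e ≤ centralizer ({a} : Set G) := map_subtype_le _

theorem mem_part {x : G} (hx : x ∈ centralizer ({a} : Set G)) : x ∈ part e ↔ (e ⟨x, hx⟩).1 = 1 := by
  refine ⟨?_, fun h => ⟨⟨x, hx⟩, h, rfl⟩⟩
  rintro ⟨y, hy, hyx⟩
  obtain rfl : y = ⟨x, hx⟩ := Subtype.ext hyx
  exact hy

/-- The factor is isomorphic to `P`. -/
noncomputable def partEquiv : part e ≃* P :=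
  MulEquiv.ofBijective
    (((MonoidHom.snd (Multiplicative (ZMod 2)) P).comp e.toMonoidHom).comp (inclusion (part_le e))) (by
    refine ⟨fun x y h => ?_, fun p => ?_⟩
    · have hx := (mem_part e (part_le e x.2)).1 x.2
      have hy := (mem_part e (part_le e y.2)).1 y.2
      have h2 : e ⟨x.1, part_le e x.2⟩ = e ⟨y.1, part_le e y.2⟩ := Prod.ext (hx.trans hy.symm) h
      have h3 := congrArg Subtype.val (e.injective h2)
      exact Subtype.ext h3
    · have hm : ((e.symm (1, p)) : G) ∈ part e := (mem_part e (e.symm (1, p)).2).2 (by simp)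
      refine ⟨⟨_, hm⟩, ?_⟩
      show (e (inclusion (part_le e) ⟨_, hm⟩)).2 = p
      rw [show inclusion (part_le e) ⟨_, hm⟩ = e.symm (1, p) from Subtype.ext rfl, e.apply_symm_apply])

theorem partEquiv_apply (x : part e) : partEquiv e x = (e ⟨x, part_le e x.2⟩).2 := rfl

theorem self_mem : a ∈ centralizer ({a} : Set G) := mem_centralizer_singleton_iff.2 rfl

/-- The involution is the generator of the factor `Z₂`. -/
theorem e_self (hP : ∀ p : P, (∀ q, p * q = q * p) → p = 1) (ha : orderOf a = 2) :
    e ⟨a, self_mem⟩ = (flag, 1) := by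
  have h2 : (e ⟨a, self_mem⟩).2 = 1 := hP _ fun p => by
    obtain ⟨x, hx⟩ := e.surjective (1, p)
    have h : (⟨a, self_mem⟩ : centralizer ({a} : Set G)) * x = x * ⟨a, self_mem⟩ :=
      Subtype.ext (mem_centralizer_singleton_iff.1 x.2).symm
    have h3 := congrArg (fun z => (e z).2) h
    simpa [hx] using h3
  refine Prod.ext ((flag_cases _).resolve_left fun h => ?_) h2
  have h3 : e ⟨a, self_mem⟩ = e 1 := (Prod.ext h h2 : e ⟨a, self_mem⟩ = 1).trans (map_one e).symm
  have h4 : a = 1 := congrArg Subtype.val (e.injective h3)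
  rw [h4, orderOf_one] at ha
  omega

variable (hP : ∀ p : P, (∀ q, p * q = q * p) → p = 1) (ha : orderOf a = 2)

include hP ha

theorem self_not_mem : a ∉ part e := fun h => by
  have h1 := (mem_part e self_mem).1 h
  rw [e_self e hP ha] at h1
  exact flag_ne h1

/-- Each element of the centraliser is in the factor, or its product with the involution is. -/
theorem cases_part {x : G} (hx : x ∈ centralizer ({a} : Set G)) : x ∈ part e ∨ a * x ∈ part e := by
  rcases flag_cases (e ⟨x, hx⟩).1 with h | h
  · exact Or.inl ((mem_part e hx).2 h)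
  · refine Or.inr ((mem_part e (mul_mem self_mem hx)).2 ?_)
    rw [show (⟨a * x, mul_mem self_mem hx⟩ : centralizer ({a} : Set G)) = ⟨a, self_mem⟩ * ⟨x, hx⟩ from rfl,
      map_mul, e_self e hP ha, Prod.fst_mul, h]
    exact flag_mul

/-- The internal direct product. -/
theorem split : CfsgLib.Recog.TwoTimesAlt.Split a (part e) := by
  have hle : zpowers a ≤ centralizer ({a} : Set G) := zpowers_le.2 self_mem
  refine ⟨ha, hle, part_le e, fun x hx y hy => ?_, ?_, le_antisymm (sup_le hle (part_le e)) fun x hx => ?_⟩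
  · obtain ⟨k, rfl⟩ := mem_zpowers_iff.1 hx
    exact (Commute.zpow_left (mem_centralizer_singleton_iff.1 (part_le e hy)).symm k).eq
  · refine (eq_bot_iff_forall _).2 fun x hx => ?_
    obtain ⟨hxz, hxp⟩ := Subgroup.mem_inf.1 hx
    obtain ⟨k, rfl⟩ := mem_zpowers_iff.1 hxz
    rcases Int.even_or_odd' k with ⟨i, rfl | rfl⟩
    · rw [zpow_mul, show a ^ (2 : ℤ) = 1 from by rw [zpow_two, ← pow_two, ← ha, pow_orderOf_eq_one], one_zpow]
    · refine absurd ?_ (self_not_mem e hP ha)
      rwa [zpow_add, zpow_mul, show a ^ (2 : ℤ) = 1 from by rw [zpow_two, ← pow_two, ← ha, pow_orderOf_eq_one],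
        one_zpow, one_mul, zpow_one] at hxp
  · rcases cases_part e hP ha hx with h | h
    · exact mem_sup_right h
    · have h2 := mul_mem (mem_sup_left (inv_mem (mem_zpowers a)) : a⁻¹ ∈ zpowers a ⊔ part e) (mem_sup_right h)
      rwa [inv_mul_cancel_left] at h2

omit hP ha in
theorem part_commute {x : G} (hx : x ∈ part e) : x * a = a * x :=
  mem_centralizer_singleton_iff.1 (part_le e hx)

/-- For perfect `P` the factor is the derived group of the centraliser. -/
theorem part_eq_commutator (hperf : commutator P = ⊤) :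
    part e = ⁅centralizer ({a} : Set G), centralizer ({a} : Set G)⁆ := by
  refine le_antisymm ?_ (split e hP ha).commutator_le
  have h : ⁅part e, part e⁆ = part e := by
    have h1 : (⊤ : Subgroup P).map ((part e).subtype.comp (partEquiv e).symm.toMonoidHom) = part e := by
      rw [← MonoidHom.range_eq_map]
      refine le_antisymm (fun x ⟨p, hp⟩ => hp ▸ ((partEquiv e).symm p).2) fun x hx => ⟨partEquiv e ⟨x, hx⟩, ?_⟩
      show ((partEquiv e).symm (partEquiv e ⟨x, hx⟩) : G) = x
      rw [MulEquiv.symm_apply_apply]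
    rw [← h1, ← map_commutator, ← commutator_def, hperf]
  exact h.ge.trans (commutator_mono (part_le e) (part_le e))

end CfsgLib.Recog.JankoThompson
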