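import Mathlib

/-!
Owner: helper22. Groups of Janko–Thompson type: the integer columns over the irreducible characters (section 2
of `notes/S0343_pencil_helper22.md`), abstractly.

`L` indexes the nontrivial characters of `R` (`inv l` the inverse, `rot l` the image under `σ`), `J` those of the
other torus; `W = μ₊ + μ₋`, `Δ = μ₊ - μ₋`, `A = φ₁ - W`, `P = ρ₁ - 2W`, `B l = ρ_l - 2W`, `C j = φ_j - W`,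
`V l = M_δ(1) - M_δ(l)` for the character `δ` of `D` trivial exactly on `t`.
-/

set_option autoImplicit false
set_option linter.all false

namespace CfsgLib.Recog.JankoThompson

/-- the data of the character argument -/
structure Cols (ι L J : Type*) [Fintype ι] [Fintype L] [Fintype J] where
  p : ℕ
  n : ℕ
  q : ℤ
  e : ℤ
  f : ℤ
  ε : ℤ
  N : ℤ
  prime_p : p.Prime
  n_pos : 0 < n
  q_eq : q = (p : ℤ) ^ n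
  hε : ε = 1 ∨ ε = -1
  he : 7 ≤ e
  hq : q = 4 * e + ε
  hf : f = 2 * e + ε
  N_pos : 0 < N
  o : ι
  deg : ι → ℤ
  τ : ι → ℤ
  W : ι → ℤ
  Δ : ι → ℤ
  A : ι → ℤ
  P : ι → ℤ
  B : L → ι → ℤ
  C : J → ι → ℤ
  V : L → ι → ℤ
  inv : L → L
  rot : L → L
  jinv : J → J
  nonempty : Nonempty L
  inv_inv : ∀ l, inv (inv l) = l
  inv_ne : ∀ l, inv l ≠ l
  jinv_jinv : ∀ j, jinv (jinv j) = j
  jinv_ne : ∀ j, jinv j ≠ j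
  rot_three : ∀ l, rot (rot (rot l)) = l
  rot_inv : ∀ l, rot (inv l) = inv (rot l)
  rot_ne : ∀ l, rot l ≠ l
  rot_ne_inv : ∀ l, rot l ≠ inv l
  B_inv : ∀ l, B (inv l) = B l
  V_inv : ∀ l, V (inv l) = V l
  C_inv : ∀ j, C (jinv j) = C j
  deg_pos : ∀ χ, 0 < deg χ
  deg_o : deg o = 1
  deg_dvd : ∀ χ, deg χ ∣ N
  deg_par : ∀ χ, 2 ∣ deg χ - τ χ
  o_W : W o = 0
  o_Δ : Δ o = 0
  o_A : A o = 1
  o_P : P o = 1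
  o_B : ∀ l, B l o = 0
  o_C : ∀ j, C j o = 0
  o_V : ∀ l, V l o = 0
  tau_R : ∀ χ, τ χ = P χ + (∑ l, B l χ) + 2 * e * W χ
  tau_T : ∀ χ, τ χ = A χ + (∑ j, C j χ) + f * W χ
  W_par : ∀ χ, 2 ∣ W χ + Δ χ
  cong : ∀ χ, e ∣ deg χ - P χ - (∑ l, B l χ) + 4 * ∑ l, V l χ
  AA : ∑ χ, A χ * A χ = 4
  PP : ∑ χ, P χ * P χ = 8
  DD : ∑ χ, Δ χ * Δ χ = 4
  AP : ∑ χ, A χ * P χ = 0
  AD : ∑ χ, A χ * Δ χ = 0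
  PD : ∑ χ, P χ * Δ χ = 0
  BB : ∀ l, ∑ χ, B l χ * B l χ = 4
  BB' : ∀ l m, m ≠ l → m ≠ inv l → ∑ χ, B l χ * B m χ = 0
  AB : ∀ l, ∑ χ, A χ * B l χ = 0
  PB : ∀ l, ∑ χ, P χ * B l χ = 0
  DB : ∀ l, ∑ χ, Δ χ * B l χ = 0
  CC : ∀ j, ∑ χ, C j χ * C j χ = 2
  CC' : ∀ i j, j ≠ i → j ≠ jinv i → ∑ χ, C i χ * C j χ = 0
  AC : ∀ j, ∑ χ, A χ * C j χ = 0
  PC : ∀ j, ∑ χ, P χ * C j χ = 0
  DC : ∀ j, ∑ χ, Δ χ * C j χ = 0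
  BC : ∀ l j, ∑ χ, B l χ * C j χ = 0
  VV : ∀ l, ∑ χ, V l χ * V l χ = 3
  VV' : ∀ l, ∑ χ, V l χ * V (rot l) χ = 2
  VA : ∀ l, ∑ χ, V l χ * A χ = 0
  VP : ∀ l, ∑ χ, V l χ * P χ = -2
  VD : ∀ l, ∑ χ, V l χ * Δ χ = 0
  VC : ∀ l j, ∑ χ, V l χ * C j χ = 0
  VB : ∀ l m, m ≠ l → m ≠ inv l → m ≠ rot l → m ≠ inv (rot l) → m ≠ rot (rot l) → m ≠ inv (rot (rot l)) →
    ∑ χ, V l χ * B m χ = 0
  B_diff : ∀ l χ, B l χ - B (rot l) χ = -(2 * (V l χ - V (rot l) χ))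
  degA : ∑ χ, A χ * deg χ = 0
  degP : ∑ χ, P χ * deg χ = 0
  degD : ∑ χ, Δ χ * deg χ = 0
  degB : ∀ l, ∑ χ, B l χ * deg χ = 0
  degC : ∀ j, ∑ χ, C j χ * deg χ = 0
  degV : ∀ l, ∑ χ, V l χ * deg χ = 0
  eqA : ∑ χ, (A χ * τ χ ^ 2 : ℚ) / deg χ = 64 * (e : ℚ) ^ 2 * f ^ 2 * q ^ 2 * (2 * f) / N
  eqP : ∑ χ, (P χ * τ χ ^ 2 : ℚ) / deg χ =
    64 * (e : ℚ) ^ 2 * f ^ 2 * q ^ 2 * (4 * e + 2 * ε * q / e) / N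
  eqD : ∑ χ, (Δ χ * τ χ ^ 2 : ℚ) / deg χ = 0
  eqB : ∀ l, ∑ χ, (B l χ * τ χ ^ 2 : ℚ) / deg χ = 64 * (e : ℚ) ^ 2 * f ^ 2 * q ^ 2 * (2 * ε * q / e) / N
  eqC : ∀ j, ∑ χ, (C j χ * τ χ ^ 2 : ℚ) / deg χ = 0
  eqV : ∀ l, ∑ χ, (V l χ * τ χ ^ 2 : ℚ) / deg χ = 0

/-- the conclusion of the character argument -/
def Cols.Conclusion {ι L J : Type*} [Fintype ι] [Fintype L] [Fintype J] (K : Cols ι L J) : Prop :=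
  K.ε = -1 ∧ (∃ m : ℕ, 1 ≤ m ∧ K.p ^ K.n = 3 ^ (2 * m + 1)) ∧ K.N = K.q ^ 3 * (K.q ^ 3 + 1) * (K.q - 1)

end CfsgLib.Recog.JankoThompson
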