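import Cfsg.Agent.Lib.Recog.JankoThompson.CharsEq
import Cfsg.Agent.Lib.Recog.JankoThompson.ColsDef
import Cfsg.Agent.Lib.Char.Central

/-!
# Section 2: the integer columns of a group of Janko–Thompson type
-/

set_option autoImplicit false

namespace CfsgLib.Recog.JankoThompson

open Subgroup CfsgLib.Char
open scoped ComplexConjugate

universe u v

theorem rotHom_ne {A : Type*} [CommGroup A] [Finite A] (s : A ≃* A) (hfix : ∀ a, s a = a → a = 1)
    {l : A →* ℂˣ} (hl : l ≠ 1) : rotHom s l ≠ l := by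
  intro h
  refine hl (MonoidHom.ext fun a => ?_)
  have hinj : Function.Injective fun a => s a * a⁻¹ := by
    intro x y e
    have e' : s (x * y⁻¹) = x * y⁻¹ := by
      rw [map_mul, map_inv, mul_inv_eq_iff_eq_mul.1 (show s x * x⁻¹ = s y * y⁻¹ from e),
        mul_assoc (s y), mul_comm (s y), mul_inv_cancel_right, mul_comm]
    exact mul_inv_eq_one.1 (hfix _ e')
  obtain ⟨b, rfl⟩ := Finite.injective_iff_surjective.1 hinj a
  rw [map_mul, map_inv, show l (s b) = l b from DFunLike.congr_fun h b, mul_inv_cancel]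
  rfl

variable {G : Type u} [Group G] {Fq : Type v} [Field Fq] [Fintype Fq]

namespace Ctx

variable (c : Ctx G Fq) {p : ℕ} (T : Tori Fq c.w p c.e c.f)

theorem colQ_rot [Fintype T.R] [Fintype G] {s : T.R ≃* T.R} (hs : c.IsTwist T s)
    (χ : Cfsg.IrrCharacter G) (l : T.R →* ℂˣ) : c.colQ T χ (rotHom s l) = c.colQ T χ l :=
  Fintype.sum_equiv s.toEquiv _ _ fun r => by
    have h : (χ : G → ℂ) (c.ι (s r : P2 Fq)) = (χ : G → ℂ) (c.ι r) :=
      (CharDegree.apply_eq_of_isConj χ (isConj_iff.2 ⟨c.σ, (hs r).symm⟩)).symm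
    simp only [MulEquiv.toEquiv_eq_coe, MulEquiv.coe_toEquiv, rotHom_apply, h]

variable [Fintype G] [Fintype (Cfsg.IrrCharacter G)]

/-- section 2 of the note, with the meaning of the columns used later -/
theorem exists_cols_strong [Fintype T.R] [Fintype T.T] [Fintype {j : T.T →* ℂˣ // j ≠ 1}] {I : G → ℕ}
    (hI : c.PairVals T I)
    (hS : ∀ z, c.weight (fun χ => (χ : G → ℂ) z) = ((8 * c.e * c.f * c.q : ℕ) : ℂ) ^ 2 * I z) :
    ∃ (L : Type v) (_ : Fintype L) (K : Cols (Cfsg.IrrCharacter G) L {j : T.T →* ℂˣ // j ≠ 1}),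
      K.q = Fintype.card Fq ∧ K.N = Nat.card G ∧ K.e = c.e ∧ K.f = c.f ∧ K.ε = c.ε ∧ K.o = trivChar G ∧
      (∀ χ : Cfsg.IrrCharacter G, (K.τ χ : ℂ) = (χ : G → ℂ) c.t ∧ (K.deg χ : ℂ) = (χ : G → ℂ) 1 ∧
        (K.W χ : ℂ) = c.colW T χ ∧ (K.A χ : ℂ) = c.colA T χ 1 ∧ ∀ j, (K.C j χ : ℂ) = c.colA T χ j.1) ∧
      ∀ j, (K.jinv j).1 = j.1⁻¹ := by
  classical
  haveI := T.R_cyclic
  haveI := T.T_cyclic
  haveI hfR : Finite (T.R →* ℂˣ) := by
    letI := IsCyclic.commGroup (α := T.R)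
    exact finite_dual T.R
  haveI hfT : Finite (T.T →* ℂˣ) := by
    letI := IsCyclic.commGroup (α := T.T)
    exact finite_dual T.T
  letI : Fintype (T.R →* ℂˣ) := Fintype.ofFinite _
  letI : Fintype (T.T →* ℂˣ) := Fintype.ofFinite _
  obtain ⟨s, hs⟩ := c.exists_isTwist T
  obtain ⟨D, hD, hab⟩ := c.exists_gauss T
  choose a b haW haD using hab
  choose d hd0 hd using fun χ : Cfsg.IrrCharacter G => IsIrr.exists_degree χ.2
  choose τz hτ using c.exists_int_t (G := G)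
  choose zB hzB using c.exists_int_colB T
  choose zA hzA using c.exists_int_colA T
  choose zV hzV using c.exists_int_colV T hs
  let Wz : Cfsg.IrrCharacter G → ℤ := fun χ => a χ + b χ
  let Dz : Cfsg.IrrCharacter G → ℤ := fun χ => a χ - b χ
  let Bz : (T.R →* ℂˣ) → Cfsg.IrrCharacter G → ℤ := fun l χ => zB χ l - 2 * Wz χ
  let Az : (T.T →* ℂˣ) → Cfsg.IrrCharacter G → ℤ := fun j χ => zA χ j - Wz χ
  let Vz : (T.R →* ℂˣ) → Cfsg.IrrCharacter G → ℤ := fun l χ => zV χ l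
  have hW : ∀ χ, (Wz χ : ℂ) = c.colW T χ := fun χ => by rw [← haW χ]; simp [Wz]
  have hDz : ∀ χ, (Dz χ : ℂ) = c.colD T χ D := fun χ => by rw [← haD χ]; simp [Dz]
  have hB : ∀ l χ, (Bz l χ : ℂ) = c.colB T χ l := fun l χ => by
    simp only [Bz, Int.cast_sub, Int.cast_mul, Int.cast_ofNat, hzB, hW]; ring
  have hA : ∀ j χ, (Az j χ : ℂ) = c.colA T χ j := fun j χ => by
    simp only [Az, Int.cast_sub, hzA, hW]; ring
  have hV : ∀ l χ, (Vz l χ : ℂ) = c.colV T χ s l := fun l χ => hzV χ l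
  let Qz : (T.R →* ℂˣ) → Cfsg.IrrCharacter G → ℤ := fun l χ =>
    4 * Vz l χ + Bz 1 χ + Bz l χ - Bz (rotHom s l) χ - Bz (rotHom s (rotHom s l)) χ
  have hQ : ∀ l χ, (Qz l χ : ℂ) = c.colQ T χ l := fun l χ => by
    simp only [Qz, Int.cast_sub, Int.cast_add, Int.cast_mul, Int.cast_ofNat, hB, hV, colV]; ring
  -- transfer of sums
  have hinn : ∀ (x y : Cfsg.IrrCharacter G → ℤ) (X Y : Cfsg.IrrCharacter G → ℂ) (n : ℤ),
      (∀ χ, (x χ : ℂ) = X χ) → (∀ χ, (y χ : ℂ) = Y χ) → ∑ χ, X χ * conj (Y χ) = (n : ℂ) →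
        ∑ χ, x χ * y χ = n := by
    intro x y X Y n hx hy h
    have h' : ((∑ χ, x χ * y χ : ℤ) : ℂ) = (n : ℂ) := by
      rw [← h, Int.cast_sum]
      exact Finset.sum_congr rfl fun χ _ => by rw [← hx, ← hy, map_intCast, Int.cast_mul]
    exact_mod_cast h'
  have hdeg : ∀ (x : Cfsg.IrrCharacter G → ℤ) (X : Cfsg.IrrCharacter G → ℂ),
      (∀ χ, (x χ : ℂ) = X χ) → ∑ χ : Cfsg.IrrCharacter G, (χ : G → ℂ) 1 * X χ = 0 → ∑ χ, x χ * (d χ : ℤ) = 0 := by
    intro x X hx h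
    have h' : ((∑ χ, x χ * (d χ : ℤ) : ℤ) : ℂ) = 0 := by
      rw [← h, Int.cast_sum]
      exact Finset.sum_congr rfl fun χ _ => by rw [← hx, hd, Int.cast_mul, Int.cast_natCast, mul_comm]
    exact_mod_cast h'
  have hN : (Nat.card G : ℚ) ≠ 0 := Nat.cast_ne_zero.2 Nat.card_pos.ne'
  have hwt : ∀ (x : Cfsg.IrrCharacter G → ℤ) (X : Cfsg.IrrCharacter G → ℂ) (r : ℚ),
      (∀ χ, (x χ : ℂ) = X χ) → c.weight X = ((8 * c.e * c.f * c.q : ℕ) : ℂ) ^ 2 * (r : ℂ) →
      ∑ χ, (x χ * τz χ ^ 2 : ℚ) / ((d χ : ℤ) : ℚ) =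
        64 * ((c.e : ℤ) : ℚ) ^ 2 * ((c.f : ℤ) : ℚ) ^ 2 * ((c.q : ℤ) : ℚ) ^ 2 * r / ((Nat.card G : ℤ) : ℚ) := by
    intro x X r hx h
    have h' : (((Nat.card G : ℚ) * ∑ χ, (x χ * τz χ ^ 2 : ℚ) / (d χ : ℚ) : ℚ) : ℂ) =
        (((8 * c.e * c.f * c.q : ℕ) : ℚ) ^ 2 * r : ℚ) := by
      push_cast at h ⊢
      rw [← h, weight]
      congr 1
      exact Finset.sum_congr rfl fun χ _ => by rw [← hx, hd, hτ]; ring
    have h'' := Rat.cast_injective h'
    push_cast at h'' ⊢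
    rw [eq_div_iff hN]
    linear_combination h''
  -- facts on the index sets
  have hoR : Odd (Nat.card T.R) := c.odd_card_R T
  have hoT : Odd (Nat.card T.T) := by rw [T.card_T]; exact c.f_odd
  have rot_one : ∀ l : T.R →* ℂˣ, l ≠ 1 → rotHom s l ≠ 1 := fun l hl h => hl (MonoidHom.ext fun x => by
    obtain ⟨y, rfl⟩ := s.surjective x
    exact DFunLike.congr_fun h y)
  have inv_one' : ∀ {A : Type v} [Group A] (l : A →* ℂˣ), l ≠ 1 → l⁻¹ ≠ 1 := fun l hl h =>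
    hl (MonoidHom.ext fun x => inv_eq_one.1 (DFunLike.congr_fun h x))
  have hii : ∀ {A : Type v} [Group A] (l : A →* ℂˣ), l⁻¹⁻¹ = l := fun l =>
    MonoidHom.ext fun x => inv_inv (l x)
  have hflip : ∀ {A : Type v} [Group A] {l m : A →* ℂˣ}, l = m⁻¹ → m = l⁻¹ := fun {A} _ {l m} h => by
    rw [h, hii]
  have h1inv : ∀ (A : Type v) [Group A], (1 : A →* ℂˣ)⁻¹ = 1 := fun A _ => MonoidHom.ext fun _ => inv_one
  have r3 : ∀ l : T.R →* ℂˣ, rotHom s (rotHom s (rotHom s l)) = l := fun l =>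
    MonoidHom.ext fun x => by simp only [rotHom_apply, c.twist_three T hs]
  have rne : ∀ l : T.R →* ℂˣ, l ≠ 1 → rotHom s l ≠ l := fun l hl => by
    letI := IsCyclic.commGroup (α := T.R)
    exact rotHom_ne s (fun a ha => c.twist_fixed T hs ha) hl
  have rni : ∀ l : T.R →* ℂˣ, l ≠ 1 → rotHom s l ≠ l⁻¹ := fun l hl h => by
    have h2 : rotHom s (rotHom s l) = l := by rw [h, c.rotHom_inv T, h, hii]
    have h3 := r3 l
    rw [h2] at h3
    exact rne l hl h3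
  have ine : ∀ l : T.R →* ℂˣ, l ≠ 1 → l⁻¹ ≠ l := fun l hl => hom_inv_ne hoR hl
  have B_inv : ∀ l χ, Bz l⁻¹ χ = Bz l χ := fun l χ => by
    apply @Int.cast_injective ℂ
    rw [hB, hB, c.colB_inv T]
  -- inner products
  have BBv : ∀ l m, ∑ χ, Bz l χ * Bz m χ = 4 * ((if l = m then 1 else 0) + if l = m⁻¹ then 1 else 0) :=
    fun l m => hinn _ _ _ _ _ (hB l) (hB m) (by
      rw [c.inner_BB T]
      push_cast; split_ifs <;> simp)
  have AAv : ∀ l m, ∑ χ, Az l χ * Az m χ = 2 * ((if l = m then 1 else 0) + if l = m⁻¹ then 1 else 0) :=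
    fun l m => hinn _ _ _ _ _ (hA l) (hA m) (by
      rw [c.inner_AA T]
      push_cast; split_ifs <;> simp)
  have ABv : ∀ j l, ∑ χ, Az j χ * Bz l χ = 0 := fun j l => hinn _ _ _ _ _ (hA j) (hB l) (by
    rw [c.inner_AB T]; simp)
  have BDv : ∀ l, ∑ χ, Bz l χ * Dz χ = 0 := fun l => hinn _ _ _ _ _ (hB l) hDz (by
    rw [c.inner_BD T]; simp)
  have ADv : ∀ j, ∑ χ, Az j χ * Dz χ = 0 := fun j => hinn _ _ _ _ _ (hA j) hDz (by
    rw [c.inner_AD T]; simp)
  have DDv : ∑ χ, Dz χ * Dz χ = 4 := hinn _ _ _ _ _ hDz hDz (by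
    rw [c.inner_DD T hD]; simp)
  have QBv : ∀ l m, ∑ χ, Qz l χ * Bz m χ = 0 := fun l m => hinn _ _ _ _ _ (hQ l) (hB m) (by
    rw [c.inner_QB T]; simp)
  have BQv : ∀ l m, ∑ χ, Bz m χ * Qz l χ = 0 := fun l m => by
    rw [← QBv l m]; exact Finset.sum_congr rfl fun χ _ => mul_comm _ _
  have QAv : ∀ l j, ∑ χ, Qz l χ * Az j χ = 0 := fun l j => hinn _ _ _ _ _ (hQ l) (hA j) (by
    rw [c.inner_QA T]; simp)
  have QDv : ∀ l, ∑ χ, Qz l χ * Dz χ = 0 := fun l => hinn _ _ _ _ _ (hQ l) hDz (by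
    rw [c.inner_QD T]; simp)
  have BAv : ∀ j l, ∑ χ, Bz l χ * Az j χ = 0 := fun j l => by
    rw [← ABv j l]; exact Finset.sum_congr rfl fun χ _ => mul_comm _ _
  have Bo : ∀ x y : T.R →* ℂˣ, x ≠ y → x ≠ y⁻¹ → ∑ χ, Bz x χ * Bz y χ = 0 := fun x y h1 h2 => by
    rw [BBv, if_neg h1, if_neg h2]; norm_num
  have Bs : ∀ x : T.R →* ℂˣ, x ≠ 1 → ∑ χ, Bz x χ * Bz x χ = 4 := fun x hx => by
    rw [BBv, if_pos rfl, if_neg (ine _ hx).symm]; norm_num
  have P1 : ∑ χ, Bz 1 χ * Bz 1 χ = 8 := by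
    rw [BBv, if_pos rfl, if_pos (h1inv _).symm]; norm_num
  have PBl : ∀ x : T.R →* ℂˣ, x ≠ 1 → (∑ χ, Bz 1 χ * Bz x χ = 0) ∧ ∑ χ, Bz x χ * Bz 1 χ = 0 := fun x hx =>
    ⟨Bo _ _ hx.symm fun h => inv_one' _ hx h.symm, Bo _ _ hx fun h => hx (h.trans (h1inv _))⟩
  have orb : ∀ x : T.R →* ℂˣ, x ≠ 1 → (∑ χ, Bz x χ * Bz (rotHom s x) χ = 0) ∧
      ∑ χ, Bz (rotHom s x) χ * Bz x χ = 0 := fun x hx =>
    ⟨Bo _ _ (rne _ hx).symm (fun h => rni _ hx (hflip h)), Bo _ _ (rne _ hx) (rni _ hx)⟩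
  have Qr : ∀ l χ, Qz (rotHom s l) χ = Qz l χ := fun l χ => by
    apply @Int.cast_injective ℂ
    rw [hQ, hQ, c.colQ_rot T hs]
  have hQQ : ∀ l : T.R →* ℂˣ, l ≠ 1 → ∑ χ, Qz l χ * Qz l χ = 28 := fun l hl =>
    hinn _ _ _ _ _ (hQ l) (hQ l) (by
      have n1 := rne _ hl
      have n2 := rni _ hl
      have n3 : rotHom s (rotHom s l) ≠ l := fun h => n1 (by
        have h3 := r3 l; rw [h] at h3; exact h3)
      have n4 : rotHom s (rotHom s l) ≠ l⁻¹ := fun h => n2 (by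
        have h3 := r3 l
        rw [h, c.rotHom_inv T] at h3
        exact hflip h3.symm ▸ rfl)
      rw [c.inner_QQ T hs hl hl, if_pos rfl, if_neg (ine _ hl).symm, if_neg n1.symm,
        if_neg fun h => n2 (hflip h), if_neg n3.symm, if_neg fun h => n4 (hflip h)]
      norm_num)
  have four_V : ∀ l χ,
      4 * Vz l χ = Qz l χ - Bz 1 χ - Bz l χ + Bz (rotHom s l) χ + Bz (rotHom s (rotHom s l)) χ :=
    fun l χ => by simp only [Qz]; ring
  have V_dot : ∀ (l : T.R →* ℂˣ) (x : Cfsg.IrrCharacter G → ℤ),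
      4 * ∑ χ, Vz l χ * x χ = ∑ χ, Qz l χ * x χ - ∑ χ, Bz 1 χ * x χ - ∑ χ, Bz l χ * x χ +
        ∑ χ, Bz (rotHom s l) χ * x χ + ∑ χ, Bz (rotHom s (rotHom s l)) χ * x χ := by
    intro l x
    simp only [Finset.mul_sum, ← Finset.sum_sub_distrib, ← Finset.sum_add_distrib]
    exact Finset.sum_congr rfl fun χ _ => by rw [← mul_assoc, four_V]; ring
  -- the trivial character
  have htriv := fun (l : T.R →* ℂˣ) (j : T.T →* ℂˣ) => c.cols_triv T (G := G) l j D
  have oW : Wz (trivChar G) = 0 := by exact_mod_cast (hW _).trans (htriv 1 1).1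
  have oD : Dz (trivChar G) = 0 := by exact_mod_cast (hDz _).trans (htriv 1 1).2.1
  have oB : ∀ l, Bz l (trivChar G) = if l = 1 then 1 else 0 := fun l => by
    apply @Int.cast_injective ℂ
    rw [hB, (htriv l 1).2.2.1]; split_ifs <;> simp
  have oA : ∀ j, Az j (trivChar G) = if j = 1 then 1 else 0 := fun j => by
    apply @Int.cast_injective ℂ
    rw [hA, (htriv 1 j).2.2.2.1]; split_ifs <;> simp
  have oQ : ∀ l : T.R →* ℂˣ, l ≠ 1 → Qz l (trivChar G) = 1 := fun l hl => by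
    apply @Int.cast_injective ℂ
    rw [hQ, (htriv l 1).2.2.2.2, if_neg hl]; simp
  obtain ⟨n, hn, hqn⟩ := T.card_field
  have hnon : Nonempty {l : T.R →* ℂˣ // l ≠ 1} := by
    letI := IsCyclic.commGroup (α := T.R)
    obtain ⟨r, hr⟩ : ∃ r : T.R, r ≠ 1 := by
      by_contra h
      push Not at h
      exact c.e_ne_one (T.card_R ▸ Nat.card_eq_one_iff_exists.2 ⟨1, h⟩)
    obtain ⟨l, hl⟩ := exists_hom_ne hr
    exact ⟨⟨l, fun h => hl (by rw [h]; rfl)⟩⟩
  have sub_sum : ∀ f : (T.R →* ℂˣ) → ℤ, ∑ l : {l : T.R →* ℂˣ // l ≠ 1}, f l = ∑ l, f l - f 1 := fun f => by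
    rw [← Finset.sum_erase_eq_sub (Finset.mem_univ 1)]
    exact (Finset.sum_subtype _ (by simp) f).symm
  have sub_sum' : ∀ f : (T.T →* ℂˣ) → ℤ, ∑ l : {l : T.T →* ℂˣ // l ≠ 1}, f l = ∑ l, f l - f 1 := fun f => by
    rw [← Finset.sum_erase_eq_sub (Finset.mem_univ 1)]
    exact (Finset.sum_subtype _ (by simp) f).symm
  have hcong : ∀ χ, (c.e : ℤ) ∣ (d χ : ℤ) - Bz 1 χ - (∑ l : {l : T.R →* ℂˣ // l ≠ 1}, Bz l χ) +
      4 * ∑ l : {l : T.R →* ℂˣ // l ≠ 1}, Vz l χ := by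
    intro χ
    obtain ⟨z, hz⟩ := c.exists_nat_R T χ
    refine ⟨(z : ℤ) - Bz 1 χ, ?_⟩
    rw [sub_sum fun l => Bz l χ, sub_sum fun l => Vz l χ]
    have hone : rotHom s (1 : T.R →* ℂˣ) = 1 := MonoidHom.ext fun _ => rfl
    let e : (T.R →* ℂˣ) ≃ (T.R →* ℂˣ) :=
      ⟨rotHom s, fun l => rotHom s (rotHom s l), r3, r3⟩
    have hcard : (Fintype.card (T.R →* ℂˣ) : ℤ) = c.e := by
      letI := IsCyclic.commGroup (α := T.R)
      rw [← Nat.card_eq_fintype_card, card_dual T.R, T.card_R]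
    have hV1 : Vz 1 χ = 0 := by
      have h := four_V 1 χ
      rw [hone, hone] at h
      have hQ1 : Qz 1 χ = 0 := by
        apply @Int.cast_injective ℂ
        rw [hQ]; simp [colQ, pure]
      rw [hQ1] at h
      linarith
    have hsumV : 4 * ∑ l, Vz l χ = ∑ l, Qz l χ - (c.e : ℤ) * Bz 1 χ + ∑ l, Bz l χ := by
      rw [Finset.mul_sum]
      simp only [four_V, Finset.sum_add_distrib, Finset.sum_sub_distrib, Finset.sum_const, Finset.card_univ,
        nsmul_eq_mul, hcard]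
      rw [show ∑ l, Bz (rotHom s l) χ = ∑ l, Bz l χ from e.sum_comp fun l => Bz l χ,
        show ∑ l, Bz (rotHom s (rotHom s l)) χ = ∑ l, Bz l χ from (e.trans e).sum_comp fun l => Bz l χ]
      ring
    rw [hV1, sub_zero, hsumV]
    apply @Int.cast_injective ℂ
    push_cast
    simp only [hQ, hB]
    rw [c.sum_colQ T χ, hz, hd]
    ring
  have htauR : ∀ χ, τz χ = Bz 1 χ + (∑ l : {l : T.R →* ℂˣ // l ≠ 1}, Bz l χ) + 2 * (c.e : ℤ) * Wz χ := by
    intro χ
    rw [sub_sum fun l => Bz l χ]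
    apply @Int.cast_injective ℂ
    push_cast
    simp only [hB, hW, ← hτ, c.sum_colB T χ]
    ring
  have htauT : ∀ χ, τz χ = Az 1 χ + (∑ l : {l : T.T →* ℂˣ // l ≠ 1}, Az l χ) + (c.f : ℤ) * Wz χ := by
    intro χ
    rw [sub_sum' fun l => Az l χ]
    apply @Int.cast_injective ℂ
    push_cast
    simp only [hA, hW, ← hτ, c.sum_colA T χ]
    ring
  refine ⟨{l : T.R →* ℂˣ // l ≠ 1}, inferInstance, {
    p := p
    n := n
    q := (c.q : ℤ)
    e := (c.e : ℤ)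
    f := (c.f : ℤ)
    ε := c.ε
    N := (Nat.card G : ℤ)
    prime_p := T.prime_p
    n_pos := hn
    q_eq := by show ((Fintype.card Fq : ℕ) : ℤ) = _; rw [hqn]; push_cast; rfl
    hε := c.ε_cases
    he := by exact_mod_cast c.seven_le_e T
    hq := c.q_int
    hf := c.f_int
    N_pos := Nat.cast_pos.2 Nat.card_pos
    o := trivChar G
    deg := fun χ => (d χ : ℤ)
    τ := τz
    W := Wz
    Δ := Dz
    A := Az 1
    P := Bz 1
    B := fun l => Bz l
    C := fun j => Az j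
    V := fun l => Vz l
    inv := fun l => ⟨l.1⁻¹, inv_one' _ l.2⟩
    rot := fun l => ⟨rotHom s l.1, rot_one _ l.2⟩
    jinv := fun j => ⟨j.1⁻¹, inv_one' _ j.2⟩
    nonempty := hnon
    inv_inv := fun l => Subtype.ext (hii _)
    inv_ne := fun l h => ine _ l.2 (congrArg Subtype.val h)
    jinv_jinv := fun j => Subtype.ext (hii _)
    jinv_ne := fun j h => hom_inv_ne hoT j.2 (congrArg Subtype.val h)
    rot_three := fun l => Subtype.ext (r3 _)
    rot_inv := fun l => Subtype.ext (c.rotHom_inv T _)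
    rot_ne := fun l h => rne _ l.2 (congrArg Subtype.val h)
    rot_ne_inv := fun l h => rni _ l.2 (congrArg Subtype.val h)
    B_inv := fun l => funext fun χ => B_inv _ χ
    V_inv := fun l => funext fun χ => by
      apply @Int.cast_injective ℂ
      show (Vz l.1⁻¹ χ : ℂ) = (Vz l.1 χ : ℂ)
      rw [hV, hV, c.colV_inv T]
    C_inv := fun j => funext fun χ => by
      apply @Int.cast_injective ℂ
      show (Az j.1⁻¹ χ : ℂ) = (Az j.1 χ : ℂ)
      rw [hA, hA, c.colA_inv T]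
    deg_pos := fun χ => Nat.cast_pos.2 (hd0 χ)
    deg_o := by
      have h := hd (trivChar G)
      rw [trivChar_apply] at h
      exact_mod_cast h.symm
    deg_dvd := fun χ => by
      obtain ⟨m, ρ, hρ, he⟩ := χ.2
      have h1 := hd χ
      rw [← he, Representation.char_one] at h1
      have h2 : Module.finrank ℂ (Fin m → ℂ) = d χ := by exact_mod_cast h1
      exact Int.natCast_dvd_natCast.2 (h2 ▸ CharIntegral.finrank_dvd_card ρ)
    deg_par := fun χ => by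
      obtain ⟨m, hm⟩ := c.exists_deg_par χ
      refine ⟨(m : ℤ), ?_⟩
      apply @Int.cast_injective ℂ
      push_cast
      rw [← hτ, ← hd, hm]
    o_W := oW
    o_Δ := oD
    o_A := by rw [oA, if_pos rfl]
    o_P := by rw [oB, if_pos rfl]
    o_B := fun l => by rw [oB, if_neg l.2]
    o_C := fun j => by rw [oA, if_neg j.2]
    o_V := fun l => by
      have h := four_V l.1 (trivChar G)
      rw [oQ _ l.2, oB, oB, oB, oB, if_pos rfl, if_neg l.2, if_neg (rot_one _ l.2),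
        if_neg (rot_one _ (rot_one _ l.2))] at h
      show Vz l.1 (trivChar G) = 0
      linarith
    tau_R := htauR
    tau_T := htauT
    W_par := fun χ => ⟨a χ, by simp only [Wz, Dz]; ring⟩
    cong := hcong
    AA := by rw [AAv, if_pos rfl, if_pos (h1inv _).symm]; norm_num
    PP := by rw [BBv, if_pos rfl, if_pos (h1inv _).symm]; norm_num
    DD := DDv
    AP := ABv _ _
    AD := ADv _
    PD := BDv _
    BB := fun l => by rw [BBv, if_pos rfl, if_neg (ine _ l.2).symm]; norm_num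
    BB' := fun l m h1 h2 => by
      rw [BBv, if_neg fun h => h1 (Subtype.ext h.symm),
        if_neg fun h => h2 (Subtype.ext (hflip h))]
      norm_num
    AB := fun l => ABv _ _
    PB := fun l => by
      rw [BBv, if_neg (Ne.symm l.2), if_neg fun h => inv_one' _ l.2 h.symm]
      norm_num
    DB := fun l => by
      rw [← BDv l.1]; exact Finset.sum_congr rfl fun χ _ => mul_comm _ _
    CC := fun j => by rw [AAv, if_pos rfl, if_neg (hom_inv_ne hoT j.2).symm]; norm_num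
    CC' := fun i j h1 h2 => by
      rw [AAv, if_neg fun h => h1 (Subtype.ext h.symm),
        if_neg fun h => h2 (Subtype.ext (hflip h))]
      norm_num
    AC := fun j => by
      rw [AAv, if_neg (Ne.symm j.2), if_neg fun h => inv_one' _ j.2 h.symm]
      norm_num
    PC := fun j => BAv _ _
    DC := fun j => by
      rw [← ADv j.1]; exact Finset.sum_congr rfl fun χ _ => mul_comm _ _
    BC := fun l j => BAv _ _
    VV := ?_
    VV' := ?_
    VA := fun l => by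
      have h := V_dot l.1 (Az 1)
      rw [QAv, BAv, BAv, BAv, BAv] at h
      linarith
    VP := ?_
    VD := fun l => by
      have h := V_dot l.1 Dz
      rw [QDv, BDv, BDv, BDv, BDv] at h
      linarith
    VC := fun l j => by
      have h := V_dot l.1 (Az j.1)
      rw [QAv, BAv, BAv, BAv, BAv] at h
      linarith
    VB := ?_
    B_diff := fun l χ => ?_
    degA := hdeg _ _ (hA 1) (c.degree_colA T 1)
    degP := hdeg _ _ (hB 1) (c.degree_colB T 1)
    degD := hdeg _ _ hDz (c.degree_colD T D)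
    degB := fun l => hdeg _ _ (hB l.1) (c.degree_colB T _)
    degC := fun j => hdeg _ _ (hA j.1) (c.degree_colA T _)
    degV := fun l => ?_
    eqA := ?_
    eqP := ?_
    eqD := ?_
    eqB := fun l => ?_
    eqC := fun j => ?_
    eqV := fun l => ?_ }, rfl, rfl, rfl, rfl, rfl, rfl,
    fun χ => ⟨(hτ χ).symm, (Int.cast_natCast (d χ)).trans (hd χ).symm, hW χ, hA 1 χ, fun j => hA j.1 χ⟩, fun _ => rfl⟩
  · -- VV
    rintro ⟨l, hl⟩
    show ∑ χ, Vz l χ * Vz l χ = 3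
    obtain ⟨o1, o2⟩ := orb _ hl
    obtain ⟨o3, o4⟩ := orb _ (rot_one _ hl)
    obtain ⟨o5, o6⟩ := orb _ (rot_one _ (rot_one _ hl))
    rw [r3] at o5 o6
    have h : ∑ χ, (4 * Vz l χ) * (4 * Vz l χ) = 48 := by
      simp only [four_V, sub_mul, mul_sub, add_mul, mul_add, Finset.sum_add_distrib, Finset.sum_sub_distrib,
        hQQ l hl, QBv, BQv, P1, PBl l hl, PBl _ (rot_one _ hl), PBl _ (rot_one _ (rot_one _ hl)),
        Bs l hl, Bs _ (rot_one _ hl), Bs _ (rot_one _ (rot_one _ hl)), o1, o2, o3, o4, o5, o6]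
      norm_num
    rw [show ∑ χ, (4 * Vz l χ) * (4 * Vz l χ) = 16 * ∑ χ, Vz l χ * Vz l χ by
      rw [Finset.mul_sum]; exact Finset.sum_congr rfl fun χ _ => by ring] at h
    linarith
  · -- VV'
    rintro ⟨l, hl⟩
    show ∑ χ, Vz l χ * Vz (rotHom s l) χ = 2
    obtain ⟨o1, o2⟩ := orb _ hl
    obtain ⟨o3, o4⟩ := orb _ (rot_one _ hl)
    obtain ⟨o5, o6⟩ := orb _ (rot_one _ (rot_one _ hl))
    rw [r3] at o5 o6
    have h : ∑ χ, (4 * Vz l χ) * (4 * Vz (rotHom s l) χ) = 32 := by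
      simp only [four_V, Qr, r3, sub_mul, mul_sub, add_mul, mul_add, Finset.sum_add_distrib,
        Finset.sum_sub_distrib, hQQ l hl, QBv, BQv, P1, PBl l hl, PBl _ (rot_one _ hl),
        PBl _ (rot_one _ (rot_one _ hl)), Bs l hl, Bs _ (rot_one _ hl), Bs _ (rot_one _ (rot_one _ hl)),
        o1, o2, o3, o4, o5, o6]
      norm_num
    rw [show ∑ χ, (4 * Vz l χ) * (4 * Vz (rotHom s l) χ) = 16 * ∑ χ, Vz l χ * Vz (rotHom s l) χ by
      rw [Finset.mul_sum]; exact Finset.sum_congr rfl fun χ _ => by ring] at h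
    linarith
  · -- VP
    intro l
    show ∑ χ, Vz l.1 χ * Bz 1 χ = -2
    have h := V_dot l.1 (Bz 1)
    rw [QBv, P1, (PBl _ l.2).2, (PBl _ (rot_one _ l.2)).2, (PBl _ (rot_one _ (rot_one _ l.2))).2] at h
    linarith
  · -- VB
    rintro l m h1 h2 h3 h4 h5 h6
    show ∑ χ, Vz l.1 χ * Bz m.1 χ = 0
    have h := V_dot l.1 (Bz m.1)
    rw [QBv, (PBl _ m.2).1, Bo _ _ (fun e => h1 (Subtype.ext e.symm)) (fun e => h2 (Subtype.ext (hflip e))),
      Bo _ _ (fun e => h3 (Subtype.ext e.symm)) (fun e => h4 (Subtype.ext (hflip e))),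
      Bo _ _ (fun e => h5 (Subtype.ext e.symm)) (fun e => h6 (Subtype.ext (hflip e)))] at h
    linarith
  · -- B_diff
    show Bz l.1 χ - Bz (rotHom s l.1) χ = -(2 * (Vz l.1 χ - Vz (rotHom s l.1) χ))
    have h1 := four_V l.1 χ
    have h2 := four_V (rotHom s l.1) χ
    rw [Qr, r3] at h2
    linarith
  · -- degV
    show ∑ χ, Vz l.1 χ * (d χ : ℤ) = 0
    have h := V_dot l.1 fun χ => (d χ : ℤ)
    rw [hdeg _ _ (hQ l.1) (c.degree_colQ T _), hdeg _ _ (hB _) (c.degree_colB T _),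
      hdeg _ _ (hB _) (c.degree_colB T _), hdeg _ _ (hB _) (c.degree_colB T _),
      hdeg _ _ (hB _) (c.degree_colB T _)] at h
    linarith
  · -- eqA
    refine hwt _ _ (2 * ((c.f : ℤ) : ℚ)) (hA 1) ?_
    rw [c.weight_colA hI hS, if_pos rfl]
    push_cast; ring
  · -- eqP
    refine hwt _ _ (4 * ((c.e : ℤ) : ℚ) + 2 * (c.ε : ℚ) * ((c.q : ℤ) : ℚ) / ((c.e : ℤ) : ℚ)) (hB 1) ?_
    rw [c.weight_colB hI hS, if_pos rfl]
    push_cast; ring
  · -- eqD
    refine (hwt _ _ 0 hDz ?_).trans (by ring)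
    rw [c.weight_colD hI hS]; simp
  · -- eqB
    refine hwt _ _ (2 * (c.ε : ℚ) * ((c.q : ℤ) : ℚ) / ((c.e : ℤ) : ℚ)) (hB l.1) ?_
    rw [c.weight_colB hI hS, if_neg l.2]
    push_cast; ring
  · -- eqC
    refine (hwt _ _ 0 (hA j.1) ?_).trans (by ring)
    rw [c.weight_colA hI hS, if_neg j.2]; simp
  · -- eqV
    refine (hwt _ _ 0 (hV l.1) ?_).trans (by ring)
    rw [c.weight_colV hI hS s l.2]; simp

/-- section 2 of the note, from the values of the class constants -/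
theorem exists_cols_of {I : G → ℕ} (hI : c.PairVals T I)
    (hS : ∀ z, c.weight (fun χ => (χ : G → ℂ) z) = ((8 * c.e * c.f * c.q : ℕ) : ℂ) ^ 2 * I z) :
    ∃ (L J : Type v) (_ : Fintype L) (_ : Fintype J) (K : Cols (Cfsg.IrrCharacter G) L J),
      K.q = Fintype.card Fq ∧ K.N = Nat.card G := by
  classical
  haveI := T.T_cyclic
  letI : Fintype T.R := Fintype.ofFinite _
  letI : Fintype T.T := Fintype.ofFinite _
  haveI : Finite (T.T →* ℂˣ) := by
    letI := IsCyclic.commGroup (α := T.T)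
    exact finite_dual T.T
  letI : Fintype {j : T.T →* ℂˣ // j ≠ 1} := Fintype.ofFinite _
  obtain ⟨L, hL, K, h1, h2, -⟩ := c.exists_cols_strong T hI hS
  exact ⟨L, _, hL, inferInstance, K, h1, h2⟩

end Ctx

end CfsgLib.Recog.JankoThompson
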