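import Cfsg.Agent.Lib.Recog.JankoThompson.CharsPure

/-!
# Section 2: the columns and their inner products
-/

set_option autoImplicit false

namespace CfsgLib.Recog.JankoThompson

open Subgroup CfsgLib.Char
open scoped ComplexConjugate

universe u v

variable {G : Type u} [Group G] {Fq : Type v} [Field Fq] [Fintype Fq]

/-- composition of a linear character with an automorphism -/
def rotHom {A : Type*} [Group A] (s : A ≃* A) (l : A →* ℂˣ) : A →* ℂˣ := l.comp s.toMonoidHom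

theorem rotHom_apply {A : Type*} [Group A] (s : A ≃* A) (l : A →* ℂˣ) (a : A) : rotHom s l a = l (s a) :=
  rfl

namespace Ctx

variable (c : Ctx G Fq) {p : ℕ} (T : Tori Fq c.w p c.e c.f)

theorem qef : (c.q : ℂ) = 2 * c.e + c.f := by
  have h1 := c.q_int
  have h2 := c.f_int
  have : c.q = 2 * c.e + c.f := by omega
  rw [this]; push_cast; ring

theorem qef_sq : (c.q : ℂ) ^ 2 = 8 * c.e * c.f + 1 := by
  have h : (c.q : ℤ) ^ 2 = 8 * c.e * c.f + 1 := by
    rw [c.q_int, c.f_int]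
    rcases c.ε_cases with h | h <;> rw [h] <;> ring
  exact_mod_cast h

theorem e_ne : (c.e : ℂ) ≠ 0 := Nat.cast_ne_zero.2 c.e_pos.ne'

theorem f_ne : (c.f : ℂ) ≠ 0 := Nat.cast_ne_zero.2 c.f_odd.pos.ne'

theorem q_ne : (c.q : ℂ) ≠ 0 := Nat.cast_ne_zero.2 c.q_odd.pos.ne'

variable [Fintype T.R] [Fintype T.T]

/-- `μ₊ + μ₋` -/
noncomputable def colW (χ : Cfsg.IrrCharacter G) : ℂ := c.vec T χ (2 / c.q) 0 0 (-1 / c.q) (-1 / c.q)

/-- `μ₊ - μ₋` -/
noncomputable def colD (χ : Cfsg.IrrCharacter G) (D : ℂ) : ℂ := c.vec T χ 0 0 0 (D / c.q) (-(D / c.q))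

/-- `ρ_l - 2W` -/
noncomputable def colB (χ : Cfsg.IrrCharacter G) (l : T.R →* ℂˣ) : ℂ :=
  c.vec T χ (-4 / c.q) (fun r => conj (l r : ℂ) / c.e) 0 (2 / c.q) (2 / c.q)

/-- `φ_j - W` -/
noncomputable def colA (χ : Cfsg.IrrCharacter G) (j : T.T →* ℂˣ) : ℂ :=
  c.vec T χ (-2 / c.q) 0 (fun z => conj (j z : ℂ) / c.f) (1 / c.q) (1 / c.q)

/-- the difference of the multiplicities of `1` and `l` in the restriction to `R` -/
noncomputable def colQ (χ : Cfsg.IrrCharacter G) (l : T.R →* ℂˣ) : ℂ :=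
  c.pure T χ fun r => (1 - conj (l r : ℂ)) / c.e

/-- `M(1) - M(l)` for the character of `D` trivial exactly on `t` -/
noncomputable def colV (χ : Cfsg.IrrCharacter G) (s : T.R ≃* T.R) (l : T.R →* ℂˣ) : ℂ :=
  (c.colQ T χ l - c.colB T χ 1 - c.colB T χ l + c.colB T χ (rotHom s l) + c.colB T χ (rotHom s (rotHom s l))) / 4

variable [Fintype G] [Fintype (Cfsg.IrrCharacter G)]

open scoped _root_.Classical in
theorem inner_BB (l m : T.R →* ℂˣ) :
    ∑ χ : Cfsg.IrrCharacter G, c.colB T χ l * conj (c.colB T χ m) =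
      4 * ((if l = m then 1 else 0) + if l = m⁻¹ then 1 else 0) := by
  unfold colB
  have hsum : (∑ r : T.R, conj (l r : ℂ) / c.e * (conj (conj (m r : ℂ) / c.e) + conj (conj (m r⁻¹ : ℂ) / c.e))) =
      (((if l = m then (c.e : ℂ) else 0) + if l = m⁻¹ then (c.e : ℂ) else 0)) / (c.e : ℂ) ^ 2 := by
    have h : ∀ r : T.R, conj (l r : ℂ) / c.e * (conj (conj (m r : ℂ) / c.e) + conj (conj (m r⁻¹ : ℂ) / c.e)) =
        (conj (l r : ℂ) * (m r : ℂ) + conj (l r : ℂ) * ((m⁻¹) r : ℂ)) / (c.e : ℂ) ^ 2 := fun r => by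
      rw [MonoidHom.inv_apply, ← map_inv]
      simp only [map_div₀, Complex.conj_conj, map_natCast]
      field_simp
    simp only [h, ← Finset.sum_div, Finset.sum_add_distrib, sum_conj_mul_hom, T.card_R]
  rw [c.inner_vec T, hsum, c.card_P2]
  simp only [map_add, map_div₀, map_neg, map_ofNat, map_natCast, Pi.zero_apply, map_zero, map_one,
    Units.val_one, mul_zero, zero_mul, Finset.sum_const_zero, add_zero, sub_zero]
  have he := c.e_ne
  have hq := c.q_ne
  push_cast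
  field_simp
  rw [c.qef]
  have hs := c.qef_sq
  rw [c.qef] at hs
  split_ifs <;> linear_combination (8 * (c.f : ℂ)) * hs

open scoped _root_.Classical in
theorem inner_AA (i j : T.T →* ℂˣ) :
    ∑ χ : Cfsg.IrrCharacter G, c.colA T χ i * conj (c.colA T χ j) =
      2 * ((if i = j then 1 else 0) + if i = j⁻¹ then 1 else 0) := by
  unfold colA
  have hsum : (∑ r : T.T, conj (i r : ℂ) / c.f * (conj (conj (j r : ℂ) / c.f) + conj (conj (j r⁻¹ : ℂ) / c.f))) =
      (((if i = j then (c.f : ℂ) else 0) + if i = j⁻¹ then (c.f : ℂ) else 0)) / (c.f : ℂ) ^ 2 := by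
    have h : ∀ r : T.T, conj (i r : ℂ) / c.f * (conj (conj (j r : ℂ) / c.f) + conj (conj (j r⁻¹ : ℂ) / c.f)) =
        (conj (i r : ℂ) * (j r : ℂ) + conj (i r : ℂ) * ((j⁻¹) r : ℂ)) / (c.f : ℂ) ^ 2 := fun r => by
      rw [MonoidHom.inv_apply, ← map_inv]
      simp only [map_div₀, Complex.conj_conj, map_natCast]
      field_simp
    simp only [h, ← Finset.sum_div, Finset.sum_add_distrib, sum_conj_mul_hom, T.card_T]
  rw [c.inner_vec T, hsum, c.card_P2]
  simp only [map_add, map_div₀, map_neg, map_ofNat, map_natCast, Pi.zero_apply, map_zero, map_one,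
    Units.val_one, mul_zero, zero_mul, Finset.sum_const_zero, add_zero, sub_zero]
  have he := c.f_ne
  have hq := c.q_ne
  push_cast
  field_simp
  rw [c.qef]
  have hs := c.qef_sq
  rw [c.qef] at hs
  split_ifs <;> linear_combination (4 * (c.e : ℂ)) * hs

theorem inner_AB (j : T.T →* ℂˣ) (l : T.R →* ℂˣ) :
    ∑ χ : Cfsg.IrrCharacter G, c.colA T χ j * conj (c.colB T χ l) = 0 := by
  unfold colA colB
  rw [c.inner_vec T, c.card_P2]
  simp only [map_add, map_div₀, map_neg, map_ofNat, map_natCast, Pi.zero_apply, map_zero, map_one,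
    Units.val_one, mul_zero, zero_mul, Finset.sum_const_zero, add_zero, sub_zero, zero_add]
  have he := c.e_ne
  have hf := c.f_ne
  have hq := c.q_ne
  push_cast
  field_simp
  rw [c.qef]
  have hs := c.qef_sq
  rw [c.qef] at hs
  linear_combination (-8 : ℂ) * hs

theorem inner_BD (l : T.R →* ℂˣ) (D : ℂ) :
    ∑ χ : Cfsg.IrrCharacter G, c.colB T χ l * conj (c.colD T χ D) = 0 := by
  unfold colB colD
  rw [c.inner_vec T]
  simp only [map_add, map_div₀, map_neg, map_ofNat, map_natCast, Pi.zero_apply, map_zero, mul_zero,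
    zero_mul, Finset.sum_const_zero, add_zero, sub_zero]
  ring

theorem inner_AD (j : T.T →* ℂˣ) (D : ℂ) :
    ∑ χ : Cfsg.IrrCharacter G, c.colA T χ j * conj (c.colD T χ D) = 0 := by
  unfold colA colD
  rw [c.inner_vec T]
  simp only [map_add, map_div₀, map_neg, map_ofNat, map_natCast, Pi.zero_apply, map_zero, mul_zero,
    zero_mul, Finset.sum_const_zero, add_zero, sub_zero]
  ring

theorem inner_DD {D : ℂ} (hD : D * conj D = (c.q : ℂ)) :
    ∑ χ : Cfsg.IrrCharacter G, c.colD T χ D * conj (c.colD T χ D) = 4 := by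
  unfold colD
  rw [c.inner_vec T]
  simp only [map_add, map_div₀, map_neg, map_ofNat, map_natCast, Pi.zero_apply, map_zero, mul_zero,
    zero_mul, Finset.sum_const_zero, add_zero, sub_zero]
  have hq := c.q_ne
  field_simp
  linear_combination (4 : ℂ) * hD

theorem degree_colB (l : T.R →* ℂˣ) : ∑ χ : Cfsg.IrrCharacter G, (χ : G → ℂ) 1 * c.colB T χ l = 0 :=
  c.degree_vec T _ _ _ _ _

theorem degree_colA (j : T.T →* ℂˣ) : ∑ χ : Cfsg.IrrCharacter G, (χ : G → ℂ) 1 * c.colA T χ j = 0 :=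
  c.degree_vec T _ _ _ _ _

theorem degree_colD (D : ℂ) : ∑ χ : Cfsg.IrrCharacter G, (χ : G → ℂ) 1 * c.colD T χ D = 0 :=
  c.degree_vec T _ _ _ _ _

theorem degree_colQ (l : T.R →* ℂˣ) : ∑ χ : Cfsg.IrrCharacter G, (χ : G → ℂ) 1 * c.colQ T χ l = 0 :=
  by classical exact c.degree_pure T _ (by simp)

theorem inner_QB (l m : T.R →* ℂˣ) :
    ∑ χ : Cfsg.IrrCharacter G, c.colQ T χ l * conj (c.colB T χ m) = 0 := by
  classical exact c.inner_pure_vec T _ _ _ _ _ _

theorem inner_QA (l : T.R →* ℂˣ) (j : T.T →* ℂˣ) :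
    ∑ χ : Cfsg.IrrCharacter G, c.colQ T χ l * conj (c.colA T χ j) = 0 := by
  classical exact c.inner_pure_vec T _ _ _ _ _ _

theorem inner_QD (l : T.R →* ℂˣ) (D : ℂ) :
    ∑ χ : Cfsg.IrrCharacter G, c.colQ T χ l * conj (c.colD T χ D) = 0 := by
  classical exact c.inner_pure_vec T _ _ _ _ _ _

open scoped _root_.Classical in
theorem inner_QQ {s : T.R ≃* T.R} (hs : c.IsTwist T s) {l m : T.R →* ℂˣ} (hl : l ≠ 1) (hm : m ≠ 1) :
    ∑ χ : Cfsg.IrrCharacter G, c.colQ T χ l * conj (c.colQ T χ m) =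
      24 + 4 * ((if l = m then 1 else 0) + (if l = m⁻¹ then 1 else 0) + (if l = rotHom s m then 1 else 0) +
        (if l = (rotHom s m)⁻¹ then 1 else 0) + (if l = rotHom s (rotHom s m) then 1 else 0) +
        if l = (rotHom s (rotHom s m))⁻¹ then 1 else 0) := by
  unfold colQ
  rw [c.inner_pure T hs _ _ (by simp)]
  have term : ∀ μ : T.R →* ℂˣ, μ ≠ 1 →
      ∑ r : T.R, (1 - conj (l r : ℂ)) * (1 - (μ r : ℂ)) = (c.e : ℂ) * (1 + if l = μ then 1 else 0) := by
    intro μ hμ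
    simp only [sub_mul, mul_sub, one_mul, mul_one, Finset.sum_sub_distrib, sum_conj_hom, sum_hom,
      sum_conj_mul_hom, if_neg hl, if_neg hμ, T.card_R, Finset.sum_const, Finset.card_univ, nsmul_eq_mul,
      ← Nat.card_eq_fintype_card]
    split_ifs <;> ring
  have hne : ∀ μ : T.R →* ℂˣ, μ ≠ 1 → rotHom s μ ≠ 1 := fun μ hμ h => hμ (MonoidHom.ext fun a => by
    obtain ⟨b, rfl⟩ := s.surjective a
    exact DFunLike.congr_fun h b)
  have hni : ∀ μ : T.R →* ℂˣ, μ ≠ 1 → μ⁻¹ ≠ 1 := fun μ hμ h =>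
    hμ (MonoidHom.ext fun a => inv_eq_one.1 (DFunLike.congr_fun h a))
  have hz : ∀ r : T.R, (1 - conj (l r : ℂ)) / c.e * (conj ((1 - conj (m r : ℂ)) / c.e) +
      conj ((1 - conj (m r⁻¹ : ℂ)) / c.e) + conj ((1 - conj (m (s r) : ℂ)) / c.e) +
      conj ((1 - conj (m (s r)⁻¹ : ℂ)) / c.e) + conj ((1 - conj (m (s (s r)) : ℂ)) / c.e) +
      conj ((1 - conj (m (s (s r))⁻¹ : ℂ)) / c.e)) =
      ((1 - conj (l r : ℂ)) * (1 - (m r : ℂ)) + (1 - conj (l r : ℂ)) * (1 - (m⁻¹ r : ℂ)) +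
        (1 - conj (l r : ℂ)) * (1 - (rotHom s m r : ℂ)) +
        (1 - conj (l r : ℂ)) * (1 - ((rotHom s m)⁻¹ r : ℂ)) +
        (1 - conj (l r : ℂ)) * (1 - (rotHom s (rotHom s m) r : ℂ)) +
        (1 - conj (l r : ℂ)) * (1 - ((rotHom s (rotHom s m))⁻¹ r : ℂ))) / (c.e : ℂ) ^ 2 := fun r => by
    simp only [MonoidHom.inv_apply, rotHom_apply, map_inv, map_div₀, map_sub, map_one, Complex.conj_conj,
      map_natCast]
    field_simp
  simp only [hz, ← Finset.sum_div, Finset.sum_add_distrib, term m hm, term _ (hni m hm), term _ (hne m hm),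
    term _ (hni _ (hne m hm)), term _ (hne _ (hne m hm)), term _ (hni _ (hne _ (hne m hm)))]
  have he := c.e_ne
  field_simp
  ring

end Ctx

end CfsgLib.Recog.JankoThompson
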