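import Cfsg.Agent.Lib.Recog.JankoThompson.CharsTools
import Cfsg.Agent.Lib.Recog.JankoThompson.LocalTwist
import Cfsg.Agent.Lib.LocalEven.GoldS.CharTools

/-!
# Section 2: column relations on `t K`
-/

set_option autoImplicit false

namespace CfsgLib.Recog.JankoThompson

open Subgroup CfsgLib.Char
open scoped ComplexConjugate

universe u v

variable {G : Type u} [Group G] {Fq : Type v} [Field Fq] [Fintype Fq]

namespace Ctx

variable (c : Ctx G Fq)

theorem q_int : (c.q : ℤ) = 4 * c.e + c.ε := by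
  have h : c.q % 8 = 3 ∨ c.q % 8 = 5 := c.hq
  unfold e ε
  split_ifs <;> omega

theorem f_int : (c.f : ℤ) = 2 * c.e + c.ε := by
  have h : c.q % 8 = 3 ∨ c.q % 8 = 5 := c.hq
  unfold e f ε
  split_ifs <;> omega

theorem ε_cases : c.ε = 1 ∨ c.ε = -1 := by
  unfold ε
  split_ifs <;> simp

theorem e_pos : 0 < c.e := by
  have := c.e_odd; exact this.pos

theorem f_odd : Odd c.f := by
  have he := c.e_odd
  have hf := c.f_int
  rw [Nat.odd_iff] at he ⊢
  rcases c.ε_cases with h | h <;> omega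

theorem q_odd : Odd c.q := by
  rw [Nat.odd_iff]; have h : c.q % 8 = 3 ∨ c.q % 8 = 5 := c.hq; omega

theorem card_P2 : Nat.card (P2 Fq) = 4 * c.e * c.f * c.q := by
  have hgc : Nat.gcd 2 (c.q - 1) = 2 := Nat.gcd_eq_left (by have := c.q_odd; rw [Nat.odd_iff] at this; omega)
  have h := CfsgLib.Classical.Dickson.gcd_mul_card_psl (F := Fq) (q := c.q) rfl
  rw [hgc] at h
  have key : c.q ^ 2 - 1 = 8 * c.e * c.f := by
    have hh : ((c.q ^ 2 : ℕ) : ℤ) = (8 * c.e * c.f + 1 : ℕ) := by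
      push_cast [c.q_int, c.f_int]
      rcases c.ε_cases with h | h <;> rw [h] <;> ring
    exact Nat.sub_eq_of_eq_add (by exact_mod_cast hh)
  rw [key] at h
  have : 2 * Nat.card (P2 Fq) = 2 * (4 * c.e * c.f * c.q) := by rw [h]; ring
  omega

theorem ι_comm (k : P2 Fq) : c.ι k * c.t = c.t * c.ι k := (c.hC _).2 (Or.inl ⟨k, rfl⟩)

theorem comm_t_ι (k : P2 Fq) : Commute c.t (c.ι k) := (c.ι_comm k).symm

theorem ι_ne (k k' : P2 Fq) : c.ι k ≠ c.t * c.ι k' := fun h =>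
  c.tnot ⟨k * k'⁻¹, by rw [map_mul, map_inv, h, mul_inv_cancel_right]⟩

theorem t_inv : c.t⁻¹ = c.t := inv_eq_of_mul_eq_one_right c.tt

theorem pow_t_ι {a : P2 Fq} {n : ℕ} (hn : Odd n) (ha : a ^ n = 1) : (c.t * c.ι a) ^ n = c.t := by
  obtain ⟨i, rfl⟩ := hn
  rw [(c.comm_t_ι a).mul_pow, ← map_pow, ha, map_one, mul_one, pow_succ, pow_mul, pow_two, c.tt,
    one_pow, one_mul]

theorem decomp {z : G} (hz : z * c.t = c.t * z) : ∃ k, z = c.ι k ∨ z = c.t * c.ι k := by
  rcases (c.hC z).1 hz with ⟨k, hk⟩ | ⟨k, hk⟩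
  · exact ⟨k, Or.inl hk.symm⟩
  · exact ⟨k, Or.inr (by rw [hk, ← mul_assoc, c.tt, one_mul])⟩

theorem conj_t_ι (z : G) (hz : z = 1 ∨ z = c.t) (k a : P2 Fq) :
    z * c.ι k * (c.t * c.ι a) * (z * c.ι k)⁻¹ = c.t * c.ι (k * a * k⁻¹) := by
  have e : c.ι k * (c.t * c.ι a) * (c.ι k)⁻¹ = c.t * c.ι (k * a * k⁻¹) := by
    rw [map_mul, map_mul, map_inv, ← mul_assoc (c.ι k), c.ι_comm]; group
  have hzc : Commute z (c.t * c.ι (k * a * k⁻¹)) := by
    rcases hz with rfl | rfl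
    exacts [Commute.one_left _, (Commute.refl c.t).mul_right (c.comm_t_ι _)]
  rw [show z * c.ι k * (c.t * c.ι a) * (z * c.ι k)⁻¹ =
    z * (c.ι k * (c.t * c.ι a) * (c.ι k)⁻¹) * z⁻¹ by group, e, hzc.eq, mul_inv_cancel_right]

/-- the elements conjugating `t a` to `t b` -/
theorem card_conjugators {a b : P2 Fq} (ha : Odd (orderOf a)) (hb : Odd (orderOf b)) :
    Nat.card {g : G // g * (c.t * c.ι a) * g⁻¹ = c.t * c.ι b} =
      2 * Nat.card {k : P2 Fq // k * a * k⁻¹ = b} := by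
  let f : Bool × {k : P2 Fq // k * a * k⁻¹ = b} → {g : G // g * (c.t * c.ι a) * g⁻¹ = c.t * c.ι b} :=
    fun p => ⟨(bif p.1 then c.t else 1) * c.ι p.2.1, by
      rw [c.conj_t_ι _ (by cases p.1 <;> simp) p.2.1 a, p.2.2]⟩
  rw [← Nat.card_eq_of_bijective f ?_, Nat.card_prod, Nat.card_eq_fintype_card (α := Bool),
    Fintype.card_bool]
  refine ⟨?_, ?_⟩
  · rintro ⟨e, k, hk⟩ ⟨e', k', hk'⟩ h
    have h' := congrArg Subtype.val h
    simp only [f] at h'
    cases e <;> cases e' <;> simp only [cond_true, cond_false, one_mul] at h'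
    · exact Prod.ext rfl (Subtype.ext (c.inj h'))
    · exact absurd h' (c.ι_ne _ _)
    · exact absurd h'.symm (c.ι_ne _ _)
    · exact Prod.ext rfl (Subtype.ext (c.inj (mul_left_cancel h')))
  · rintro ⟨g, hg⟩
    have hgt : g * c.t = c.t * g := by
      have h1 : a ^ (orderOf a * orderOf b) = 1 := by rw [pow_mul, pow_orderOf_eq_one, one_pow]
      have h2 : b ^ (orderOf a * orderOf b) = 1 := by
        rw [mul_comm, pow_mul, pow_orderOf_eq_one, one_pow]
      have e := congrArg (· ^ (orderOf a * orderOf b)) hg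
      simp only [conj_pow] at e
      rw [c.pow_t_ι (ha.mul hb) h1, c.pow_t_ι (ha.mul hb) h2] at e
      exact mul_inv_eq_iff_eq_mul.1 e
    obtain ⟨k, hk⟩ := c.decomp hgt
    have key : k * a * k⁻¹ = b := by
      refine c.inj (mul_left_cancel (a := c.t) ?_)
      rw [← hg]
      rcases hk with rfl | rfl
      · conv_rhs => rw [← one_mul (c.ι k)]
        exact (c.conj_t_ι 1 (Or.inl rfl) k a).symm
      · exact (c.conj_t_ι c.t (Or.inr rfl) k a).symm
    rcases hk with rfl | rfl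
    · exact ⟨(false, ⟨k, key⟩), Subtype.ext (one_mul _)⟩
    · exact ⟨(true, ⟨k, key⟩), rfl⟩

theorem card_Ct : Nat.card (centralizer ({c.t} : Set G)) = 8 * c.e * c.f * c.q := by
  have h := card_conj_of_conj (a := c.t) (b := c.t) (k₀ := 1) (by group)
  have h' := c.card_conjugators (a := 1) (b := 1) (by simp) (by simp)
  rw [show c.t * c.ι 1 = c.t by rw [map_one, mul_one]] at h'
  rw [← h, h', card_conj_one, c.card_P2]
  simp
  ring

variable [Fintype G] [Fintype (Cfsg.IrrCharacter G)]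

/-- column relations on `t K` -/
theorem col_t {a b : P2 Fq} (ha : Odd (orderOf a)) (hb : Odd (orderOf b)) :
    ∑ χ : Cfsg.IrrCharacter G, (χ : G → ℂ) (c.t * c.ι a) * conj ((χ : G → ℂ) (c.t * c.ι b)) =
      2 * (Nat.card {k : P2 Fq // k * a * k⁻¹ = b} : ℂ) := by
  classical
  rw [Char.column_orthogonality, ← Nat.cast_ofNat (R := ℂ) (n := 2), ← Nat.cast_mul,
    ← c.card_conjugators ha hb]
  split_ifs with hc
  · obtain ⟨g₀, hg₀⟩ := isConj_iff.1 hc
    rw [card_conj_of_conj hg₀]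
  · rw [card_conj_eq_zero hc, Nat.cast_zero]

end Ctx

namespace Tori

variable {w : P2 Fq} {p e f : ℕ} (T : Tori Fq w p e f)

theorem odd_orderOf_R (a : T.R) : Odd (orderOf (a : P2 Fq)) := ((T.mem_R _).1 a.2).1

theorem card_cent_R (hw : orderOf w = 2) {a : P2 Fq} (ha : a ∈ T.R) (ha1 : a ≠ 1) :
    Nat.card (centralizer ({a} : Set (P2 Fq))) = 2 * e := by
  have hw2 : w * w = 1 := by
    have := pow_orderOf_eq_one w
    rwa [hw, pow_two] at this
  have hwR : w ∉ T.R := fun h => by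
    have h1 := ((T.mem_R w).1 h).1
    rw [hw] at h1
    exact absurd h1 (by decide)
  have hmem : ∀ k, k ∈ centralizer ({a} : Set (P2 Fq)) ↔ k ∈ T.R ∨ w * k ∈ T.R :=
    fun k => mem_centralizer_singleton_iff.trans (T.cent_R a ha ha1 k)
  let g : Bool × T.R → centralizer ({a} : Set (P2 Fq)) := fun x =>
    ⟨(bif x.1 then w else 1) * x.2.1, by
      rw [hmem]
      obtain ⟨_ | _, r, hr⟩ := x
      · exact Or.inl (by simpa using hr)
      · exact Or.inr (by simpa [← mul_assoc, hw2] using hr)⟩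
  rw [← Nat.card_eq_of_bijective g ?_, Nat.card_prod, T.card_R, Nat.card_eq_fintype_card (α := Bool),
    Fintype.card_bool]
  refine ⟨?_, ?_⟩
  · rintro ⟨i, r⟩ ⟨j, s⟩ h
    have h' := congrArg Subtype.val h
    simp only [g] at h'
    cases i <;> cases j <;> simp only [cond_true, cond_false, one_mul] at h'
    · exact Prod.ext rfl (Subtype.ext h')
    · exact absurd ((mul_mem_cancel_right s.2).1 ((congrArg (fun x => x ∈ T.R) h').mp r.2)) hwR
    · exact absurd ((mul_mem_cancel_right r.2).1 ((congrArg (fun x => x ∈ T.R) h'.symm).mp s.2)) hwR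
    · exact Prod.ext rfl (Subtype.ext (mul_left_cancel h'))
  · rintro ⟨k, hk⟩
    rcases (hmem k).1 hk with h | h
    · exact ⟨(false, ⟨k, h⟩), Subtype.ext (one_mul k)⟩
    · exact ⟨(true, ⟨w * k, h⟩), Subtype.ext (show w * (w * k) = k by rw [← mul_assoc, hw2, one_mul])⟩

theorem card_cent_T {a : P2 Fq} (ha : a ∈ T.T) (ha1 : a ≠ 1) :
    Nat.card (centralizer ({a} : Set (P2 Fq))) = f := by
  rw [show centralizer ({a} : Set (P2 Fq)) = T.T from
    Subgroup.ext fun k => mem_centralizer_singleton_iff.trans (T.cent_T a ha ha1 k), T.card_T]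

theorem card_cent_U {a : P2 Fq} (ha : a ∈ T.U) (ha1 : a ≠ 1) :
    Nat.card (centralizer ({a} : Set (P2 Fq))) = Fintype.card Fq := by
  rw [show centralizer ({a} : Set (P2 Fq)) = T.U from
    Subgroup.ext fun k => mem_centralizer_singleton_iff.trans (T.cent_U a ha ha1 k), T.card_U]

theorem odd_orderOf_T (hf : Odd f) (a : T.T) : Odd (orderOf (a : P2 Fq)) :=
  hf.of_dvd_nat (by
    have h := Subgroup.orderOf_dvd_natCard T.T a.2
    rwa [T.card_T] at h)

theorem odd_orderOf_U (hq : Odd (Fintype.card Fq)) {a : P2 Fq} (ha : a ∈ T.U) : Odd (orderOf a) :=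
  hq.of_dvd_nat (by
    have h := Subgroup.orderOf_dvd_natCard T.U ha
    rwa [T.card_U] at h)

end Tori

namespace Ctx

variable (c : Ctx G Fq) {p : ℕ} (T : Tori Fq c.w p c.e c.f)

/-- conjugators inside `R`, `T`: the general shape -/
theorem card_conj_self_inv {H : Subgroup (P2 Fq)} {m : ℕ} (hH : Odd (Nat.card H))
    (hcent : ∀ a ∈ H, a ≠ 1 → Nat.card (centralizer ({a} : Set (P2 Fq))) = m)
    (hfus : ∀ r ∈ H, ∀ h : P2 Fq, h * r * h⁻¹ ∈ H → h * r * h⁻¹ = r ∨ h * r * h⁻¹ = r⁻¹)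
    (hinv : ∃ i : P2 Fq, orderOf i = 2 ∧ ∀ z ∈ H, i * z * i⁻¹ = z⁻¹) [DecidableEq H] (a b : H) :
    (Nat.card {k : P2 Fq // k * (a : P2 Fq) * k⁻¹ = b} : ℂ) =
      (m : ℂ) * ((if b = a then 1 else 0) + if b = a⁻¹ then 1 else 0) +
        if a = 1 then (if b = 1 then (Nat.card (P2 Fq) : ℂ) - 2 * m else 0) else 0 := by
  classical
  by_cases ha : a = 1
  · subst ha
    rw [if_pos rfl, inv_one, OneMemClass.coe_one, card_conj_one]
    by_cases hb : b = 1
    · subst hb; simp; ring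
    · have hb' : (b : P2 Fq) ≠ 1 := fun h => hb (Subtype.ext h)
      simp [hb, hb', Nat.card_eq_fintype_card]
  rw [if_neg ha, add_zero]
  have ha' : (a : P2 Fq) ≠ 1 := fun h => ha (Subtype.ext h)
  have hne : a ≠ a⁻¹ := fun h => ha (eq_one_of_mul_self hH (mul_eq_one_iff_eq_inv.2 h))
  obtain ⟨i, -, hi⟩ := hinv
  by_cases hba : b = a
  · subst hba
    rw [if_pos rfl, if_neg hne, card_conj_of_conj (k₀ := 1) (by group), hcent _ b.2 ha']
    ring
  by_cases hbi : b = a⁻¹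
  · subst hbi
    rw [if_neg hba, if_pos rfl, InvMemClass.coe_inv, card_conj_of_conj (k₀ := i) (hi _ a.2), hcent _ a.2 ha']
    ring
  rw [if_neg hba, if_neg hbi, card_conj_eq_zero, Nat.cast_zero, add_zero, mul_zero]
  intro hc
  obtain ⟨k, hk⟩ := isConj_iff.1 hc
  rcases hfus _ a.2 k (hk.symm ▸ b.2) with h | h <;> rw [hk] at h
  · exact hba (Subtype.ext h)
  · exact hbi (Subtype.ext h)

theorem cross_zero {a b : P2 Fq} {m n : ℕ} (ha : Nat.card (centralizer ({a} : Set (P2 Fq))) = m)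
    (hb : Nat.card (centralizer ({b} : Set (P2 Fq))) = n) (hmn : m ≠ n) :
    Nat.card {k : P2 Fq // k * a * k⁻¹ = b} = 0 :=
  card_conj_eq_zero fun h => hmn (by rw [← ha, ← hb, card_cent_eq_of_isConj h])

open scoped _root_.Classical in
theorem conj_one_left (b : P2 Fq) :
    (Nat.card {k : P2 Fq // k * 1 * k⁻¹ = b} : ℂ) = if b = 1 then (Nat.card (P2 Fq) : ℂ) else 0 := by
  rw [card_conj_one]
  split_ifs with h
  · simp [h]
  · haveI : IsEmpty {u : Unit // b = 1} := ⟨fun u => h u.2⟩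
    simp

open scoped _root_.Classical in
theorem conj_one_right (a : P2 Fq) :
    (Nat.card {k : P2 Fq // k * a * k⁻¹ = 1} : ℂ) = if a = 1 then (Nat.card (P2 Fq) : ℂ) else 0 := by
  split_ifs with h
  · rw [h, conj_one_left, if_pos rfl]
  · rw [card_conj_eq_zero fun hc => h (isConj_one_left.1 hc), Nat.cast_zero]

variable [Fintype T.R] [Fintype T.T]

/-- a combination of the values on `t K` -/
noncomputable def vec (χ : Cfsg.IrrCharacter G) (a : ℂ) (α : T.R → ℂ) (β : T.T → ℂ) (γ δ : ℂ) : ℂ :=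
  a * (χ : G → ℂ) c.t + (∑ r : T.R, α r * (χ : G → ℂ) (c.t * c.ι r)) +
    (∑ z : T.T, β z * (χ : G → ℂ) (c.t * c.ι z)) + γ * (χ : G → ℂ) (c.t * c.ι T.plus) +
    δ * (χ : G → ℂ) (c.t * c.ι T.minus)

variable [Fintype G] [Fintype (Cfsg.IrrCharacter G)]

theorem inner_vec (a a' : ℂ) (α α' : T.R → ℂ) (β β' : T.T → ℂ) (γ γ' δ δ' : ℂ) :
    ∑ χ : Cfsg.IrrCharacter G, c.vec T χ a α β γ δ * conj (c.vec T χ a' α' β' γ' δ') =
      2 * (Nat.card (P2 Fq) : ℂ) * (a + α 1 + β 1) * conj (a' + α' 1 + β' 1) +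
      4 * (c.e : ℂ) * ((∑ r, α r * (conj (α' r) + conj (α' r⁻¹))) - 2 * α 1 * conj (α' 1)) +
      2 * (c.f : ℂ) * ((∑ z, β z * (conj (β' z) + conj (β' z⁻¹))) - 2 * β 1 * conj (β' 1)) +
      2 * (c.q : ℂ) * (γ * conj γ' + δ * conj δ') := by
  classical
  let I := Unit ⊕ T.R ⊕ T.T ⊕ Bool
  let pt : I → P2 Fq := Sum.elim (fun _ => 1) (Sum.elim (fun r => r.1) (Sum.elim (fun z => z.1)
    (fun b => bif b then T.plus else T.minus)))
  let mk : ℂ → (T.R → ℂ) → (T.T → ℂ) → ℂ → ℂ → I → ℂ := fun a α β γ δ =>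
    Sum.elim (fun _ => a) (Sum.elim α (Sum.elim β (fun b => bif b then γ else δ)))
  have hodd : ∀ i, Odd (orderOf (pt i)) := by
    rintro (_ | r | z | _ | _)
    · simp [pt]
    · exact T.odd_orderOf_R r
    · exact T.odd_orderOf_T c.f_odd z
    · exact T.odd_orderOf_U c.q_odd T.minus_mem
    · exact T.odd_orderOf_U c.q_odd T.plus_mem
  have hvec : ∀ χ a α β γ δ,
      c.vec T χ a α β γ δ = ∑ i, mk a α β γ δ i * (χ : G → ℂ) (c.t * c.ι (pt i)) := by
    intro χ a α β γ δ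
    simp only [vec, mk, pt, I, Fintype.sum_sum_type, Sum.elim_inl, Sum.elim_inr, Fintype.univ_unit,
      Finset.sum_singleton, map_one, mul_one, Fintype.sum_bool, cond_true, cond_false]
    ring
  have expand : ∑ χ : Cfsg.IrrCharacter G, c.vec T χ a α β γ δ * conj (c.vec T χ a' α' β' γ' δ') =
      2 * ∑ i, mk a α β γ δ i * ∑ j, conj (mk a' α' β' γ' δ' j) *
        (Nat.card {k : P2 Fq // k * pt i * k⁻¹ = pt j} : ℂ) := by
    simp only [hvec, map_sum, map_mul, Finset.sum_mul, Finset.mul_sum]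
    conv_rhs => rw [Finset.sum_comm]
    rw [Finset.sum_comm]
    refine Finset.sum_congr rfl fun i _ => ?_
    rw [Finset.sum_comm]
    refine Finset.sum_congr rfl fun j _ => ?_
    calc _ = mk a α β γ δ j * conj (mk a' α' β' γ' δ' i) * ∑ χ : Cfsg.IrrCharacter G,
          (χ : G → ℂ) (c.t * c.ι (pt j)) * conj ((χ : G → ℂ) (c.t * c.ι (pt i))) := by
          rw [Finset.mul_sum]; exact Finset.sum_congr rfl fun χ _ => by ring
      _ = _ := by rw [c.col_t (hodd j) (hodd i)]; ring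
  rw [expand]
  have hqe : 2 * c.e ≠ c.q := fun h => by have := c.q_odd; rw [Nat.odd_iff] at this; omega
  have hef : 2 * c.e ≠ c.f := fun h => by have := c.f_odd; rw [Nat.odd_iff] at this; omega
  have hfq : c.f ≠ c.q := fun h => by have := c.q_eq; have := c.e_pos; omega
  have cR : ∀ r : T.R, (r : P2 Fq) ≠ 1 → Nat.card (centralizer ({(r : P2 Fq)} : Set (P2 Fq))) = 2 * c.e :=
    fun r hr => T.card_cent_R c.hw r.2 hr
  have cT : ∀ z : T.T, (z : P2 Fq) ≠ 1 → Nat.card (centralizer ({(z : P2 Fq)} : Set (P2 Fq))) = c.f :=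
    fun z hz => T.card_cent_T z.2 hz
  have cp : Nat.card (centralizer ({T.plus} : Set (P2 Fq))) = c.q := T.card_cent_U T.plus_mem T.plus_ne
  have cm : Nat.card (centralizer ({T.minus} : Set (P2 Fq))) = c.q := T.card_cent_U T.minus_mem T.minus_ne
  have RR : ∀ r s : T.R, (Nat.card {k : P2 Fq // k * (r : P2 Fq) * k⁻¹ = s} : ℂ) =
      (2 * c.e : ℂ) * ((if s = r then 1 else 0) + if s = r⁻¹ then 1 else 0) +
        if r = 1 then (if s = 1 then (Nat.card (P2 Fq) : ℂ) - 4 * c.e else 0) else 0 := fun r s => by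
    rw [card_conj_self_inv (m := 2 * c.e) (by rw [T.card_R]; exact c.e_odd)
      (fun a ha h => T.card_cent_R c.hw ha h) T.fusion_R T.inverter_R r s]
    push_cast; ring_nf
  have TT : ∀ r s : T.T, (Nat.card {k : P2 Fq // k * (r : P2 Fq) * k⁻¹ = s} : ℂ) =
      (c.f : ℂ) * ((if s = r then 1 else 0) + if s = r⁻¹ then 1 else 0) +
        if r = 1 then (if s = 1 then (Nat.card (P2 Fq) : ℂ) - 2 * c.f else 0) else 0 := fun r s =>
    card_conj_self_inv (m := c.f) (by rw [T.card_T]; exact c.f_odd)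
      (fun a ha h => T.card_cent_T ha h) T.fusion_T T.inverter_T r s
  have RT : ∀ (r : T.R) (z : T.T), (Nat.card {k : P2 Fq // k * (r : P2 Fq) * k⁻¹ = z} : ℂ) =
      if r = 1 then (if z = 1 then (Nat.card (P2 Fq) : ℂ) else 0) else 0 := fun r z => by
    by_cases hr : r = 1
    · subst hr; rw [OneMemClass.coe_one, conj_one_left]; simp
    rw [if_neg hr]
    by_cases hz : z = 1
    · subst hz; rw [OneMemClass.coe_one, conj_one_right]; simp [hr]
    rw [cross_zero (cR r (fun h => hr (Subtype.ext h))) (cT z (fun h => hz (Subtype.ext h))) hef,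
      Nat.cast_zero]
  have TR : ∀ (z : T.T) (r : T.R), (Nat.card {k : P2 Fq // k * (z : P2 Fq) * k⁻¹ = r} : ℂ) =
      if r = 1 then (if z = 1 then (Nat.card (P2 Fq) : ℂ) else 0) else 0 := fun z r => by
    by_cases hr : r = 1
    · subst hr; rw [OneMemClass.coe_one, conj_one_right]; simp
    rw [if_neg hr]
    by_cases hz : z = 1
    · subst hz; rw [OneMemClass.coe_one, conj_one_left]; simp [hr]
    rw [cross_zero (cT z (fun h => hz (Subtype.ext h))) (cR r (fun h => hr (Subtype.ext h))) hef.symm,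
      Nat.cast_zero]
  have Ru : ∀ (r : T.R) (u : P2 Fq), u ∈ T.U → u ≠ 1 →
      (Nat.card {k : P2 Fq // k * (r : P2 Fq) * k⁻¹ = u} : ℂ) = 0 ∧
      (Nat.card {k : P2 Fq // k * u * k⁻¹ = (r : P2 Fq)} : ℂ) = 0 := fun r u hu hu1 => by
    by_cases hr : (r : P2 Fq) = 1
    · rw [hr, conj_one_left, conj_one_right]; simp [hu1]
    · exact ⟨by rw [cross_zero (cR r hr) (T.card_cent_U hu hu1) hqe, Nat.cast_zero],
        by rw [cross_zero (T.card_cent_U hu hu1) (cR r hr) hqe.symm, Nat.cast_zero]⟩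
  have Tu : ∀ (z : T.T) (u : P2 Fq), u ∈ T.U → u ≠ 1 →
      (Nat.card {k : P2 Fq // k * (z : P2 Fq) * k⁻¹ = u} : ℂ) = 0 ∧
      (Nat.card {k : P2 Fq // k * u * k⁻¹ = (z : P2 Fq)} : ℂ) = 0 := fun z u hu hu1 => by
    by_cases hz : (z : P2 Fq) = 1
    · rw [hz, conj_one_left, conj_one_right]; simp [hu1]
    · exact ⟨by rw [cross_zero (cT z hz) (T.card_cent_U hu hu1) hfq, Nat.cast_zero],
        by rw [cross_zero (T.card_cent_U hu hu1) (cT z hz) hfq.symm, Nat.cast_zero]⟩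
  have pp : (Nat.card {k : P2 Fq // k * T.plus * k⁻¹ = T.plus} : ℂ) = c.q := by
    rw [card_conj_of_conj (k₀ := 1) (by group), cp]
  have mm : (Nat.card {k : P2 Fq // k * T.minus * k⁻¹ = T.minus} : ℂ) = c.q := by
    rw [card_conj_of_conj (k₀ := 1) (by group), cm]
  have pm : (Nat.card {k : P2 Fq // k * T.plus * k⁻¹ = T.minus} : ℂ) = 0 := by
    rw [card_conj_eq_zero T.two_classes, Nat.cast_zero]
  have mp : (Nat.card {k : P2 Fq // k * T.minus * k⁻¹ = T.plus} : ℂ) = 0 := by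
    rw [card_conj_eq_zero fun h => T.two_classes h.symm, Nat.cast_zero]
  simp only [mk, pt, I, Fintype.sum_sum_type, Sum.elim_inl, Sum.elim_inr, Fintype.univ_unit,
    Finset.sum_singleton, Fintype.sum_bool, cond_true, cond_false, conj_one_left, conj_one_right,
    RR, TT, RT, TR, (Ru _ _ T.plus_mem T.plus_ne).1, (Ru _ _ T.plus_mem T.plus_ne).2,
    (Ru _ _ T.minus_mem T.minus_ne).1, (Ru _ _ T.minus_mem T.minus_ne).2,
    (Tu _ _ T.plus_mem T.plus_ne).1, (Tu _ _ T.plus_mem T.plus_ne).2,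
    (Tu _ _ T.minus_mem T.minus_ne).1, (Tu _ _ T.minus_mem T.minus_ne).2, pp, mm, pm, mp,
    T.plus_ne, T.minus_ne, if_false, OneMemClass.coe_eq_one]
  simp only [mul_add, add_mul, mul_sub, sub_mul, mul_ite, ite_mul, mul_one, mul_zero, zero_mul,
    Finset.sum_ite_irrel, Finset.sum_add_distrib, Finset.sum_ite_eq, Finset.sum_ite_eq', Finset.mem_univ, if_true,
    Finset.sum_const_zero, add_zero, zero_add, map_add, Finset.mul_sum, Finset.sum_sub_distrib]
  ring_nf
  simp only [mul_comm, mul_assoc, mul_left_comm]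
  ring_nf

/-- the degree is orthogonal to the values on `t K` -/
theorem degree_vec (a : ℂ) (α : T.R → ℂ) (β : T.T → ℂ) (γ δ : ℂ) :
    ∑ χ : Cfsg.IrrCharacter G, (χ : G → ℂ) 1 * c.vec T χ a α β γ δ = 0 := by
  have h : ∀ k : P2 Fq, ∑ χ : Cfsg.IrrCharacter G, (χ : G → ℂ) 1 * (χ : G → ℂ) (c.t * c.ι k) = 0 :=
    fun k => sum_degree_mul_apply_of_ne_one fun e => c.ι_ne 1 k ((map_one c.ι).trans e.symm)
  have h1 : ∑ χ : Cfsg.IrrCharacter G, (χ : G → ℂ) 1 * (χ : G → ℂ) c.t = 0 :=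
    sum_degree_mul_apply_of_ne_one c.t_ne
  simp only [vec, mul_add, Finset.sum_add_distrib, Finset.mul_sum, mul_left_comm (_ : ℂ) (_ : ℂ)]
  have hR : ∑ χ : Cfsg.IrrCharacter G, ∑ r : T.R, α r * ((χ : G → ℂ) 1 * (χ : G → ℂ) (c.t * c.ι r)) = 0 := by
    rw [Finset.sum_comm]
    exact Finset.sum_eq_zero fun r _ => by rw [← Finset.mul_sum, h, mul_zero]
  have hT : ∑ χ : Cfsg.IrrCharacter G, ∑ r : T.T, β r * ((χ : G → ℂ) 1 * (χ : G → ℂ) (c.t * c.ι r)) = 0 := by
    rw [Finset.sum_comm]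
    exact Finset.sum_eq_zero fun r _ => by rw [← Finset.mul_sum, h, mul_zero]
  simp only [hR, hT, ← Finset.mul_sum, h, h1, mul_zero, add_zero]

end Ctx

end CfsgLib.Recog.JankoThompson
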