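import Cfsg.Agent.Lib.Recog.JankoThompson.CharsInt

/-!
# Section 2: the columns against the structure constants of two involutions
-/

set_option autoImplicit false

namespace CfsgLib.Recog.JankoThompson

open Subgroup CfsgLib.Char
open scoped ComplexConjugate

universe u v

variable {G : Type u} [Group G] {Fq : Type v} [Field Fq] [Fintype Fq]

namespace Ctx

variable (c : Ctx G Fq) {p : ℕ} (T : Tori Fq c.w p c.e c.f)

/-- the class constants of two involutions and an element -/
structure PairVals (I : G → ℕ) : Prop where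
  at_t : I c.t = 2 * c.q * c.f
  at_tR : ∀ k ∈ T.R, k ≠ 1 → I (c.t * c.ι k) = 4 * c.e
  at_R : ∀ k ∈ T.R, k ≠ 1 → I (c.ι k) = 4 * c.e
  at_tT : ∀ k ∈ T.T, k ≠ 1 → I (c.t * c.ι k) = 2 * c.f
  at_tU : ∀ k ∈ T.U, k ≠ 1 → I (c.t * c.ι k) = if c.q % 4 = 1 then 2 * c.q else 0

variable [Fintype G] [Fintype (Cfsg.IrrCharacter G)]

/-- `|G| ∑ τ² f / d` -/
noncomputable def weight (f : Cfsg.IrrCharacter G → ℂ) : ℂ :=
  (Nat.card G : ℂ) * ∑ χ : Cfsg.IrrCharacter G, (χ : G → ℂ) c.t * (χ : G → ℂ) c.t * f χ / (χ : G → ℂ) 1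

theorem weight_add (f g : Cfsg.IrrCharacter G → ℂ) :
    c.weight (fun χ => f χ + g χ) = c.weight f + c.weight g := by
  simp only [weight, mul_add, add_div, Finset.sum_add_distrib]

theorem weight_smul (a : ℂ) (f : Cfsg.IrrCharacter G → ℂ) :
    c.weight (fun χ => a * f χ) = a * c.weight f := by
  simp only [weight, Finset.mul_sum]
  exact Finset.sum_congr rfl fun χ _ => by ring

theorem weight_sum {A : Type*} [Fintype A] (a : A → ℂ) (f : A → Cfsg.IrrCharacter G → ℂ) :
    c.weight (fun χ => ∑ i, a i * f i χ) = ∑ i, a i * c.weight (f i) := by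
  simp only [weight, Finset.mul_sum, Finset.sum_div]
  rw [Finset.sum_comm]
  exact Finset.sum_congr rfl fun i _ => Finset.sum_congr rfl fun χ _ => by ring

variable {T} {I : G → ℕ} (hI : c.PairVals T I) {C : ℂ}
  (hS : ∀ z, c.weight (fun χ => (χ : G → ℂ) z) = C * I z)

include hI hS

theorem weight_t : c.weight (fun χ => (χ : G → ℂ) c.t) = C * (2 * c.q * c.f) := by
  rw [hS, hI.at_t]; push_cast; ring

theorem weight_tR [Fintype T.R] (α : T.R → ℂ) :
    c.weight (fun χ => ∑ r : T.R, α r * (χ : G → ℂ) (c.t * c.ι r)) =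
      C * (4 * c.e * (∑ r, α r) + (2 * c.q * c.f - 4 * c.e) * α 1) := by
  classical
  rw [c.weight_sum]
  have h : ∀ r : T.R, α r * c.weight (fun χ => (χ : G → ℂ) (c.t * c.ι r)) =
      C * (4 * c.e * α r + if r = 1 then (2 * c.q * c.f - 4 * c.e) * α r else 0) := by
    intro r
    rw [hS]
    by_cases hr : r = 1
    · rw [if_pos hr, hr, OneMemClass.coe_one, map_one, mul_one, hI.at_t]; push_cast; ring
    · rw [if_neg hr, hI.at_tR _ r.2 fun e => hr (Subtype.ext e)]; push_cast; ring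
  simp only [h, ← Finset.mul_sum, Finset.sum_add_distrib, Finset.sum_ite_eq', Finset.mem_univ, if_true]

theorem weight_tT [Fintype T.T] (α : T.T → ℂ) :
    c.weight (fun χ => ∑ r : T.T, α r * (χ : G → ℂ) (c.t * c.ι r)) =
      C * (2 * c.f * (∑ r, α r) + (2 * c.q * c.f - 2 * c.f) * α 1) := by
  classical
  rw [c.weight_sum]
  have h : ∀ r : T.T, α r * c.weight (fun χ => (χ : G → ℂ) (c.t * c.ι r)) =
      C * (2 * c.f * α r + if r = 1 then (2 * c.q * c.f - 2 * c.f) * α r else 0) := by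
    intro r
    rw [hS]
    by_cases hr : r = 1
    · rw [if_pos hr, hr, OneMemClass.coe_one, map_one, mul_one, hI.at_t]; push_cast; ring
    · rw [if_neg hr, hI.at_tT _ r.2 fun e => hr (Subtype.ext e)]; push_cast; ring
  simp only [h, ← Finset.mul_sum, Finset.sum_add_distrib, Finset.sum_ite_eq', Finset.mem_univ, if_true]

theorem weight_tU {k : P2 Fq} (hk : k ∈ T.U) (hk1 : k ≠ 1) :
    c.weight (fun χ => (χ : G → ℂ) (c.t * c.ι k)) = C * ((c.q : ℂ) * (1 + (c.ε : ℂ))) := by
  rw [hS, hI.at_tU k hk hk1]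
  unfold ε
  split_ifs <;> push_cast <;> ring

theorem weight_vec [Fintype T.R] [Fintype T.T] (a : ℂ) (α : T.R → ℂ) (β : T.T → ℂ) (γ δ : ℂ) :
    c.weight (fun χ => c.vec T χ a α β γ δ) =
      C * (2 * c.q * c.f * (a + α 1 + β 1) + 4 * c.e * ((∑ r, α r) - α 1) + 2 * c.f * ((∑ z, β z) - β 1) +
        (γ + δ) * ((c.q : ℂ) * (1 + (c.ε : ℂ)))) := by
  simp only [vec, c.weight_add, c.weight_smul, c.weight_t hI hS, c.weight_tR hI hS, c.weight_tT hI hS,
    c.weight_tU hI hS T.plus_mem T.plus_ne, c.weight_tU hI hS T.minus_mem T.minus_ne]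
  ring

theorem weight_pure [Fintype T.R] (α : T.R → ℂ) (hα : α 1 = 0) :
    c.weight (fun χ => c.pure T χ α) = C * (4 * c.e * ∑ r, α r) := by
  classical
  simp only [pure]
  rw [c.weight_sum, Finset.mul_sum, Finset.mul_sum]
  refine Finset.sum_congr rfl fun r _ => ?_
  by_cases hr : r = 1
  · rw [hr, hα, zero_mul, mul_zero, mul_zero]
  · rw [hS, hI.at_R _ r.2 fun e => hr (Subtype.ext e)]; push_cast; ring

variable [Fintype T.R] [Fintype T.T]

open scoped _root_.Classical in
theorem weight_colB (l : T.R →* ℂˣ) :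
    c.weight (fun χ => c.colB T χ l) =
      C * ((if l = 1 then 4 * (c.e : ℂ) else 0) + 2 * (c.ε : ℂ) * c.q / c.e) := by
  unfold colB
  rw [c.weight_vec hI hS]
  simp only [← Finset.sum_div, sum_conj_hom, T.card_R, Pi.zero_apply, Finset.sum_const_zero, map_one,
    Units.val_one]
  congr 1
  have hq : (c.q : ℂ) = 4 * c.e + c.ε := by exact_mod_cast c.q_int
  have hf : (c.f : ℂ) = 2 * c.e + c.ε := by exact_mod_cast c.f_int
  have he := c.e_ne
  have hq0 := c.q_ne
  have he2 : (c.ε : ℂ) * c.ε = 1 := by rcases c.ε_cases with h | h <;> rw [h] <;> norm_num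
  field_simp
  split_ifs <;> rw [hq, hf] <;>
    linear_combination (0 : ℂ) * he2

open scoped _root_.Classical in
theorem weight_colA (j : T.T →* ℂˣ) :
    c.weight (fun χ => c.colA T χ j) = C * (if j = 1 then 2 * (c.f : ℂ) else 0) := by
  unfold colA
  rw [c.weight_vec hI hS]
  simp only [← Finset.sum_div, sum_conj_hom, T.card_T, Pi.zero_apply, Finset.sum_const_zero, map_one,
    Units.val_one]
  congr 1
  have hq : (c.q : ℂ) = 4 * c.e + c.ε := by exact_mod_cast c.q_int
  have hf : (c.f : ℂ) = 2 * c.e + c.ε := by exact_mod_cast c.f_int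
  have hf0 := c.f_ne
  have hq0 := c.q_ne
  have he2 : (c.ε : ℂ) * c.ε = 1 := by rcases c.ε_cases with h | h <;> rw [h] <;> norm_num
  field_simp
  split_ifs <;> rw [hq, hf] <;> linear_combination (0 : ℂ) * he2

theorem weight_colD (D : ℂ) : c.weight (fun χ => c.colD T χ D) = 0 := by
  unfold colD
  rw [c.weight_vec hI hS]
  simp only [Pi.zero_apply, Finset.sum_const_zero]
  ring

theorem weight_colV (s : T.R ≃* T.R) {l : T.R →* ℂˣ} (hl : l ≠ 1) :
    c.weight (fun χ => c.colV T χ s l) = 0 := by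
  classical
  have hne : ∀ μ : T.R →* ℂˣ, μ ≠ 1 → rotHom s μ ≠ 1 := fun μ hμ h => hμ (MonoidHom.ext fun a => by
    obtain ⟨b, rfl⟩ := s.surjective a
    exact DFunLike.congr_fun h b)
  have hQ : c.weight (fun χ => c.colQ T χ l) = C * (4 * (c.e : ℂ)) := by
    unfold colQ
    rw [c.weight_pure hI hS _ (by simp), ← Finset.sum_div, Finset.sum_sub_distrib, sum_conj_hom,
      if_neg hl, Finset.sum_const, Finset.card_univ, nsmul_eq_mul, ← Nat.card_eq_fintype_card, T.card_R]
    have he := c.e_ne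
    field_simp
    ring
  have h : (fun χ => c.colV T χ s l) = fun χ => (1 / 4) * (c.colQ T χ l + (-1) * c.colB T χ 1 +
      (-1) * c.colB T χ l + c.colB T χ (rotHom s l) + c.colB T χ (rotHom s (rotHom s l))) := by
    funext χ; unfold colV; ring
  rw [h, c.weight_smul, c.weight_add, c.weight_add, c.weight_add, c.weight_add, c.weight_smul, c.weight_smul,
    hQ, c.weight_colB hI hS, c.weight_colB hI hS, c.weight_colB hI hS, c.weight_colB hI hS, if_pos rfl,
    if_neg hl, if_neg (hne l hl), if_neg (hne _ (hne l hl))]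
  ring

end Ctx

end CfsgLib.Recog.JankoThompson
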