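import Cfsg.Agent.Lib.Recog.JankoThompson.CharsCols

/-!
# Section 2: integrality, symmetries and congruences of the columns
-/

set_option autoImplicit false

namespace CfsgLib.Recog.JankoThompson

open Subgroup CfsgLib.Char
open CfsgLib.LocalEven.GoldS (twoHom twoHom_one exists_nat_twist exists_int_twist commute_twoHom sum_two)
open scoped ComplexConjugate

universe u v

variable {G : Type u} [Group G] {Fq : Type v} [Field Fq] [Fintype Fq] [Fintype G]

namespace Ctx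

variable (c : Ctx G Fq) {p : ℕ} (T : Tori Fq c.w p c.e c.f)

theorem conj_t_apply (χ : Cfsg.IrrCharacter G) {a b : P2 Fq} (h : IsConj a b) :
    (χ : G → ℂ) (c.t * c.ι b) = (χ : G → ℂ) (c.t * c.ι a) := by
  obtain ⟨k, rfl⟩ := isConj_iff.1 h
  refine (CharDegree.apply_eq_of_isConj χ (isConj_iff.2 ⟨1 * c.ι k, ?_⟩)).symm
  exact c.conj_t_ι 1 (Or.inl rfl) k a

theorem t_apply_inv_R (χ : Cfsg.IrrCharacter G) (r : T.R) :
    (χ : G → ℂ) (c.t * c.ι ((r⁻¹ : T.R) : P2 Fq)) = (χ : G → ℂ) (c.t * c.ι r) := by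
  obtain ⟨i, -, hi⟩ := T.inverter_R
  exact c.conj_t_apply χ (isConj_iff.2 ⟨i, by rw [InvMemClass.coe_inv]; exact hi _ r.2⟩)

theorem t_apply_inv_T (χ : Cfsg.IrrCharacter G) (r : T.T) :
    (χ : G → ℂ) (c.t * c.ι ((r⁻¹ : T.T) : P2 Fq)) = (χ : G → ℂ) (c.t * c.ι r) := by
  obtain ⟨i, -, hi⟩ := T.inverter_T
  exact c.conj_t_apply χ (isConj_iff.2 ⟨i, by rw [InvMemClass.coe_inv]; exact hi _ r.2⟩)

theorem ι_apply_inv_R (χ : Cfsg.IrrCharacter G) (r : T.R) :
    (χ : G → ℂ) (c.ι ((r⁻¹ : T.R) : P2 Fq)) = (χ : G → ℂ) (c.ι r) := by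
  refine (CharDegree.apply_eq_of_isConj χ (isConj_iff.2 ⟨c.x, ?_⟩)).symm
  rw [InvMemClass.coe_inv, map_inv]
  exact c.x_Rg T ⟨r, r.2, rfl⟩

section Twisted

variable {s : T.R ≃* T.R} (hs : c.IsTwist T s)

include hs in
theorem w_apply (χ : Cfsg.IrrCharacter G) (r : T.R) :
    (χ : G → ℂ) (c.ι c.w * c.ι (s r)) = (χ : G → ℂ) (c.t * c.ι r) := by
  refine (CharDegree.apply_eq_of_isConj χ (isConj_iff.2 ⟨c.σ, ?_⟩)).symm
  rw [← conj_mul, c.σ_t, hs]

include hs in
theorem tw_apply (χ : Cfsg.IrrCharacter G) (r : T.R) :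
    (χ : G → ℂ) (c.t * c.ι c.w * c.ι r) = (χ : G → ℂ) (c.t * c.ι (s r)) := by
  refine CharDegree.apply_eq_of_isConj χ (isConj_iff.2 ⟨c.σ, ?_⟩)
  rw [← conj_mul, c.σ_tw, hs]

end Twisted

theorem exists_int_t (χ : Cfsg.IrrCharacter G) : ∃ z : ℤ, (χ : G → ℂ) c.t = (z : ℂ) := by
  obtain ⟨z, hz⟩ := exists_int_twist (1 : Multiplicative (ZMod 1) →* G) c.tt
    (fun _ => Commute.one_right _) χ 1
  exact ⟨z, by simpa [Nat.card_eq_fintype_card] using hz⟩

include c in
theorem exists_deg_par (χ : Cfsg.IrrCharacter G) :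
    ∃ n : ℕ, (χ : G → ℂ) 1 - (χ : G → ℂ) c.t = 2 * (n : ℂ) := by
  have h1 : (-1 : ℂˣ) * -1 = 1 := by simp
  obtain ⟨n, hn⟩ := exists_nat_twist (twoHom c.t c.tt) χ (twoHom (-1) h1)
  refine ⟨n, ?_⟩
  rw [sum_two, map_one, map_one, twoHom_one, twoHom_one,
    show (Nat.card (Multiplicative (ZMod 2)) : ℂ) = 2 by simp [Nat.card_eq_fintype_card]] at hn
  simpa [sub_eq_add_neg] using hn

variable [Fintype T.R] [Fintype T.T]

open scoped _root_.Classical in
theorem exists_int_rho (χ : Cfsg.IrrCharacter G) (l : T.R →* ℂˣ) :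
    ∃ z : ℤ, ∑ r : T.R, (χ : G → ℂ) (c.t * c.ι r) * conj (l r : ℂ) = (c.e : ℂ) * z := by
  obtain ⟨z, hz⟩ := exists_int_twist (c.ι.comp T.R.subtype) c.tt (fun r => c.comm_t_ι r) χ l
  exact ⟨z, by rw [T.card_R] at hz; exact hz⟩

open scoped _root_.Classical in
theorem exists_int_phi (χ : Cfsg.IrrCharacter G) (l : T.T →* ℂˣ) :
    ∃ z : ℤ, ∑ r : T.T, (χ : G → ℂ) (c.t * c.ι r) * conj (l r : ℂ) = (c.f : ℂ) * z := by
  obtain ⟨z, hz⟩ := exists_int_twist (c.ι.comp T.T.subtype) c.tt (fun r => c.comm_t_ι r) χ l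
  exact ⟨z, by rw [T.card_T] at hz; exact hz⟩

open scoped _root_.Classical in
theorem exists_nat_R (χ : Cfsg.IrrCharacter G) :
    ∃ z : ℕ, ∑ r : T.R, (χ : G → ℂ) (c.ι r) = (c.e : ℂ) * z := by
  obtain ⟨z, hz⟩ := exists_nat_twist (c.ι.comp T.R.subtype) χ (1 : T.R →* ℂˣ)
  rw [T.card_R] at hz
  exact ⟨z, by simpa using hz⟩

open scoped _root_.Classical in
/-- the multiplicities of the characters of `D × R` -/
theorem exists_nat_DR (χ : Cfsg.IrrCharacter G) (l : T.R →* ℂˣ) :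
    ∃ n : ℕ, ∑ r : T.R, ((χ : G → ℂ) (c.ι r) + (χ : G → ℂ) (c.t * c.ι r) - (χ : G → ℂ) (c.ι c.w * c.ι r) -
      (χ : G → ℂ) (c.t * c.ι c.w * c.ι r)) * conj (l r : ℂ) = 4 * (c.e : ℂ) * n := by
  have hcw : ∀ r : T.R, Commute (c.ι c.w) (c.ι (r : P2 Fq)) := fun r => by
    rw [commute_iff_eq, ← map_mul, ← map_mul, ((T.mem_R _).1 r.2).2]
  let F1 : Multiplicative (ZMod 2) × T.R →* G :=
    MonoidHom.noncommCoprod (twoHom (c.ι c.w) c.ww) (c.ι.comp T.R.subtype)
      fun x a => commute_twoHom c.ww (hcw a) x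
  let F : Multiplicative (ZMod 2) × (Multiplicative (ZMod 2) × T.R) →* G :=
    MonoidHom.noncommCoprod (twoHom c.t c.tt) F1 fun x y => by
      show Commute _ (twoHom (c.ι c.w) c.ww y.1 * c.ι (y.2 : P2 Fq))
      exact Commute.mul_right (commute_twoHom c.tt (commute_twoHom c.ww (c.comm_t_ι c.w).symm y.1).symm x)
        (commute_twoHom c.tt (c.comm_t_ι _) x)
  have h1 : (-1 : ℂˣ) * -1 = 1 := by simp
  let m : Multiplicative (ZMod 2) →* ℂˣ := twoHom (-1) h1
  let la : Multiplicative (ZMod 2) × (Multiplicative (ZMod 2) × T.R) →* ℂˣ :=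
    (m.comp (MonoidHom.fst _ _)).comp (MonoidHom.snd _ _) *
      (l.comp (MonoidHom.snd _ _)).comp (MonoidHom.snd _ _)
  obtain ⟨n, hn⟩ := exists_nat_twist F χ la
  refine ⟨n, ?_⟩
  have hF : ∀ x y a, F (x, y, a) = twoHom c.t c.tt x * (twoHom (c.ι c.w) c.ww y * c.ι (a : P2 Fq)) :=
    fun x y a => rfl
  have e1 : ∀ x y a, (la (x, y, a) : ℂ) = (m y : ℂ) * (l a : ℂ) := fun x y a => rfl
  have hm : (m (Multiplicative.ofAdd 1) : ℂ) = -1 := by simp [m, twoHom_one]
  simp only [Fintype.sum_prod_type, sum_two, Finset.sum_add_distrib, hF, e1, map_one, one_mul,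
    twoHom_one, hm, Units.val_one, map_mul, map_neg, Nat.card_prod, T.card_R] at hn
  have hc2 : (Nat.card (Multiplicative (ZMod 2)) : ℂ) = 2 := by simp [Nat.card_eq_fintype_card]
  simp only [neg_mul, one_mul, mul_neg, Finset.sum_neg_distrib, Nat.cast_mul, hc2] at hn
  simp only [sub_mul, add_mul, Finset.sum_sub_distrib, Finset.sum_add_distrib, mul_assoc] at hn ⊢
  linear_combination hn

open scoped _root_.Classical in
theorem sum_U [Fintype T.U] (χ : Cfsg.IrrCharacter G) (g : T.U → ℂ) :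
    ∑ u : T.U, (χ : G → ℂ) (c.t * c.ι u) * g u = (χ : G → ℂ) c.t * g 1 +
      (χ : G → ℂ) (c.t * c.ι T.plus) * (∑ u ∈ Finset.univ.filter (fun u : T.U => IsConj T.plus (u : P2 Fq)), g u) +
      (χ : G → ℂ) (c.t * c.ι T.minus) * ∑ u ∈ Finset.univ.filter (fun u : T.U => IsConj T.minus (u : P2 Fq)), g u := by
  simp only [Finset.sum_filter, Finset.mul_sum]
  have hd : (∑ u : T.U, if u = 1 then (χ : G → ℂ) c.t * g u else 0) = (χ : G → ℂ) c.t * g 1 := by simp
  rw [← hd, ← Finset.sum_add_distrib, ← Finset.sum_add_distrib]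
  refine Finset.sum_congr rfl fun u _ => ?_
  by_cases hu : u = 1
  · subst hu
    rw [OneMemClass.coe_one, if_pos rfl, if_neg fun h => T.plus_ne (isConj_one_left.1 h),
      if_neg fun h => T.minus_ne (isConj_one_left.1 h), map_one, mul_one, mul_zero, mul_zero, add_zero,
      add_zero]
  rw [if_neg hu, zero_add]
  rcases T.root_cases _ u.2 (fun e => hu (Subtype.ext e)) with h | h
  · rw [if_pos h, if_neg fun h' => T.two_classes (h.trans h'.symm), mul_zero, add_zero, c.conj_t_apply χ h]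
  · rw [if_pos h, if_neg fun h' => T.two_classes (h'.trans h.symm), mul_zero, zero_add, c.conj_t_apply χ h]

/-- the Gauss sum enters through a number of square modulus `q`, with `μ₊, μ₋` integers -/
theorem exists_gauss :
    ∃ D : ℂ, D * conj D = (c.q : ℂ) ∧ ∀ χ : Cfsg.IrrCharacter G, ∃ a b : ℤ,
      (a : ℂ) + b = c.colW T χ ∧ (a : ℂ) - b = c.colD T χ D := by
  classical
  haveI : Fintype T.U := Fintype.ofFinite _
  obtain ⟨ψ, ψ', hψ, hψ', h⟩ := T.gauss
  obtain ⟨hPM, hM, hP⟩ := h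
  set P := ∑ u ∈ Finset.univ.filter (fun u : T.U => IsConj T.plus (u : P2 Fq)), (ψ u : ℂ) with hPdef
  set M := ∑ u ∈ Finset.univ.filter (fun u : T.U => IsConj T.minus (u : P2 Fq)), (ψ u : ℂ) with hMdef
  have hsum : P + M = -1 := by
    have h0 : ∑ u : T.U, (ψ u : ℂ) = 0 := by rw [sum_hom, if_neg hψ]
    have h1 : (∑ u : T.U, if u = 1 then (ψ u : ℂ) else 0) = 1 := by simp
    have h2 : ∑ u : T.U, (ψ u : ℂ) = (∑ u : T.U, if u = 1 then (ψ u : ℂ) else 0) + P + M := by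
      rw [hPdef, hMdef, Finset.sum_filter, Finset.sum_filter, ← Finset.sum_add_distrib, ← Finset.sum_add_distrib]
      refine Finset.sum_congr rfl fun u _ => ?_
      by_cases hu : u = 1
      · subst hu
        rw [if_pos rfl, OneMemClass.coe_one, if_neg fun h => T.plus_ne (isConj_one_left.1 h),
          if_neg fun h => T.minus_ne (isConj_one_left.1 h), add_zero, add_zero]
      rcases T.root_cases _ u.2 (fun e => hu (Subtype.ext e)) with h | h
      · rw [if_neg hu, if_pos h, if_neg fun h' => T.two_classes (h.trans h'.symm), zero_add, add_zero]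
      · rw [if_neg hu, if_pos h, if_neg fun h' => T.two_classes (h'.trans h.symm), zero_add, zero_add]
    rw [h1, h0] at h2
    linear_combination -h2
  refine ⟨conj (P - M), by rw [Complex.conj_conj, mul_comm]; exact hPM, fun χ => ?_⟩
  obtain ⟨a, ha⟩ := exists_int_twist (c.ι.comp T.U.subtype) c.tt (fun r => c.comm_t_ι r) χ ψ
  obtain ⟨b, hb⟩ := exists_int_twist (c.ι.comp T.U.subtype) c.tt (fun r => c.comm_t_ι r) χ ψ'
  have hcU : (Nat.card T.U : ℂ) = c.q := congrArg Nat.cast T.card_U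
  simp only [MonoidHom.coe_comp, Subgroup.coe_subtype, Function.comp_apply, hcU] at ha hb
  rw [c.sum_U T χ, ← map_sum, ← map_sum] at ha hb
  rw [← hPdef, ← hMdef, map_one, Units.val_one, map_one] at ha
  rw [hM, hP, map_one, Units.val_one, map_one] at hb
  have hc : conj P + conj M = -1 := by rw [← map_add, hsum]; simp
  have hq := c.q_ne
  refine ⟨a, b, ?_, ?_⟩
  · simp only [colW, vec, Pi.zero_apply, zero_mul, Finset.sum_const_zero, add_zero]
    field_simp
    linear_combination -ha - hb + ((χ : G → ℂ) (c.t * c.ι T.plus) + (χ : G → ℂ) (c.t * c.ι T.minus)) * hc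
  · simp only [colD, vec, Pi.zero_apply, zero_mul, Finset.sum_const_zero, zero_add, map_sub]
    field_simp
    linear_combination -ha + hb

variable [Fintype (Cfsg.IrrCharacter G)]

theorem exists_int_colB (χ : Cfsg.IrrCharacter G) (l : T.R →* ℂˣ) :
    ∃ z : ℤ, (z : ℂ) = c.colB T χ l + 2 * c.colW T χ := by
  obtain ⟨z, hz⟩ := c.exists_int_rho T χ l
  refine ⟨z, ?_⟩
  have h : ∑ r : T.R, conj (l r : ℂ) / c.e * (χ : G → ℂ) (c.t * c.ι r) = z := by
    simp only [div_mul_eq_mul_div, ← Finset.sum_div, mul_comm (conj _)]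
    rw [hz, mul_div_cancel_left₀ _ c.e_ne]
  simp only [colB, colW, vec, h, Pi.zero_apply, zero_mul, Finset.sum_const_zero, add_zero]
  ring

theorem exists_int_colA (χ : Cfsg.IrrCharacter G) (l : T.T →* ℂˣ) :
    ∃ z : ℤ, (z : ℂ) = c.colA T χ l + c.colW T χ := by
  obtain ⟨z, hz⟩ := c.exists_int_phi T χ l
  refine ⟨z, ?_⟩
  have h : ∑ r : T.T, conj (l r : ℂ) / c.f * (χ : G → ℂ) (c.t * c.ι r) = z := by
    simp only [div_mul_eq_mul_div, ← Finset.sum_div, mul_comm (conj _)]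
    rw [hz, mul_div_cancel_left₀ _ c.f_ne]
  simp only [colA, colW, vec, h, Pi.zero_apply, zero_mul, Finset.sum_const_zero, add_zero]
  ring

theorem colB_inv (χ : Cfsg.IrrCharacter G) (l : T.R →* ℂˣ) : c.colB T χ l⁻¹ = c.colB T χ l := by
  simp only [colB, vec]
  have h : ∑ r : T.R, conj ((l⁻¹) r : ℂ) / c.e * (χ : G → ℂ) (c.t * c.ι r) =
      ∑ r : T.R, conj (l r : ℂ) / c.e * (χ : G → ℂ) (c.t * c.ι r) :=
    Fintype.sum_equiv (Equiv.inv _) _ _ fun r => by
      rw [Equiv.inv_apply, c.t_apply_inv_R T, MonoidHom.inv_apply, map_inv]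
  rw [h]

theorem colA_inv (χ : Cfsg.IrrCharacter G) (l : T.T →* ℂˣ) : c.colA T χ l⁻¹ = c.colA T χ l := by
  simp only [colA, vec]
  have h : ∑ r : T.T, conj ((l⁻¹) r : ℂ) / c.f * (χ : G → ℂ) (c.t * c.ι r) =
      ∑ r : T.T, conj (l r : ℂ) / c.f * (χ : G → ℂ) (c.t * c.ι r) :=
    Fintype.sum_equiv (Equiv.inv _) _ _ fun r => by
      rw [Equiv.inv_apply, c.t_apply_inv_T T, MonoidHom.inv_apply, map_inv]
  rw [h]

theorem colQ_inv (χ : Cfsg.IrrCharacter G) (l : T.R →* ℂˣ) : c.colQ T χ l⁻¹ = c.colQ T χ l :=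
  Fintype.sum_equiv (Equiv.inv _) _ _ fun r => by
    simp only [Equiv.inv_apply, c.ι_apply_inv_R T, MonoidHom.inv_apply, map_inv]

theorem rotHom_inv {s : T.R ≃* T.R} (l : T.R →* ℂˣ) : rotHom s l⁻¹ = (rotHom s l)⁻¹ :=
  MonoidHom.ext fun _ => rfl

theorem colV_inv (χ : Cfsg.IrrCharacter G) (s : T.R ≃* T.R) (l : T.R →* ℂˣ) :
    c.colV T χ s l⁻¹ = c.colV T χ s l := by
  simp only [colV, c.rotHom_inv T, c.colB_inv T, c.colQ_inv T]

theorem exists_int_colV {s : T.R ≃* T.R} (hs : c.IsTwist T s) (χ : Cfsg.IrrCharacter G) (l : T.R →* ℂˣ) :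
    ∃ z : ℤ, (z : ℂ) = c.colV T χ s l := by
  classical
  obtain ⟨a, ha⟩ := c.exists_nat_DR T χ 1
  obtain ⟨b, hb⟩ := c.exists_nat_DR T χ l
  refine ⟨(a : ℤ) - b, ?_⟩
  set B0 : (T.R →* ℂˣ) → ℂ := fun m => ∑ r : T.R, (χ : G → ℂ) (c.t * c.ι r) * conj (m r : ℂ) with hB0
  have hw : ∀ m : T.R →* ℂˣ,
      ∑ r : T.R, (χ : G → ℂ) (c.ι c.w * c.ι r) * conj (m r : ℂ) = B0 (rotHom s m) := fun m =>
    (Fintype.sum_equiv s.toEquiv _ _ fun r => by
      rw [MulEquiv.toEquiv_eq_coe, MulEquiv.coe_toEquiv, c.w_apply T hs χ r, rotHom_apply]).symm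
  have htw : ∀ m : T.R →* ℂˣ,
      ∑ r : T.R, (χ : G → ℂ) (c.t * c.ι c.w * c.ι r) * conj (m r : ℂ) = B0 (rotHom s (rotHom s m)) := fun m =>
    Fintype.sum_equiv s.toEquiv _ _ fun r => by
      rw [MulEquiv.toEquiv_eq_coe, MulEquiv.coe_toEquiv, c.tw_apply T hs χ r, rotHom_apply, rotHom_apply,
        c.twist_three T hs]
  have hone : rotHom s (1 : T.R →* ℂˣ) = 1 := MonoidHom.ext fun _ => rfl
  simp only [sub_mul, add_mul, Finset.sum_sub_distrib, Finset.sum_add_distrib, hw, htw, hone] at ha hb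
  have hcolB : ∀ m : T.R →* ℂˣ, c.colB T χ m = B0 m / c.e - 2 * c.colW T χ := by
    intro m
    simp only [colB, colW, vec, hB0, Pi.zero_apply, zero_mul, Finset.sum_const_zero, add_zero,
      div_mul_eq_mul_div, ← Finset.sum_div, mul_comm (conj _)]
    ring
  have hQ : c.colQ T χ l = (∑ r : T.R, (χ : G → ℂ) (c.ι r) * conj ((1 : T.R →* ℂˣ) r : ℂ) -
      ∑ r : T.R, (χ : G → ℂ) (c.ι r) * conj (l r : ℂ)) / c.e := by
    simp only [colQ, pure, ← Finset.sum_sub_distrib, Finset.sum_div]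
    exact Finset.sum_congr rfl fun r _ => by simp; ring
  rw [colV, hQ, hcolB, hcolB, hcolB, hcolB]
  have he := c.e_ne
  push_cast
  field_simp
  linear_combination -ha + hb

open scoped _root_.Classical in
theorem sum_colB [Fintype (T.R →* ℂˣ)] (χ : Cfsg.IrrCharacter G) :
    ∑ l : T.R →* ℂˣ, c.colB T χ l = (χ : G → ℂ) c.t - 2 * (c.e : ℂ) * c.colW T χ := by
  haveI := T.R_cyclic
  letI := IsCyclic.commGroup (α := T.R)
  simp only [colB, vec, Finset.sum_add_distrib, Finset.sum_const, Finset.card_univ, nsmul_eq_mul,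
    ← Nat.card_eq_fintype_card, card_dual T.R, T.card_R]
  rw [Finset.sum_comm]
  simp only [← Finset.sum_mul, ← Finset.sum_div, sum_dual_conj, T.card_R]
  have he := c.e_ne
  simp only [ite_div, ite_mul, zero_div, zero_mul, div_self he, one_mul, Finset.sum_ite_eq',
    Finset.mem_univ, if_true, OneMemClass.coe_one, map_one, mul_one, colW, vec, Pi.zero_apply, zero_mul,
    Finset.sum_const_zero]
  ring

open scoped _root_.Classical in
theorem sum_colA [Fintype (T.T →* ℂˣ)] (χ : Cfsg.IrrCharacter G) :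
    ∑ l : T.T →* ℂˣ, c.colA T χ l = (χ : G → ℂ) c.t - (c.f : ℂ) * c.colW T χ := by
  haveI := T.T_cyclic
  letI := IsCyclic.commGroup (α := T.T)
  simp only [colA, vec, Finset.sum_add_distrib, Finset.sum_const, Finset.card_univ, nsmul_eq_mul,
    ← Nat.card_eq_fintype_card, card_dual T.T, T.card_T]
  simp only [Pi.zero_apply, zero_mul, Finset.sum_const_zero, mul_zero]
  rw [Finset.sum_comm]
  simp only [← Finset.sum_mul, ← Finset.sum_div, sum_dual_conj, T.card_T]
  have he := c.f_ne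
  simp only [ite_div, ite_mul, zero_div, zero_mul, div_self he, one_mul, Finset.sum_ite_eq',
    Finset.mem_univ, if_true, OneMemClass.coe_one, map_one, mul_one, colW, vec, Pi.zero_apply, zero_mul,
    Finset.sum_const_zero]
  ring

open scoped _root_.Classical in
theorem sum_colQ [Fintype (T.R →* ℂˣ)] (χ : Cfsg.IrrCharacter G) :
    ∑ l : T.R →* ℂˣ, c.colQ T χ l = (∑ r : T.R, (χ : G → ℂ) (c.ι r)) - (χ : G → ℂ) 1 := by
  haveI := T.R_cyclic
  letI := IsCyclic.commGroup (α := T.R)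
  simp only [colQ, pure]
  rw [Finset.sum_comm]
  simp only [← Finset.sum_mul, ← Finset.sum_div, Finset.sum_sub_distrib, sum_dual_conj, T.card_R,
    Finset.sum_const, Finset.card_univ, nsmul_eq_mul, ← Nat.card_eq_fintype_card, card_dual T.R, mul_one]
  have he := c.e_ne
  simp only [sub_div, ite_div, zero_div, div_self he, sub_mul, one_mul, ite_mul, zero_mul,
    Finset.sum_sub_distrib, Finset.sum_ite_eq', Finset.mem_univ, if_true, OneMemClass.coe_one, map_one]

open scoped _root_.Classical in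
/-- the values of the columns at the trivial character -/
theorem cols_triv (l : T.R →* ℂˣ) (j : T.T →* ℂˣ) (D : ℂ) :
    c.colW T (trivChar G) = 0 ∧ c.colD T (trivChar G) D = 0 ∧
      c.colB T (trivChar G) l = (if l = 1 then 1 else 0) ∧
      c.colA T (trivChar G) j = (if j = 1 then 1 else 0) ∧
      c.colQ T (trivChar G) l = 1 - (if l = 1 then 1 else 0) := by
  have he := c.e_ne
  have hf := c.f_ne
  refine ⟨?_, ?_, ?_, ?_, ?_⟩
  · simp only [colW, vec, trivChar_apply, Pi.zero_apply, zero_mul, Finset.sum_const_zero]; ring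
  · simp only [colD, vec, trivChar_apply, Pi.zero_apply, zero_mul, Finset.sum_const_zero]; ring
  · simp only [colB, vec, trivChar_apply, Pi.zero_apply, mul_one, Finset.sum_const_zero, ← Finset.sum_div,
      sum_conj_hom, T.card_R, ite_div, div_self he, zero_div]
    ring
  · simp only [colA, vec, trivChar_apply, Pi.zero_apply, mul_one, Finset.sum_const_zero, ← Finset.sum_div,
      sum_conj_hom, T.card_T, ite_div, div_self hf, zero_div]
    ring
  · simp only [colQ, pure, trivChar_apply, mul_one, ← Finset.sum_div, Finset.sum_sub_distrib, Finset.sum_const,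
      Finset.card_univ, nsmul_eq_mul, ← Nat.card_eq_fintype_card, sum_conj_hom, T.card_R, sub_div, ite_div,
      div_self he, zero_div]

end Ctx

end CfsgLib.Recog.JankoThompson
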