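import Cfsg.Agent.Lib.Recog.JankoThompson.CharsCount

/-!
# Section 2: the automorphism of `R` induced by `σ` and the columns of `R`
-/

set_option autoImplicit false

namespace CfsgLib.Recog.JankoThompson

open Subgroup CfsgLib.Char
open scoped ComplexConjugate

universe u v

variable {G : Type u} [Group G] {Fq : Type v} [Field Fq] [Fintype Fq] [Finite G]

namespace Ctx

variable (c : Ctx G Fq) {p : ℕ} (T : Tori Fq c.w p c.e c.f)

/-- `s` is induced by `σ` -/
def IsTwist (s : T.R ≃* T.R) : Prop := ∀ r : T.R, c.ι (s r) = c.σ * c.ι r * c.σ⁻¹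

theorem exists_isTwist : ∃ s : T.R ≃* T.R, c.IsTwist T s := by
  have h : ∀ r : T.R, ∃ r' : T.R, c.ι r' = c.σ * c.ι r * c.σ⁻¹ := fun r => by
    obtain ⟨r', hr', e⟩ := c.σ_Rg T (show c.ι (r : P2 Fq) ∈ c.Rg T from ⟨r, r.2, rfl⟩)
    exact ⟨⟨r', hr'⟩, e⟩
  choose s hs using h
  let f : T.R →* T.R := MonoidHom.mk' s fun a b => Subtype.ext (c.inj (by
    show c.ι (s (a * b) : P2 Fq) = c.ι ((s a : P2 Fq) * s b)
    rw [hs, Subgroup.coe_mul, map_mul, map_mul, hs, hs]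
    group))
  have hinj : Function.Injective f := fun a b h => Subtype.ext (c.inj (by
    have e : c.σ * c.ι a * c.σ⁻¹ = c.σ * c.ι b * c.σ⁻¹ := by
      rw [← hs, ← hs]; exact congrArg (fun x : T.R => c.ι x) h
    exact mul_left_cancel (mul_right_cancel e)))
  exact ⟨MulEquiv.ofBijective f ⟨hinj, Finite.injective_iff_surjective.1 hinj⟩, hs⟩

variable {s : T.R ≃* T.R} (hs : c.IsTwist T s)

include hs in
theorem twist_three (r : T.R) : s (s (s r)) = r := by
  refine Subtype.ext (c.inj ?_)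
  rw [hs, hs, hs, show c.σ * (c.σ * (c.σ * c.ι r * c.σ⁻¹) * c.σ⁻¹) * c.σ⁻¹ =
    c.σ ^ 3 * c.ι r * (c.σ ^ 3)⁻¹ by rw [pow_succ, pow_two]; group, c.σ_cube]
  group

include hs in
theorem twist_fixed {r : T.R} (h : s r = r) : r = 1 := by
  have h' := hs r
  rw [h] at h'
  exact Subtype.ext (c.freeTwist T r ((T.mem_R _).1 r.2) h'.symm)

include T in
theorem odd_card_R : Odd (Nat.card T.R) := T.card_R.symm ▸ c.e_odd

include hs in
theorem twist_ne_inv {r : T.R} (h : s r = r⁻¹) : r = 1 := by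
  refine c.twist_fixed T hs ?_
  have h2 : s (s r) = r := by rw [h, map_inv, h, inv_inv]
  have h3 := c.twist_three T hs r
  rwa [h2] at h3

include hs in
theorem twist_sq_fixed {r : T.R} (h : s (s r) = r) : r = 1 := by
  refine c.twist_fixed T hs ?_
  have h3 := c.twist_three T hs r
  rwa [h] at h3

include hs in
theorem twist_sq_ne_inv {r : T.R} (h : s (s r) = r⁻¹) : r = 1 := by
  have h3 := c.twist_three T hs r
  rw [h, map_inv] at h3
  exact c.twist_ne_inv T hs (inv_inj.1 (by rw [h3, inv_inv]))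

include T in
theorem seven_le_e : 7 ≤ c.e := by
  classical
  obtain ⟨s, hs⟩ := c.exists_isTwist T
  haveI : Fact (Nat.Prime 3) := ⟨Nat.prime_three⟩
  haveI : Fintype T.R := Fintype.ofFinite _
  let σ' : Equiv.Perm T.R := s.toEquiv
  have h3 : σ' ^ 3 ^ 1 = 1 := Equiv.ext fun r => c.twist_three T hs r
  have h := Equiv.Perm.card_compl_support_modEq (p := 3) (n := 1) h3
  have hfix : σ'.supportᶜ = {1} := by
    ext r
    rw [Finset.mem_compl, Equiv.Perm.notMem_support, Finset.mem_singleton]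
    exact ⟨fun e => c.twist_fixed T hs e, fun e => by rw [e]; exact map_one s⟩
  rw [hfix, Finset.card_singleton, ← Nat.card_eq_fintype_card, T.card_R, Nat.ModEq] at h
  have h1 := c.e_ne_one
  have h2 := c.e_odd
  rw [Nat.odd_iff] at h2
  omega

theorem inA_of_cent {r : T.R} (hr : r ≠ 1) {z : G} (hz : z * c.ι r = c.ι r * z) : c.InA T z := by
  obtain ⟨r', hr', h⟩ := c.smallCentralizer T r ((T.mem_R _).1 r.2) (fun e => hr (Subtype.ext e)) z hz
  have hr'' : c.ι r' ∈ c.Rg T := ⟨r', (T.mem_R _).2 hr', rfl⟩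
  rcases h with rfl | rfl | rfl | rfl
  · exact ⟨1, one_mem _, _, hr'', (one_mul _).symm⟩
  · exact ⟨c.t, c.t_mem_Dg, _, hr'', rfl⟩
  · exact ⟨c.ι c.w, c.w_mem_Dg, _, hr'', map_mul _ _ _⟩
  · exact ⟨c.t * c.ι c.w, mul_mem c.t_mem_Dg c.w_mem_Dg, _, hr'', by rw [map_mul, mul_assoc]⟩

theorem card_cent_ι {r : T.R} (hr : r ≠ 1) :
    Nat.card (centralizer ({c.ι (r : P2 Fq)} : Set G)) = 4 * c.e := by
  have hmem : ∀ z, z ∈ centralizer ({c.ι (r : P2 Fq)} : Set G) ↔ c.InA T z := fun z => by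
    rw [mem_centralizer_singleton_iff]
    exact ⟨c.inA_of_cent T hr, fun h => InA.comm h ⟨1, one_mem _, _, ⟨r, r.2, rfl⟩, (one_mul _).symm⟩⟩
  let g : c.Dg × c.Rg T → centralizer ({c.ι (r : P2 Fq)} : Set G) :=
    fun x => ⟨x.1.1 * x.2.1, (hmem _).2 ⟨_, x.1.2, _, x.2.2, rfl⟩⟩
  rw [← Nat.card_eq_of_bijective g ?_, Nat.card_prod, c.Dg_card, c.card_Rg T]
  refine ⟨fun x y h => ?_, fun z => ?_⟩
  · have h' : x.1.1 * x.2.1 = y.1.1 * y.2.1 := congrArg Subtype.val h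
    have h1 : (y.1.1)⁻¹ * x.1.1 = y.2.1 * (x.2.1)⁻¹ := by
      rw [eq_mul_inv_iff_mul_eq, mul_assoc, h', inv_mul_cancel_left]
    have hd : (y.1.1)⁻¹ * x.1.1 = 1 := by
      refine orderOf_eq_one_iff.1 (Nat.eq_one_of_dvd_coprimes (Nat.coprime_two_left.2 c.e_odd)
        (orderOf_dvd_of_pow_eq_one (by rw [pow_two]; exact c.Dg_sq (mul_mem (inv_mem y.1.2) x.1.2))) ?_)
      rw [h1, ← c.card_Rg T]
      exact Subgroup.orderOf_dvd_natCard _ (mul_mem y.2.2 (inv_mem x.2.2))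
    rw [hd] at h1
    exact Prod.ext (Subtype.ext (inv_mul_eq_one.1 hd).symm) (Subtype.ext (mul_inv_eq_one.1 h1.symm).symm)
  · obtain ⟨d, hd, a, ha, e⟩ := (hmem _).1 z.2
    exact ⟨(⟨d, hd⟩, ⟨a, ha⟩), Subtype.ext e.symm⟩

include hs in
theorem fusion_ι {r r' : T.R} (hr : r ≠ 1) {g : G} (h : g * c.ι r * g⁻¹ = c.ι r') :
    r' = r ∨ r' = r⁻¹ ∨ r' = s r ∨ r' = (s r)⁻¹ ∨ r' = s (s r) ∨ r' = (s (s r))⁻¹ := by
  have hr' : r' ≠ 1 := fun e => hr (by
    rw [e, OneMemClass.coe_one, map_one, conj_eq_one_iff] at h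
    exact Subtype.ext (c.inj (by rw [h, OneMemClass.coe_one, map_one])))
  have hcomm : (g * c.t * g⁻¹) * c.ι r' = c.ι r' * (g * c.t * g⁻¹) := by
    rw [← h, conj_mul, conj_mul, c.ι_comm]
  have hd : g * c.t * g⁻¹ ∈ c.Dg := (c.inA_of_cent T hr' hcomm).mem_Dg (by rw [conj_mul, c.tt]; group)
  obtain ⟨j, hj, hjt⟩ := c.orbit hd (fun e => c.t_ne (conj_eq_one_iff.1 e))
  have hz : (c.σ ^ j)⁻¹ * g * c.t = c.t * ((c.σ ^ j)⁻¹ * g) := by
    calc (c.σ ^ j)⁻¹ * g * c.t = (c.σ ^ j)⁻¹ * (g * c.t * g⁻¹) * g := by group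
      _ = _ := by rw [← hjt]; group
  have hpow : ∀ a : T.R, c.ι ((s^[j]) a : T.R) = c.σ ^ j * c.ι a * (c.σ ^ j)⁻¹ := by
    clear hj hjt hz
    induction j with
    | zero => intro a; simp
    | succ j ih =>
      intro a
      rw [Function.iterate_succ_apply', hs, ih, pow_succ']
      group
  obtain ⟨b, rfl⟩ : ∃ b, (s^[j]) b = r' := (s.bijective.iterate j).2 r'
  have e : ((c.σ ^ j)⁻¹ * g) * c.ι r * ((c.σ ^ j)⁻¹ * g)⁻¹ = c.ι (b : P2 Fq) := by
    calc _ = (c.σ ^ j)⁻¹ * (g * c.ι r * g⁻¹) * c.σ ^ j := by group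
      _ = _ := by rw [h, hpow]; group
  have hb : b = r ∨ b = r⁻¹ := by
    rcases c.conj_cases T (show c.ι (r : P2 Fq) ∈ c.Rg T from ⟨r, r.2, rfl⟩)
      (show c.ι (b : P2 Fq) ∈ c.Rg T from ⟨b, b.2, rfl⟩) hz e with h1 | h1
    · exact Or.inl (Subtype.ext (c.inj h1))
    · exact Or.inr (Subtype.ext (c.inj (by rw [InvMemClass.coe_inv, map_inv]; exact h1)))
  interval_cases j <;> rcases hb with rfl | rfl <;> simp

/-- the indicator sum of the six conjugates of `r` in `R` -/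
noncomputable def six [DecidableEq T.R] (s : T.R ≃* T.R) (r b : T.R) : ℂ :=
  (if b = r then 1 else 0) + (if b = r⁻¹ then 1 else 0) + (if b = s r then 1 else 0) +
    (if b = (s r)⁻¹ then 1 else 0) + (if b = s (s r) then 1 else 0) + (if b = (s (s r))⁻¹ then 1 else 0)

variable [DecidableEq T.R]

include hs in
theorem six_eq_one {r b : T.R} (hr : r ≠ 1)
    (h : b = r ∨ b = r⁻¹ ∨ b = s r ∨ b = (s r)⁻¹ ∨ b = s (s r) ∨ b = (s (s r))⁻¹) : c.six T s r b = 1 := by
  have key : ∀ r : T.R, r ≠ 1 → c.six T s r r = 1 := by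
    intro r hr
    have h1 : ¬ r = r⁻¹ := fun e => hr (eq_one_of_mul_self (c.odd_card_R T) (mul_eq_one_iff_eq_inv.2 e))
    have h2 : ¬ r = s r := fun e => hr (c.twist_fixed T hs e.symm)
    have h3 : ¬ r = (s r)⁻¹ := fun e => hr (c.twist_ne_inv T hs (inv_eq_iff_eq_inv.2 e).symm)
    have h4 : ¬ r = s (s r) := fun e => hr (c.twist_sq_fixed T hs e.symm)
    have h5 : ¬ r = (s (s r))⁻¹ := fun e => hr (c.twist_sq_ne_inv T hs (inv_eq_iff_eq_inv.2 e).symm)
    simp [six, h1, h2, h3, h4, h5]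
  have rot : ∀ r : T.R, c.six T s r b = c.six T s (s r) b := by
    intro r; unfold six; rw [c.twist_three T hs]; ring
  have neg : ∀ r : T.R, c.six T s r b = c.six T s r⁻¹ b := by
    intro r; unfold six; rw [map_inv, map_inv, inv_inv, inv_inv, inv_inv]; ring
  rcases h with h | h | h | h | h | h
  · rw [h]; exact key r hr
  · rw [neg]; rw [← h]; exact key b (h ▸ inv_ne_one.2 hr)
  · rw [rot, ← h]; exact key b (fun e => hr (by rwa [h, MulEquiv.map_eq_one_iff] at e))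
  · rw [rot, neg, ← h]
    exact key b (fun e => hr (by rwa [h, inv_eq_one, MulEquiv.map_eq_one_iff] at e))
  · rw [rot, rot, ← h]
    exact key b (fun e => hr (by rwa [h, MulEquiv.map_eq_one_iff, MulEquiv.map_eq_one_iff] at e))
  · rw [rot, rot, neg, ← h]
    exact key b (fun e => hr (by rwa [h, inv_eq_one, MulEquiv.map_eq_one_iff, MulEquiv.map_eq_one_iff] at e))

include hs in
/-- conjugators inside `R` -/
theorem card_conj_ι {r : T.R} (hr : r ≠ 1) (b : T.R) :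
    (Nat.card {g : G // g * c.ι r * g⁻¹ = c.ι b} : ℂ) = 4 * (c.e : ℂ) * c.six T s r b := by
  have hex : (b = r ∨ b = r⁻¹ ∨ b = s r ∨ b = (s r)⁻¹ ∨ b = s (s r) ∨ b = (s (s r))⁻¹) →
      ∃ g : G, g * c.ι r * g⁻¹ = c.ι b := by
    have hx : ∀ a : T.R, c.x * c.ι a * c.x⁻¹ = c.ι (a⁻¹ : T.R) := fun a => by
      rw [InvMemClass.coe_inv, map_inv]; exact c.x_Rg T ⟨a, a.2, rfl⟩
    rintro (rfl | rfl | rfl | rfl | rfl | rfl)
    · exact ⟨1, by group⟩
    · exact ⟨c.x, hx r⟩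
    · exact ⟨c.σ, (hs r).symm⟩
    · exact ⟨c.x * c.σ, by rw [← hx, hs]; group⟩
    · exact ⟨c.σ * c.σ, by rw [hs, hs]; group⟩
    · exact ⟨c.x * (c.σ * c.σ), by rw [← hx, hs, hs]; group⟩
  by_cases h : b = r ∨ b = r⁻¹ ∨ b = s r ∨ b = (s r)⁻¹ ∨ b = s (s r) ∨ b = (s (s r))⁻¹
  · obtain ⟨g, hg⟩ := hex h
    rw [card_conj_of_conj hg, c.card_cent_ι T hr, c.six_eq_one T hs hr h]
    push_cast; ring
  · rw [card_conj_eq_zero fun hc => by
      obtain ⟨g, hg⟩ := isConj_iff.1 hc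
      exact h (c.fusion_ι T hs hr hg)]
    push Not at h
    simp [six, h]

variable [Fintype T.R]

/-- a combination of the values on `R` -/
noncomputable def pure (χ : Cfsg.IrrCharacter G) (α : T.R → ℂ) : ℂ := ∑ r : T.R, α r * (χ : G → ℂ) (c.ι r)

variable [Fintype G] [Fintype (Cfsg.IrrCharacter G)]

include hs in
theorem inner_pure (α β : T.R → ℂ) (hα : α 1 = 0) :
    ∑ χ : Cfsg.IrrCharacter G, c.pure T χ α * conj (c.pure T χ β) =
      4 * (c.e : ℂ) * ∑ r, α r * (conj (β r) + conj (β r⁻¹) + conj (β (s r)) + conj (β (s r)⁻¹) +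
        conj (β (s (s r))) + conj (β (s (s r))⁻¹)) := by
  classical
  have hcol : ∀ r b : T.R, α r * ∑ χ : Cfsg.IrrCharacter G, (χ : G → ℂ) (c.ι r) * conj ((χ : G → ℂ) (c.ι b)) =
      α r * (4 * (c.e : ℂ) * c.six T s r b) := by
    intro r b
    by_cases hr : r = 1
    · rw [hr, hα, zero_mul, zero_mul]
    rw [Char.column_orthogonality, ← c.card_conj_ι T hs hr b]
    split_ifs with hc
    · obtain ⟨g, hg⟩ := isConj_iff.1 hc
      rw [card_conj_of_conj hg]
    · rw [card_conj_eq_zero hc, Nat.cast_zero]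
  calc ∑ χ : Cfsg.IrrCharacter G, c.pure T χ α * conj (c.pure T χ β)
      = ∑ r, ∑ b, conj (β b) * (α r * ∑ χ : Cfsg.IrrCharacter G,
          (χ : G → ℂ) (c.ι r) * conj ((χ : G → ℂ) (c.ι b))) := by
        simp only [pure, map_sum, map_mul, Finset.sum_mul, Finset.mul_sum]
        rw [Finset.sum_comm]
        conv_rhs => rw [Finset.sum_comm]
        refine Finset.sum_congr rfl fun b _ => ?_
        rw [Finset.sum_comm]
        exact Finset.sum_congr rfl fun r _ => Finset.sum_congr rfl fun χ _ => by ring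
    _ = _ := by
        simp only [hcol, six, mul_add, mul_ite, mul_one, mul_zero, Finset.sum_add_distrib,
          Finset.sum_ite_eq', Finset.mem_univ, if_true, Finset.mul_sum]
        ring_nf
        simp only [mul_comm, mul_assoc, mul_left_comm]

theorem col_pure_t (r : T.R) {k : P2 Fq} (hk : Odd (orderOf k)) :
    ∑ χ : Cfsg.IrrCharacter G, (χ : G → ℂ) (c.ι r) * conj ((χ : G → ℂ) (c.t * c.ι k)) = 0 := by
  classical
  rw [Char.column_orthogonality, if_neg]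
  intro hc
  obtain ⟨g, hg⟩ := isConj_iff.1 hc
  have e := congrArg (· ^ (orderOf (r : P2 Fq) * orderOf k)) hg
  simp only [conj_pow] at e
  rw [c.pow_t_ι ((T.odd_orderOf_R r).mul hk) (by rw [mul_comm, pow_mul, pow_orderOf_eq_one, one_pow]),
    ← map_pow, pow_mul, pow_orderOf_eq_one, one_pow, map_one, mul_one, mul_inv_cancel] at e
  exact c.t_ne e.symm

theorem inner_pure_vec [Fintype T.T] (α : T.R → ℂ) (a' : ℂ) (α' : T.R → ℂ) (β' : T.T → ℂ) (γ' δ' : ℂ) :
    ∑ χ : Cfsg.IrrCharacter G, c.pure T χ α * conj (c.vec T χ a' α' β' γ' δ') = 0 := by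
  have h : ∀ k : P2 Fq, Odd (orderOf k) →
      ∑ χ : Cfsg.IrrCharacter G, c.pure T χ α * conj ((χ : G → ℂ) (c.t * c.ι k)) = 0 := by
    intro k hk
    simp only [pure, Finset.sum_mul]
    rw [Finset.sum_comm]
    refine Finset.sum_eq_zero fun r _ => ?_
    simp only [mul_assoc, ← Finset.mul_sum, c.col_pure_t T r hk, mul_zero]
  have h1 : ∑ χ : Cfsg.IrrCharacter G, c.pure T χ α * conj ((χ : G → ℂ) c.t) = 0 := by
    have := h 1 (by simp)
    simpa using this
  have hR : ∑ χ : Cfsg.IrrCharacter G, ∑ r : T.R,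
      conj (α' r) * (c.pure T χ α * conj ((χ : G → ℂ) (c.t * c.ι r))) = 0 := by
    rw [Finset.sum_comm]
    exact Finset.sum_eq_zero fun r _ => by rw [← Finset.mul_sum, h _ (T.odd_orderOf_R r), mul_zero]
  have hT : ∑ χ : Cfsg.IrrCharacter G, ∑ z : T.T,
      conj (β' z) * (c.pure T χ α * conj ((χ : G → ℂ) (c.t * c.ι z))) = 0 := by
    rw [Finset.sum_comm]
    exact Finset.sum_eq_zero fun z _ => by rw [← Finset.mul_sum, h _ (T.odd_orderOf_T c.f_odd z), mul_zero]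
  simp only [vec, map_add, map_mul, map_sum, mul_add, Finset.mul_sum, Finset.sum_add_distrib,
    mul_left_comm (c.pure T _ α)]
  simp only [hR, hT, ← Finset.mul_sum, h1, h _ (T.odd_orderOf_U c.q_odd T.plus_mem),
    h _ (T.odd_orderOf_U c.q_odd T.minus_mem), mul_zero, add_zero]

theorem degree_pure (α : T.R → ℂ) (hα : α 1 = 0) :
    ∑ χ : Cfsg.IrrCharacter G, (χ : G → ℂ) 1 * c.pure T χ α = 0 := by
  simp only [pure, Finset.mul_sum, mul_left_comm _ (α _)]
  rw [Finset.sum_comm]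
  refine Finset.sum_eq_zero fun r _ => ?_
  rw [← Finset.mul_sum]
  by_cases hr : r = 1
  · rw [hr, hα, zero_mul]
  · rw [sum_degree_mul_apply_of_ne_one fun e => hr (Subtype.ext (c.inj (e.trans (map_one c.ι).symm))),
      mul_zero]

end Ctx

end CfsgLib.Recog.JankoThompson
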