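import Mathlib

/-!
# Linear characters of a finite abelian group and conjugator counts
-/

set_option autoImplicit false

namespace CfsgLib.Recog.JankoThompson

open scoped ComplexConjugate

section Dual

variable {A : Type*} [Group A] [Finite A]

theorem norm_hom (l : A →* ℂˣ) (a : A) : ‖(l a : ℂ)‖ = 1 := by
  refine Complex.norm_eq_one_of_pow_eq_one (n := Nat.card A) ?_ Nat.card_pos.ne'
  rw [← Units.val_pow_eq_pow_val, ← map_pow, pow_card_eq_one', map_one, Units.val_one]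

theorem conj_hom (l : A →* ℂˣ) (a : A) : conj (l a : ℂ) = (l⁻¹ a : ℂ) := by
  rw [MonoidHom.inv_apply, Units.val_inv_eq_inv_val, Complex.inv_eq_conj (norm_hom l a)]

theorem conj_hom' (l : A →* ℂˣ) (a : A) : conj (l a : ℂ) = (l a⁻¹ : ℂ) := by
  rw [conj_hom, MonoidHom.inv_apply, map_inv]

open scoped Classical in
theorem sum_hom [Fintype A] (l : A →* ℂˣ) :
    ∑ a, (l a : ℂ) = if l = 1 then (Nat.card A : ℂ) else 0 := by
  split_ifs with h
  · subst h; simp [Nat.card_eq_fintype_card]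
  · obtain ⟨b, hb⟩ : ∃ b, l b ≠ 1 := by
      by_contra hc
      push Not at hc
      exact h (MonoidHom.ext hc)
    have hshift : ∑ a, (l a : ℂ) = (l b : ℂ) * ∑ a, (l a : ℂ) := by
      rw [Finset.mul_sum]
      exact (Fintype.sum_equiv (Equiv.mulLeft b) _ _ fun a => by simp).symm
    have h2 : ((l b : ℂ) - 1) * ∑ a, (l a : ℂ) = 0 := by
      rw [sub_mul, one_mul, ← hshift, sub_self]
    rcases mul_eq_zero.1 h2 with h3 | h3
    · exact absurd (Units.ext (sub_eq_zero.1 h3)) hb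
    · exact h3

open scoped Classical in
theorem sum_conj_hom [Fintype A] (l : A →* ℂˣ) :
    ∑ a, conj (l a : ℂ) = if l = 1 then (Nat.card A : ℂ) else 0 := by
  rw [← map_sum, sum_hom]
  split_ifs <;> simp

open scoped Classical in
theorem sum_conj_mul_hom [Fintype A] (l m : A →* ℂˣ) :
    ∑ a, conj (l a : ℂ) * (m a : ℂ) = if l = m then (Nat.card A : ℂ) else 0 := by
  have h : ∀ a, conj (l a : ℂ) * (m a : ℂ) = ((l⁻¹ * m) a : ℂ) := fun a => by
    rw [conj_hom, MonoidHom.mul_apply, Units.val_mul]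
  simp only [h, sum_hom]
  refine if_congr ⟨fun h => MonoidHom.ext fun a => ?_, fun h => by rw [h]; exact inv_mul_cancel m⟩ rfl rfl
  exact inv_mul_eq_one.1 (DFunLike.congr_fun h a)

theorem eq_one_of_mul_self (ho : Odd (Nat.card A)) {a : A} (h : a * a = 1) : a = 1 :=
  orderOf_eq_one_iff.1 (Nat.eq_one_of_dvd_coprimes (Nat.coprime_two_left.2 ho)
    (orderOf_dvd_of_pow_eq_one (by rw [pow_two]; exact h)) (orderOf_dvd_natCard a))

theorem hom_inv_ne (ho : Odd (Nat.card A)) {l : A →* ℂˣ} (hl : l ≠ 1) : l⁻¹ ≠ l := by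
  intro h
  refine hl (MonoidHom.ext fun a => ?_)
  have h2 : l a ^ 2 = 1 := by
    rw [pow_two]
    nth_rewrite 1 [← h]
    rw [MonoidHom.inv_apply, inv_mul_cancel]
  obtain ⟨j, hj⟩ := ho
  have he : l a ^ Nat.card A = 1 := by rw [← map_pow, pow_card_eq_one', map_one]
  rw [hj, pow_succ, pow_mul, h2, one_pow, one_mul] at he
  exact he

end Dual

section DualComm

variable (A : Type*) [CommGroup A] [Finite A]

theorem card_dual : Nat.card (A →* ℂˣ) = Nat.card A :=
  Nat.card_congr (CommGroup.monoidHom_mulEquiv_of_hasEnoughRootsOfUnity A ℂ).some.toEquiv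

instance finite_dual : Finite (A →* ℂˣ) :=
  Finite.of_equiv A (CommGroup.monoidHom_mulEquiv_of_hasEnoughRootsOfUnity A ℂ).some.toEquiv.symm

variable {A}

theorem exists_hom_ne {a : A} (ha : a ≠ 1) : ∃ l : A →* ℂˣ, l a ≠ 1 :=
  CommGroup.exists_apply_ne_one_of_hasEnoughRootsOfUnity A ℂ ha

open scoped Classical in
theorem sum_dual [Fintype (A →* ℂˣ)] (a : A) :
    ∑ l : A →* ℂˣ, (l a : ℂ) = if a = 1 then (Nat.card A : ℂ) else 0 := by
  split_ifs with h
  · subst h
    simp [← card_dual A, Nat.card_eq_fintype_card]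
  · obtain ⟨m, hm⟩ := exists_hom_ne h
    have hshift : ∑ l : A →* ℂˣ, (l a : ℂ) = (m a : ℂ) * ∑ l : A →* ℂˣ, (l a : ℂ) := by
      rw [Finset.mul_sum]
      exact (Fintype.sum_equiv (Equiv.mulLeft m) _ _ fun l => by simp).symm
    have h2 : ((m a : ℂ) - 1) * ∑ l : A →* ℂˣ, (l a : ℂ) = 0 := by
      rw [sub_mul, one_mul, ← hshift, sub_self]
    rcases mul_eq_zero.1 h2 with h3 | h3
    · exact absurd (Units.ext (sub_eq_zero.1 h3)) hm
    · exact h3

open scoped Classical in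
theorem sum_dual_conj [Fintype (A →* ℂˣ)] (a : A) :
    ∑ l : A →* ℂˣ, conj (l a : ℂ) = if a = 1 then (Nat.card A : ℂ) else 0 := by
  rw [← map_sum, sum_dual]
  split_ifs <;> simp

end DualComm

section Conjugators

variable {P : Type*} [Group P]

theorem card_conj_of_conj {a b k₀ : P} (h : k₀ * a * k₀⁻¹ = b) :
    Nat.card {k : P // k * a * k⁻¹ = b} = Nat.card (Subgroup.centralizer ({a} : Set P)) := by
  refine Nat.card_congr
    { toFun := fun k => ⟨k₀⁻¹ * k.1, Subgroup.mem_centralizer_singleton_iff.2 ?_⟩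
      invFun := fun z => ⟨k₀ * z.1, ?_⟩
      left_inv := fun k => by simp
      right_inv := fun z => by simp }
  · calc k₀⁻¹ * k.1 * a = k₀⁻¹ * (k.1 * a * k.1⁻¹) * k.1 := by group
      _ = k₀⁻¹ * (k₀ * a * k₀⁻¹) * k.1 := by rw [k.2, h]
      _ = _ := by group
  · calc k₀ * (z : P) * a * (k₀ * z)⁻¹ = k₀ * ((z : P) * a) * (z : P)⁻¹ * k₀⁻¹ := by group
      _ = k₀ * (a * z) * (z : P)⁻¹ * k₀⁻¹ := by rw [Subgroup.mem_centralizer_singleton_iff.1 z.2]
      _ = k₀ * a * k₀⁻¹ := by group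
      _ = b := h

theorem card_conj_eq_zero {a b : P} (h : ¬ IsConj a b) : Nat.card {k : P // k * a * k⁻¹ = b} = 0 := by
  haveI : IsEmpty {k : P // k * a * k⁻¹ = b} := ⟨fun k => h (isConj_iff.2 ⟨k, k.2⟩)⟩
  exact Nat.card_of_isEmpty

theorem card_conj_one [Finite P] {b : P} :
    Nat.card {k : P // k * 1 * k⁻¹ = b} = Nat.card P * Nat.card {u : Unit // b = 1} := by
  rw [← Nat.card_prod]
  exact Nat.card_congr
    { toFun := fun k => (k.1, ⟨(), k.2.symm.trans (by group)⟩)
      invFun := fun k => ⟨k.1, (by group : k.1 * 1 * k.1⁻¹ = (1 : P)).trans k.2.2.symm⟩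
      left_inv := fun k => rfl
      right_inv := fun k => rfl }

theorem card_cent_eq_of_isConj {a b : P} (h : IsConj a b) :
    Nat.card (Subgroup.centralizer ({a} : Set P)) = Nat.card (Subgroup.centralizer ({b} : Set P)) := by
  obtain ⟨k, rfl⟩ := isConj_iff.1 h
  refine Nat.card_congr
    { toFun := fun z => ⟨k * z.1 * k⁻¹, Subgroup.mem_centralizer_singleton_iff.2 ?_⟩
      invFun := fun z => ⟨k⁻¹ * z.1 * k, Subgroup.mem_centralizer_singleton_iff.2 ?_⟩
      left_inv := fun z => Subtype.ext (show k⁻¹ * (k * z.1 * k⁻¹) * k = z.1 by group)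
      right_inv := fun z => Subtype.ext (show k * (k⁻¹ * z.1 * k) * k⁻¹ = z.1 by group) }
  · rw [conj_mul, Subgroup.mem_centralizer_singleton_iff.1 z.2, ← conj_mul]
  · calc k⁻¹ * z.1 * k * a = k⁻¹ * (z.1 * (k * a * k⁻¹)) * k := by group
      _ = k⁻¹ * (k * a * k⁻¹ * z.1) * k := by rw [Subgroup.mem_centralizer_singleton_iff.1 z.2]
      _ = _ := by group

end Conjugators

end CfsgLib.Recog.JankoThompson
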