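import Mathlib

/-!
Owner: helper22. Simple groups with abelian Sylow 2-subgroups and an involution centraliser `⟨t⟩ × PSL(2, q)`,
`q ≡ 3, 5 (mod 8)`, `q ≥ 11`: the common context (see `notes/S0343_pencil_helper22.md`).
-/

set_option autoImplicit false
set_option linter.all false

namespace CfsgLib.Recog.JankoThompson

open Subgroup

/-- `PSL(2, F)` -/
abbrev P2 (F : Type*) [Field F] := Matrix.ProjectiveSpecialLinearGroup (Fin 2) F

/-- The context: the involution `t`, its centraliser, a pair `w, y` of commuting involutions of `K = ι.range`,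
`x = t * ι y = g t g⁻¹`, and an element `σ` of order three in the component `g K g⁻¹` of `C(x)` permuting
`t → ι w → t * ι w`. -/
structure Ctx (G : Type*) [Group G] (Fq : Type*) [Field Fq] [Fintype Fq] where
  simp : IsSimpleGroup G
  t : G
  ι : P2 Fq →* G
  ht : orderOf t = 2
  inj : Function.Injective ι
  tnot : t ∉ ι.range
  hC : ∀ z : G, z * t = t * z ↔ z ∈ ι.range ∨ t * z ∈ ι.range
  hq : Fintype.card Fq % 8 = 3 ∨ Fintype.card Fq % 8 = 5
  hbig : 11 ≤ Fintype.card Fq
  sylow_eight : ∀ S : Sylow 2 G, Nat.card (S : Subgroup G) = 8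
  two_sq : ∀ z : G, (∃ k : ℕ, z ^ 2 ^ k = 1) → z * z = 1
  one_class : ∀ z : G, orderOf z = 2 → IsConj t z
  w : P2 Fq
  y : P2 Fq
  hw : orderOf w = 2
  hy : orderOf y = 2
  hwy : w * y = y * w
  hne : w ≠ y
  g : G
  hgx : g * t * g⁻¹ = t * ι y
  t_mem : g⁻¹ * t * g ∈ ι.range
  w_mem : g⁻¹ * ι w * g ∈ ι.range
  σ : G
  σ_mem : g⁻¹ * σ * g ∈ ι.range
  σ_cube : σ ^ 3 = 1
  σ_t : σ * t * σ⁻¹ = ι w
  σ_w : σ * ι w * σ⁻¹ = t * ι w

namespace Ctx

variable {G : Type*} [Group G] {Fq : Type*} [Field Fq] [Fintype Fq] (c : Ctx G Fq)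

/-- the size of the field -/
def q (_ : Ctx G Fq) : ℕ := Fintype.card Fq

/-- the sign: `q ≡ ε (mod 4)` -/
def ε : ℤ := if c.q % 4 = 1 then 1 else -1

/-- the odd part of half the torus through an involution: `4e = q - ε` -/
def e : ℕ := if c.q % 4 = 1 then (c.q - 1) / 4 else (c.q + 1) / 4

/-- the order of the other torus: `2f = q + ε` -/
def f : ℕ := if c.q % 4 = 1 then (c.q + 1) / 2 else (c.q - 1) / 2

/-- the involution `x` -/
def x : G := c.t * c.ι c.y

/-- membership in the odd part `R` of `C_K(w)` -/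
def IsR (r : P2 Fq) : Prop := Odd (orderOf r) ∧ r * c.w = c.w * r

/-- the local claim of section 1 of the note: `σ` fixes no element of `R` apart from `1` -/
def FreeTwist : Prop :=
  ∀ r : P2 Fq, c.IsR r → c.σ * c.ι r * c.σ⁻¹ = c.ι r → r = 1

/-- the consequence of the local claim used by the characters: `C(r) = D × R` -/
def SmallCentralizer : Prop :=
  ∀ r : P2 Fq, c.IsR r → r ≠ 1 → ∀ z : G, z * c.ι r = c.ι r * z →
    ∃ r' : P2 Fq, c.IsR r' ∧
      (z = c.ι r' ∨ z = c.t * c.ι r' ∨ z = c.ι (c.w * r') ∨ z = c.t * c.ι (c.w * r'))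

end Ctx

end CfsgLib.Recog.JankoThompson
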