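import Mathlib

/-!
Owner: helper22. Groups of Janko–Thompson type: the finite enumeration of the rows `(A₁, A_P, Δ, G₀)` of the
constituents outside the exceptional quadruples.
-/

set_option autoImplicit false
set_option linter.all false

namespace CfsgLib.Recog.JankoThompson

/-- a row: the coefficients in `A₁, A_P, Δ, G₀` -/
abbrev Row := ℤ × ℤ × ℤ × ℤ

/-- the ten second moments of a row -/
@[ext] structure Mom where
  aa : ℤ
  pp : ℤ
  dd : ℤ
  gg : ℤ
  ap : ℤ
  ad : ℤ
  pd : ℤ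
  ag : ℤ
  pg : ℤ
  dg : ℤ
deriving DecidableEq

/-- the moments of a row -/
def mom : Row → Mom := fun ⟨a, p, d, g⟩ =>
  ⟨a * a, p * p, d * d, g * g, a * p, a * d, p * d, a * g, p * g, d * g⟩

/-- subtraction of `k` copies of a row -/
def Mom.sub (b : Mom) (k : ℤ) (r : Row) : Mom :=
  let m := mom r
  ⟨b.aa - k * m.aa, b.pp - k * m.pp, b.dd - k * m.dd, b.gg - k * m.gg, b.ap - k * m.ap, b.ad - k * m.ad,
    b.pd - k * m.pd, b.ag - k * m.ag, b.pg - k * m.pg, b.dg - k * m.dg⟩

/-- the four norms are not negative -/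
def Mom.fits (b : Mom) : Bool :=
  decide (0 ≤ b.aa) && decide (0 ≤ b.pp) && decide (0 ≤ b.dd) && decide (0 ≤ b.gg)

/-- all moments vanish -/
def Mom.isZero (b : Mom) : Bool :=
  decide (b.aa = 0) && decide (b.pp = 0) && decide (b.dd = 0) && decide (b.gg = 0) && decide (b.ap = 0) &&
    decide (b.ad = 0) && decide (b.pd = 0) && decide (b.ag = 0) && decide (b.pg = 0) && decide (b.dg = 0)

/-- the Cauchy–Schwarz inequalities -/
def Mom.cs (b : Mom) : Bool :=
  decide (b.ap * b.ap ≤ b.aa * b.pp) && decide (b.ad * b.ad ≤ b.aa * b.dd) && decide (b.pd * b.pd ≤ b.pp * b.dd) &&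
    decide (b.ag * b.ag ≤ b.aa * b.gg) && decide (b.pg * b.pg ≤ b.pp * b.gg) && decide (b.dg * b.dg ≤ b.dd * b.gg)

/-- one more row -/
def step (r : Row) (next : Mom → List (List Row)) (b : Mom) : List (List Row) :=
  next b ++
    if (b.sub 1 r).fits then
      ([1, 2, 3, 4, 5, 6, 7] : List ℕ).flatMap fun (k : ℕ) =>
        if (b.sub (k : ℤ) r).fits && (b.sub (k : ℤ) r).cs then
          (next (b.sub (k : ℤ) r)).map (List.replicate k r ++ ·) else []
    else []

/-- all multisets of the given rows with the given moments (written with the recursor, for the kernel) -/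
noncomputable def go (l : List Row) : Mom → List (List Row) :=
  List.rec (fun b => if b.isZero then [[]] else []) (fun r _ next => step r next) l

theorem go_cons (r : Row) (rs : List Row) (b : Mom) : go (r :: rs) b = step r (go rs) b := rfl

theorem go_nil (b : Mom) : go [] b = if b.isZero then [[]] else [] := rfl

/-- the moments of a list of rows -/
def total : List Row → Mom
  | [] => ⟨0, 0, 0, 0, 0, 0, 0, 0, 0, 0⟩
  | r :: l =>
    let m := mom r
    let b := total l
    ⟨m.aa + b.aa, m.pp + b.pp, m.dd + b.dd, m.gg + b.gg, m.ap + b.ap, m.ad + b.ad, m.pd + b.pd, m.ag + b.ag,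
      m.pg + b.pg, m.dg + b.dg⟩

/-- the six possible multisets -/
def patTwoSingle : List Row := [(0, 0, 0, 1), (0, 0, 2, 0), (0, 2, 0, -1), (1, -1, 0, 0), (1, -1, 0, 0), (1, 1, 0, 0)]

/-- pattern with a constituent of `G₀` outside the support of `A_P` -/
def patTwoPair : List Row :=
  [(0, 0, 0, 1), (0, 1, -1, 0), (0, 1, 1, 0), (0, 2, 0, -1), (1, -1, 0, 0), (1, 0, -1, 0), (1, 0, 1, 0)]

/-- pattern with `Δ` carried by one constituent -/
def patSingle : List Row := [(0, 0, 2, 0), (0, 2, 0, 0), (1, -1, 0, 0), (1, -1, 0, 1), (1, 1, 0, -1)]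

/-- spurious pattern with `Δ` outside the support of `A₁` -/
def patFour : List Row :=
  [(0, 1, -1, -1), (0, 1, -1, 0), (0, 1, 1, -1), (0, 1, 1, 0), (1, -1, 0, 0), (1, -1, 0, 0), (1, 1, 0, 0)]

/-- spurious pattern with `Δ` meeting the support of `A₁` -/
def patFive : List Row :=
  [(0, 1, -1, -1), (0, 1, 1, -1), (0, 2, 0, 0), (1, -1, 0, 0), (1, 0, -1, 0), (1, 0, 1, 0)]

/-- the pattern of the Ree groups -/
def patRee : List Row :=
  [(0, 1, -1, 0), (0, 1, -1, 0), (0, 1, 1, 0), (0, 1, 1, 0), (1, -1, 0, 0), (1, -1, 0, 1), (1, 1, 0, -1)]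

/-- the moments outside the trivial character -/
def budget : Mom := ⟨3, 7, 4, 2, -1, 0, 0, 0, -2, 0⟩

/-- the first nonzero entry is positive -/
def Row.normal : Row → Bool := fun ⟨a, p, d, g⟩ =>
  if a ≠ 0 then decide (0 < a) else if p ≠ 0 then decide (0 < p) else if d ≠ 0 then decide (0 < d) else decide (0 < g)

/-- the admissible rows, by decreasing support -/
def rows : List Row := [
  (0, 2, -2, -1),
  (0, 2, -2, 1),
  (0, 2, 2, -1),
  (0, 2, 2, 1),
  (1, -1, -2, -1),
  (1, -1, -2, 1),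
  (1, -1, 2, -1),
  (1, -1, 2, 1),
  (1, 1, -2, -1),
  (1, 1, -2, 1),
  (1, 1, 2, -1),
  (1, 1, 2, 1),
  (0, 0, 2, -1),
  (0, 0, 2, 1),
  (1, -2, -1, -1),
  (1, -2, -1, 1),
  (1, -2, 1, -1),
  (1, -2, 1, 1),
  (1, 2, -1, -1),
  (1, 2, -1, 1),
  (1, 2, 1, -1),
  (1, 2, 1, 1),
  (0, 1, -1, -1),
  (0, 1, -1, 1),
  (0, 1, 1, -1),
  (0, 1, 1, 1),
  (1, 0, -1, -1),
  (1, 0, -1, 1),
  (1, 0, 1, -1),
  (1, 0, 1, 1),
  (0, 2, 0, -1),
  (0, 2, 0, 1),
  (1, -1, 0, -1),
  (1, -1, 0, 1),
  (1, 1, 0, -1),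
  (1, 1, 0, 1),
  (0, 0, 0, 1),
  (0, 2, -2, 0),
  (0, 2, 2, 0),
  (1, -1, -2, 0),
  (1, -1, 2, 0),
  (1, 1, -2, 0),
  (1, 1, 2, 0),
  (0, 0, 2, 0),
  (1, -2, -1, 0),
  (1, -2, 1, 0),
  (1, 2, -1, 0),
  (1, 2, 1, 0),
  (0, 1, -1, 0),
  (0, 1, 1, 0),
  (1, 0, -1, 0),
  (1, 0, 1, 0),
  (0, 2, 0, 0),
  (1, -1, 0, 0),
  (1, 1, 0, 0)]

/-- every small normalised row is listed -/
theorem mem_rows : ∀ a ∈ ([-1, 0, 1] : List ℤ), ∀ p ∈ ([-2, -1, 0, 1, 2] : List ℤ), ∀ d ∈ ([-2, -1, 0, 1, 2] : List ℤ),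
    ∀ g ∈ ([-1, 0, 1] : List ℤ), (a + p + d) % 2 = 0 → Row.normal (a, p, d, g) = true → (a, p, d, g) ∈ rows := by
  decide +kernel

theorem cs_step {A B C x y : ℤ} (hA : 0 ≤ A) (hB : 0 ≤ B) (h : C * C ≤ A * B) :
    (x * y + C) * (x * y + C) ≤ (x * x + A) * (y * y + B) := by
  have h1 : (2 * (x * y * C)) ^ 2 ≤ (A * (y * y) + B * (x * x)) ^ 2 := by
    nlinarith [mul_le_mul_of_nonneg_left h (mul_self_nonneg (x * y)), sq_nonneg (A * (y * y) - B * (x * x))]
  have h2 : 0 ≤ A * (y * y) + B * (x * x) :=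
    add_nonneg (mul_nonneg hA (mul_self_nonneg y)) (mul_nonneg hB (mul_self_nonneg x))
  nlinarith [(abs_le.1 (abs_le_of_sq_le_sq h1 h2)).2]

theorem cs_of_total : ∀ (l : List Row), (total l).cs = true ∧ (total l).fits = true
  | [] => by decide
  | r :: l => by
    obtain ⟨a, p, d, g⟩ := r
    have ih := cs_of_total l
    simp only [Mom.fits, Mom.cs, Bool.and_eq_true, decide_eq_true_eq] at ih ⊢
    obtain ⟨⟨⟨⟨⟨⟨c1, c2⟩, c3⟩, c4⟩, c5⟩, c6⟩, ⟨⟨⟨ha, hp⟩, hd⟩, hg⟩⟩ := ih
    simp only [total, mom]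
    exact ⟨⟨⟨⟨⟨⟨cs_step ha hp c1, cs_step ha hd c2⟩, cs_step hp hd c3⟩, cs_step ha hg c4⟩, cs_step hp hg c5⟩,
      cs_step hd hg c6⟩, ⟨⟨⟨add_nonneg (mul_self_nonneg a) ha, add_nonneg (mul_self_nonneg p) hp⟩,
      add_nonneg (mul_self_nonneg d) hd⟩, add_nonneg (mul_self_nonneg g) hg⟩⟩

theorem total_perm {l m : List Row} (h : l.Perm m) : total l = total m := by
  induction h with
  | nil => rfl
  | cons x _ ih => simp only [total, ih]
  | swap x y l => ext <;> simp only [total] <;> ring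
  | trans _ _ ih1 ih2 => exact ih1.trans ih2

theorem total_replicate_append (r : Row) (l : List Row) : ∀ k : ℕ, total l = (total (List.replicate k r ++ l)).sub k r
  | 0 => by ext <;> simp [Mom.sub]
  | k + 1 => by
    have h := total_replicate_append r l k
    rw [h]
    ext <;> simp only [Mom.sub, List.replicate_succ, List.cons_append, total] <;> push_cast <;> ring

theorem go_complete : ∀ (rs m : List Row) (b : Mom), (∀ r ∈ m, r ∈ rs) → (∀ r ∈ m, 1 ≤ (mom r).aa + (mom r).pp + (mom r).dd + (mom r).gg) →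
    total m = b → b.aa + b.pp + b.dd + b.gg ≤ 16 → (∀ r ∈ rs, ∀ k : ℕ, (b.sub k r).fits = true → k < 8) →
    ∃ l ∈ go rs b, m.Perm l := by
  intro rs
  induction rs with
  | nil =>
    intro m b hm _ hb _ _
    have : m = [] := List.eq_nil_iff_forall_not_mem.2 fun r hr => by simpa using hm r hr
    subst this
    subst hb
    exact ⟨[], by simp [go_nil, total, Mom.isZero], List.Perm.nil⟩
  | cons r rs ih =>
    intro m b hm hpos hb h16 hk
    set k := m.count r with hkdef
    set m' := m.filter (fun x => decide (x ≠ r)) with hm'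
    have hperm : m.Perm (List.replicate k r ++ m') := by
      refine List.perm_iff_count.2 fun x => ?_
      rw [List.count_append, List.count_replicate, hm']
      by_cases hx : x = r
      · subst hx
        simp [List.count_eq_zero.2, hkdef]
      · simp [hx, Ne.symm hx, List.count_filter]
    have htot : total m' = b.sub k r := by
      rw [total_replicate_append r m' k, ← total_perm hperm, hb]
    have hfit : (b.sub k r).fits = true := htot ▸ (cs_of_total m').2
    have hcs : (b.sub k r).cs = true := htot ▸ (cs_of_total m').1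
    have hk8 : k < 8 := hk r (by simp) k hfit
    obtain ⟨l, hl, hlp⟩ := ih m' (b.sub k r)
      (fun x hx => by
        rw [hm', List.mem_filter, decide_eq_true_eq] at hx
        exact (List.mem_cons.1 (hm x hx.1)).resolve_left hx.2)
      (fun x hx => hpos x (List.mem_filter.1 hx).1) htot
      (by
        have e := mul_nonneg (Int.natCast_nonneg k) (add_nonneg (add_nonneg (add_nonneg (mul_self_nonneg r.1)
          (mul_self_nonneg r.2.1)) (mul_self_nonneg r.2.2.1)) (mul_self_nonneg r.2.2.2))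
        obtain ⟨a, p, d, g⟩ := r
        simp only [Mom.sub, mom] at e ⊢
        linarith)
      (fun x hx j hj => hk x (List.mem_cons_of_mem _ hx) j (by
        simp only [Mom.fits, Bool.and_eq_true, decide_eq_true_eq] at hj ⊢
        obtain ⟨a, p, d, g⟩ := r
        obtain ⟨a', p', d', g'⟩ := x
        simp only [Mom.sub, mom] at hj ⊢
        have h0 := Int.natCast_nonneg k
        refine ⟨⟨⟨?_, ?_⟩, ?_⟩, ?_⟩ <;> nlinarith [hj.1.1.1, hj.1.1.2, hj.1.2, hj.2,
          mul_nonneg h0 (mul_self_nonneg a), mul_nonneg h0 (mul_self_nonneg p),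
          mul_nonneg h0 (mul_self_nonneg d), mul_nonneg h0 (mul_self_nonneg g)]))
    refine ⟨List.replicate k r ++ l, ?_, hperm.trans (hlp.append_left _)⟩
    simp only [go_cons, step, List.mem_append, List.mem_flatMap]
    rcases Nat.eq_zero_or_pos k with h0 | h0
    · left
      have hb0 : b.sub k r = b := by rw [h0]; ext <;> simp [Mom.sub]
      rw [hb0] at hl
      simpa [h0] using hl
    · right
      have hfit1 : (b.sub 1 r).fits = true := by
        have h1 : (1 : ℤ) ≤ k := by exact_mod_cast h0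
        simp only [Mom.fits, Bool.and_eq_true, decide_eq_true_eq] at hfit ⊢
        obtain ⟨a, p, d, g⟩ := r
        simp only [Mom.sub, mom] at hfit ⊢
        refine ⟨⟨⟨?_, ?_⟩, ?_⟩, ?_⟩ <;> nlinarith [hfit.1.1.1, hfit.1.1.2, hfit.1.2, hfit.2,
          mul_le_mul_of_nonneg_right h1 (mul_self_nonneg a), mul_le_mul_of_nonneg_right h1 (mul_self_nonneg p),
          mul_le_mul_of_nonneg_right h1 (mul_self_nonneg d), mul_le_mul_of_nonneg_right h1 (mul_self_nonneg g)]
      rw [if_pos hfit1, List.mem_flatMap]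
      refine ⟨k, by simp only [List.mem_cons, List.not_mem_nil, or_false]; omega, ?_⟩
      rw [if_pos (by rw [hfit, hcs]; rfl)]
      exact List.mem_map.2 ⟨l, hl, rfl⟩

theorem go_rows : (go rows budget).all (fun l => decide (l.Perm patTwoSingle) || decide (l.Perm patTwoPair) ||
    decide (l.Perm patSingle) || decide (l.Perm patFour) || decide (l.Perm patFive) || decide (l.Perm patRee)) = true := by
  decide +kernel

theorem rows_small : ∀ r ∈ rows, 1 ≤ (mom r).aa + (mom r).pp + (mom r).dd + (mom r).gg := by decide +kernel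

theorem rows_mult {r : Row} (hr : r ∈ rows) (k : ℕ) (hk : (budget.sub k r).fits = true) : k < 8 := by
  have h := rows_small r hr
  obtain ⟨⟨⟨h1, h2⟩, h3⟩, h4⟩ : ((0 ≤ (budget.sub k r).aa ∧ 0 ≤ (budget.sub k r).pp) ∧ 0 ≤ (budget.sub k r).dd) ∧
      0 ≤ (budget.sub k r).gg := by
    simpa [Mom.fits] using hk
  by_contra hk'
  have h8 : (8 : ℤ) ≤ k := by exact_mod_cast not_lt.1 hk'
  obtain ⟨a, p, d, g⟩ := r
  simp only [mom] at h
  simp only [Mom.sub, budget, mom] at h1 h2 h3 h4
  rcases (show 0 < a * a ∨ 0 < p * p ∨ 0 < d * d ∨ 0 < g * g by omega) with e | e | e | e <;> nlinarith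

/-- **The six patterns** -/
theorem patterns {m : List Row} (hm : ∀ r ∈ m, r ∈ rows) (h : total m = budget) :
    m.Perm patTwoSingle ∨ m.Perm patTwoPair ∨ m.Perm patSingle ∨ m.Perm patFour ∨ m.Perm patFive ∨ m.Perm patRee := by
  obtain ⟨l, hl, hp⟩ := go_complete rows m budget hm (fun r hr => rows_small r (hm r hr)) h (by decide)
    (fun r hr k => rows_mult hr k)
  have hall := List.all_eq_true.1 go_rows l hl
  simp only [Bool.or_eq_true, decide_eq_true_eq, or_assoc] at hall
  rcases hall with e | e | e | e | e | e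
  exacts [Or.inl (hp.trans e), Or.inr (Or.inl (hp.trans e)), Or.inr (Or.inr (Or.inl (hp.trans e))),
    Or.inr (Or.inr (Or.inr (Or.inl (hp.trans e)))), Or.inr (Or.inr (Or.inr (Or.inr (Or.inl (hp.trans e))))),
    Or.inr (Or.inr (Or.inr (Or.inr (Or.inr (hp.trans e)))))]

end CfsgLib.Recog.JankoThompson
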