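import Mathlib

/-!
# Automorphisms of a group of order 9 induced in a group with elementary 2-subgroups

If every 2-element squares to `1`, the group induced on `⟨r, σ⟩ ≅ 3²` has no element of order four; it cannot
contain the three automorphisms below.
-/

set_option autoImplicit false

namespace CfsgLib.Recog.JankoThompson

universe u

variable {G : Type u} [Group G] [Finite G]

theorem exists_pow_four (hsq : ∀ z : G, (∃ k : ℕ, z ^ 2 ^ k = 1) → z * z = 1) (z : G) :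
    ∃ k : ℕ, z * z = (z * z * (z * z)) ^ k := by
  obtain ⟨k, m, hm, hkm⟩ := Nat.exists_eq_pow_mul_and_not_dvd (orderOf_pos z).ne' 2 (by norm_num)
  obtain ⟨j, rfl⟩ : Odd m := Nat.odd_iff.2 (by omega)
  have h1 : z ^ (2 * j + 1) * z ^ (2 * j + 1) = 1 := hsq _ ⟨k, by
    rw [← pow_mul, mul_comm, ← hkm, pow_orderOf_eq_one]⟩
  refine ⟨j + 1, ?_⟩
  have h2 : (z * z) ^ (2 * j + 1) = 1 := by rw [(Commute.refl z).mul_pow]; exact h1
  calc z * z = (z * z) ^ (2 * j + 1) * (z * z) := by rw [h2, one_mul]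
    _ = ((z * z) ^ 2) ^ (j + 1) := by rw [← pow_mul, ← pow_succ]; ring_nf
    _ = _ := by rw [pow_two]

/-- A map of `3²` given by the images of the two generators. -/
abbrev M3 := (Fin 3 × Fin 3) × (Fin 3 × Fin 3)

/-- The image of a vector. -/
def ap (M : M3) (v : Fin 3 × Fin 3) : Fin 3 × Fin 3 :=
  (v.1 * M.1.1 + v.2 * M.2.1, v.1 * M.1.2 + v.2 * M.2.2)

/-- Composition. -/
def cp (M N : M3) : M3 := (ap M N.1, ap M N.2)

/-- The identity map. -/
def id3 : M3 := ((1, 0), (0, 1))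

/-- An element of order four. -/
def Four (M : M3) : Prop := cp M M ≠ id3 ∧ cp (cp M M) (cp M M) = id3

instance (M : M3) : Decidable (Four M) := inferInstanceAs (Decidable (_ ∧ _))

theorem four_cases : ∀ a s b c : Fin 3, s ≠ 0 → c ≠ 0 →
    Four ((b, c), (s, 0)) ∨ Four (cp ((2, 0), (0, 1)) ((b, c), (s, 0))) ∨
      Four (cp (cp ((2, 0), (0, 1)) (cp ((b, c), (s, 0)) ((b, c), (s, 0))))
        (cp ((2, 0), (0, 1)) (cp ((b, c), (s, 0)) ((b, c), (s, 0))))) ∨
      cp ((1, 0), (a, 2)) ((1, 0), (a, 2)) ≠ id3 := by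
  decide

variable {r σ : G}

/-- `r ^ i * σ ^ j` -/
def pw (r σ : G) (v : Fin 3 × Fin 3) : G := r ^ (v.1 : ℕ) * σ ^ (v.2 : ℕ)

/-- Conjugation by `z` acts as `M`. -/
def Acts (r σ z : G) (M : M3) : Prop := z * r * z⁻¹ = pw r σ M.1 ∧ z * σ * z⁻¹ = pw r σ M.2

theorem pow_fin {g : G} (hg : g ^ 3 = 1) (n : ℕ) (i : Fin 3) (h : (i : ℕ) = n % 3) : g ^ n = g ^ (i : ℕ) := by
  rw [h, ← pow_eq_pow_mod n hg]

theorem pw_pow_mul (hr : r ^ 3 = 1) (hσ : σ ^ 3 = 1) (hc : Commute r σ) (v w : Fin 3 × Fin 3) (m n : Fin 3) :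
    pw r σ v ^ (m : ℕ) * pw r σ w ^ (n : ℕ) =
      pw r σ (m * v.1 + n * w.1, m * v.2 + n * w.2) := by
  simp only [pw]
  rw [(hc.pow_pow _ _).mul_pow, (hc.pow_pow _ _).mul_pow, ← pow_mul, ← pow_mul, ← pow_mul, ← pow_mul,
    Commute.mul_mul_mul_comm (hc.symm.pow_pow _ _), ← pow_add, ← pow_add]
  congr 1
  · exact pow_fin hr _ _ (by simp [Fin.val_add, Fin.val_mul, Nat.add_mod, Nat.mul_comm])
  · exact pow_fin hσ _ _ (by simp [Fin.val_add, Fin.val_mul, Nat.add_mod, Nat.mul_comm])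

theorem Acts.mul (hr : r ^ 3 = 1) (hσ : σ ^ 3 = 1) (hc : Commute r σ) {z z' : G} {M N : M3}
    (h : Acts r σ z M) (h' : Acts r σ z' N) : Acts r σ (z * z') (cp M N) := by
  have key : ∀ v : Fin 3 × Fin 3, z * pw r σ v * z⁻¹ = pw r σ (ap M v) := fun v => by
    rw [pw, ← conj_mul, ← conj_pow, ← conj_pow, h.1, h.2, pw_pow_mul hr hσ hc]
    rfl
  constructor
  · rw [show z * z' * r * (z * z')⁻¹ = z * (z' * r * z'⁻¹) * z⁻¹ by group, h'.1, key]; rfl
  · rw [show z * z' * σ * (z * z')⁻¹ = z * (z' * σ * z'⁻¹) * z⁻¹ by group, h'.2, key]; rfl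

theorem pair_auto_false (hsq : ∀ z : G, (∃ k : ℕ, z ^ 2 ^ k = 1) → z * z = 1)
    (hr : r ^ 3 = 1) (hσ : σ ^ 3 = 1) (hc : Commute r σ)
    (hind : ∀ v : Fin 3 × Fin 3, pw r σ v = 1 → v = 0)
    {x i n : G} {a s b c : Fin 3} (hs : s ≠ 0) (hc0 : c ≠ 0)
    (hx : Acts r σ x ((2, 0), (0, 1))) (hi : Acts r σ i ((1, 0), (a, 2)))
    (hn : Acts r σ n ((b, c), (s, 0))) : False := by
  have hinj : ∀ v w, pw r σ v = pw r σ w → v = w := fun v w h => by
    have h1 := hind (v.1 + 2 * w.1, v.2 + 2 * w.2) (by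
      have e := pw_pow_mul hr hσ hc v w 1 2
      simp only [one_mul] at e
      rw [← e, h, show ((1 : Fin 3) : ℕ) = 1 from rfl, show ((2 : Fin 3) : ℕ) = 2 from rfl, ← pow_add,
        show 1 + 2 = 3 from rfl, pw, (hc.pow_pow _ _).mul_pow, ← pow_mul, ← pow_mul, mul_comm _ 3,
        mul_comm _ 3, pow_mul, pow_mul, hr, hσ, one_pow, one_pow, one_mul])
    have key : ∀ v w : Fin 3 × Fin 3, (v.1 + 2 * w.1, v.2 + 2 * w.2) = 0 → v = w := by decide
    exact key v w h1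
  have hzero : ∀ {z M}, Acts r σ z M → ¬ Four M := by
    intro z M h hF
    have h4 := (h.mul hr hσ hc h).mul hr hσ hc (h.mul hr hσ hc h)
    rw [hF.2] at h4
    have e4r : Commute (z * z * (z * z)) r := by
      have := h4.1
      rw [show pw r σ id3.1 = r by simp [pw, id3]] at this
      exact mul_inv_eq_iff_eq_mul.1 this
    have e4s : Commute (z * z * (z * z)) σ := by
      have := h4.2
      rw [show pw r σ id3.2 = σ by simp [pw, id3]] at this
      exact mul_inv_eq_iff_eq_mul.1 this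
    obtain ⟨k, hk⟩ := exists_pow_four hsq z
    have h2 := h.mul hr hσ hc h
    have er : z * z * r * (z * z)⁻¹ = r := by
      rw [hk, (e4r.pow_left k).eq, mul_inv_cancel_right]
    have es : z * z * σ * (z * z)⁻¹ = σ := by
      rw [hk, (e4s.pow_left k).eq, mul_inv_cancel_right]
    refine hF.1 (Prod.ext (hinj _ _ ?_) (hinj _ _ ?_))
    · rw [← h2.1, er]; simp [pw, id3]
    · rw [← h2.2, es]; simp [pw, id3]
  have hnn := hn.mul hr hσ hc hn
  rcases four_cases a s b c hs hc0 with h | h | h | h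
  · exact hzero hn h
  · exact hzero (hx.mul hr hσ hc hn) h
  · exact hzero ((hx.mul hr hσ hc hnn).mul hr hσ hc (hx.mul hr hσ hc hnn)) h
  · refine h ?_
    have key : ∀ a : Fin 3, cp ((1, 0), (a, 2)) ((1, 0), (a, 2)) = id3 := by decide
    exact key a

end CfsgLib.Recog.JankoThompson
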