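import Cfsg.Agent.S3188
import Cfsg.Agent.Lib.Core.Coprime
import Cfsg.Agent.Lib.Core.Cores
import Cfsg.Agent.Lib.Core.SolvableStruct
import Cfsg.Agent.Lib.Classical.Dickson.Dihedral
import Cfsg.Agent.Lib.Classical.PSLTwoSimple
import Cfsg.Agent.Lib.LocalEvenB.CentralizerDEight
import Cfsg.Agent.Lib.Recog.SimpleSixty
import Cfsg.Agent.Lib.Recog.JankoTwoType.AltFiveFacts
import Cfsg.Agent.Lib.Perm.SuborbitThree.AutSmall
import Cfsg.Agent.Lib.HallNumber.EightSeven

/-!
# Groups with a four-group Sylow subgroup and abelian involution centralisers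

If the centralisers of the involutions of a Sylow four-group `P` are abelian, elements of odd order centralising `P`
lie in the odd core; with fusion the quotient by that core has order 12 or is `A₅`.
-/

set_option autoImplicit false

namespace CfsgLib.Recog.JankoThompson

open Subgroup Cfsg

universe u

variable {H : Type u} [Group H] [Finite H]

theorem odd_orderOf_map {K : Type*} [Group K] (f : H →* K) {r : H} (hr : Odd (orderOf r)) :
    Odd (orderOf (f r)) :=
  hr.of_dvd_nat (orderOf_map_dvd f r)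

theorem eq_one_of_odd_pow_two {r : H} (hr : Odd (orderOf r)) {k : ℕ} (h : r ^ 2 ^ k = 1) : r = 1 :=
  orderOf_eq_one_iff.1 (Nat.eq_one_of_dvd_coprimes ((Nat.coprime_two_left.2 hr).pow_left k)
    (orderOf_dvd_of_pow_eq_one h) dvd_rfl)

theorem card_sylow_image (P : Subgroup H) {K : Type*} [Group K] (f : H →* K) (h : ∀ a ∈ P, f a = 1 → a = 1) :
    Nat.card (P.map f) = Nat.card P := by
  refine (Nat.card_congr (Equiv.ofBijective (fun a : P => (⟨f a, mem_map_of_mem f a.2⟩ : P.map f)) ⟨?_, ?_⟩)).symm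
  · intro a b hab
    refine Subtype.ext (mul_inv_eq_one.1 (h _ (mul_mem a.2 (inv_mem b.2)) ?_))
    rw [map_mul, map_inv, show f a = f b from congrArg Subtype.val hab, mul_inv_cancel]
  · rintro ⟨_, a, ha, rfl⟩
    exact ⟨⟨a, ha⟩, rfl⟩

/-- Images in `H / O(H)` of centralisers of involutions. -/
theorem centralizer_lift {t : H} (ht : t * t = 1) {c : H}
    (hc : (QuotientGroup.mk' (oddCore H)) c * (QuotientGroup.mk' (oddCore H)) t =
      (QuotientGroup.mk' (oddCore H)) t * (QuotientGroup.mk' (oddCore H)) c) :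
    ∃ n ∈ oddCore H, (c * n) * t = t * (c * n) := by
  haveI : (oddCore H).Normal := CfsgLib.Core.normal_pPrimeCore 2 H
  haveI : IsCyclic (zpowers t) := Subgroup.isCyclic_zpowers t
  have hcop : (Nat.card (zpowers t)).Coprime (Nat.card (oddCore H)) := by
    refine Nat.Coprime.coprime_dvd_left ?_ (Nat.coprime_two_left.2 (CfsgLib.ZStar.odd_card_oddCore H))
    rw [Nat.card_zpowers]
    exact orderOf_dvd_of_pow_eq_one (by rw [pow_two]; exact ht)
  have hsol : Group.IsSolvable (zpowers t) := Group.isSolvable_of_comm fun a b => Std.Commutative.comm a b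
  obtain ⟨n, hn, hcn⟩ := CfsgLib.Core.exists_centralizing_in_coset
    (CfsgLib.Core.le_normalizer_of_normal _ _) hcop (Or.inl hsol) (k := c) (by
      intro a ha
      have h1 : (QuotientGroup.mk' (oddCore H)) (c⁻¹ * (a * c * a⁻¹)) = 1 := by
        obtain ⟨k, rfl⟩ := mem_zpowers_iff.1 ha
        have hcomm : Commute (QuotientGroup.mk' (oddCore H) c) (QuotientGroup.mk' (oddCore H) (t ^ k)) := by
          rw [map_zpow]; exact (Commute.zpow_right hc k)
        rw [map_mul, map_mul, map_mul, map_inv, map_inv, ← hcomm.eq, mul_inv_cancel_right, inv_mul_cancel]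
      exact (QuotientGroup.eq_one_iff _).1 h1)
  exact ⟨n, hn, (mem_centralizer_iff.1 hcn t (mem_zpowers t)).symm⟩

theorem exists_noncomm_psl {F : Type} [Field F] [Fintype F]
    (hq : Fintype.card F % 8 = 3 ∨ Fintype.card F % 8 = 5) (hb : 11 ≤ Fintype.card F) :
    ∃ g w i : Matrix.ProjectiveSpecialLinearGroup (Fin 2) F,
      orderOf i = 2 ∧ g * i = i * g ∧ w * i = i * w ∧ g * w ≠ w * g := by
  obtain ⟨p, hcp, n, hp, hpn⟩ := FiniteField.card' F
  haveI := hcp
  haveI := Fact.mk hp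
  have hg : Nat.gcd 2 (Fintype.card F - 1) = 2 := Nat.gcd_eq_left (by omega)
  obtain ⟨m, hm, hm4, h2⟩ : ∃ m, (m ∣ (Fintype.card F + 1) / 2 ∨ m ∣ (Fintype.card F - 1) / 2) ∧ 3 ≤ m ∧
      2 ∣ m := by
    rcases hq with h | h
    · exact ⟨_, Or.inl dvd_rfl, by omega, by omega⟩
    · exact ⟨_, Or.inr dvd_rfl, by omega, by omega⟩
  obtain ⟨D, -, -, g, w, -, -, hgo, hw2, hinv, hwg⟩ :=
    CfsgLib.Classical.Dickson.exists_dihedral p (F := F) rfl (by omega) (by omega : 2 ≤ m)
      (by rw [hg]; exact hm)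
  refine ⟨g, w, g ^ (m / 2), ?_, (Commute.self_pow g _).eq, ?_, fun h => ?_⟩
  · rw [orderOf_pow_of_dvd (by omega) (by rw [hgo]; exact Nat.div_dvd_of_dvd h2), hgo,
      Nat.div_div_self h2 (by omega)]
  · have h1 : w * g ^ (m / 2) * w⁻¹ = g ^ (m / 2) := by
      rw [← conj_pow, hinv, inv_pow]
      refine inv_eq_of_mul_eq_one_right ?_
      rw [← pow_add, show m / 2 + m / 2 = orderOf g by omega, pow_orderOf_eq_one]
    exact mul_inv_eq_iff_eq_mul.1 h1
  · rw [← h, mul_inv_cancel_right] at hinv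
    have h1 : g ^ 2 = 1 := by rw [pow_two]; nth_rewrite 2 [hinv]; exact mul_inv_cancel g
    have := Nat.le_of_dvd (by norm_num) (orderOf_dvd_of_pow_eq_one h1)
    omega

theorem mem_oddCore_of_centralizes (P : Sylow 2 H) (hP : IsKleinFour (P : Subgroup H))
    (hC : ∀ d ∈ (P : Subgroup H), d ≠ 1 → ∀ a b : H, a * d = d * a → b * d = d * b → a * b = b * a)
    {r : H} (hr : Odd (orderOf r)) (hrP : ∀ d ∈ (P : Subgroup H), r * d = d * r) : r ∈ oddCore H := by
  classical
  haveI : (oddCore H).Normal := CfsgLib.Core.normal_pPrimeCore 2 H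
  set π := QuotientGroup.mk' (oddCore H) with hπ
  have hodd := CfsgLib.ZStar.odd_card_oddCore H
  let Q : Sylow 2 (H ⧸ oddCore H) := P.mapSurjective (QuotientGroup.mk'_surjective _)
  have hQ : ∀ z, z ∈ (Q : Subgroup (H ⧸ oddCore H)) ↔ ∃ d ∈ (P : Subgroup H), π d = z := fun z => mem_map
  have hrbar : Odd (orderOf (π r)) := odd_orderOf_map π hr
  have hrQ : π r ∈ centralizer ((Q : Subgroup (H ⧸ oddCore H)) : Set (H ⧸ oddCore H)) := by
    rw [mem_centralizer_iff]
    intro z hz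
    obtain ⟨d, hd, rfl⟩ := (hQ z).1 hz
    rw [← map_mul, ← map_mul, hrP d hd]
  suffices h : π r = 1 from (QuotientGroup.eq_one_iff _).1 h
  have hab : IsMulCommutative (P : Subgroup H) := ⟨⟨fun a b => Subtype.ext
    (CfsgLib.TwoGroups.klein_comm hP a.2 b.2)⟩⟩
  have hsq : ∀ d ∈ (P : Subgroup H), d * d = 1 := fun d hd => CfsgLib.TwoGroups.klein_mul_self hP hd
  by_cases hsol : Group.IsSolvable (H ⧸ oddCore H)
  · have hcore := CfsgLib.Core.centralizer_pCore_le_of_pPrimeCore_eq_bot (p := 2)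
      (CfsgLib.Core.pPrimeCore_quotient_pPrimeCore 2 H)
    have hmem : π r ∈ pCore 2 (H ⧸ oddCore H) :=
      hcore (centralizer_le (CfsgLib.Core.pCore_le_sylow Q) hrQ)
    obtain ⟨k, hk⟩ := CfsgLib.Core.isPGroup_pCore 2 (H ⧸ oddCore H) ⟨π r, hmem⟩
    exact eq_one_of_odd_pow_two hrbar (congrArg Subtype.val hk)
  have hns : ¬ Group.IsSolvable H := fun h =>
    hsol (Group.isSolvable_of_surjective (QuotientGroup.mk'_surjective _))
  -- conjugates of the involutions of `P`
  have hinvo : ∀ t : H, orderOf t = 2 → ∀ a b : H, a * t = t * a → b * t = t * b → a * b = b * a := by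
    intro t ht a b ha hb
    have h2 : IsPGroup 2 (zpowers t) := IsPGroup.of_card (n := 1) (by rw [Nat.card_zpowers, ht, pow_one])
    obtain ⟨T, hT⟩ := h2.exists_le_sylow
    obtain ⟨g, hg⟩ := MulAction.exists_smul_eq H T P
    have hd : g * t * g⁻¹ ∈ (P : Subgroup H) := by
      rw [← hg, Sylow.coe_subgroup_smul]
      exact ⟨t, hT (mem_zpowers t), rfl⟩
    have hne : g * t * g⁻¹ ≠ 1 := fun h => by
      rw [conj_eq_one_iff] at h; rw [h, orderOf_one] at ht; norm_num at ht
    have conj_comm : ∀ z : H, z * t = t * z → g * z * g⁻¹ * (g * t * g⁻¹) = g * t * g⁻¹ * (g * z * g⁻¹) :=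
      fun z hz => by rw [conj_mul, hz, ← conj_mul]
    have h := hC _ hd hne _ _ (conj_comm a ha) (conj_comm b hb)
    rw [conj_mul, conj_mul] at h
    exact mul_left_cancel (mul_right_cancel h)
  have hqab : ∀ e : H ⧸ oddCore H, orderOf e = 2 → ∀ a b : H ⧸ oddCore H,
      a * e = e * a → b * e = e * b → a * b = b * a := by
    intro e he a b ha hb
    have h2 : IsPGroup 2 (zpowers e) := IsPGroup.of_card (n := 1) (by rw [Nat.card_zpowers, he, pow_one])
    obtain ⟨T, hT⟩ := h2.exists_le_sylow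
    obtain ⟨g, hg⟩ := MulAction.exists_smul_eq (H ⧸ oddCore H) T Q
    have hd : g * e * g⁻¹ ∈ (Q : Subgroup (H ⧸ oddCore H)) := by
      rw [← hg, Sylow.coe_subgroup_smul]
      exact ⟨e, hT (mem_zpowers e), rfl⟩
    obtain ⟨d, hd, hde⟩ := (hQ _).1 hd
    have hd1 : d ≠ 1 := by
      rintro rfl
      rw [map_one] at hde
      rw [conj_eq_one_iff.1 hde.symm, orderOf_one] at he
      norm_num at he
    obtain ⟨a', ha'⟩ := QuotientGroup.mk'_surjective (oddCore H) (g * a * g⁻¹)
    obtain ⟨b', hb'⟩ := QuotientGroup.mk'_surjective (oddCore H) (g * b * g⁻¹)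
    obtain ⟨m, hm, hma⟩ := centralizer_lift (hsq d hd) (c := a')
      (by rw [ha', ← hπ, hde, conj_mul, ha, ← conj_mul])
    obtain ⟨n, hn, hnb⟩ := centralizer_lift (hsq d hd) (c := b')
      (by rw [hb', ← hπ, hde, conj_mul, hb, ← conj_mul])
    have h := congrArg π (hC d hd hd1 _ _ hma hnb)
    rw [map_mul, map_mul π (b' * n) (a' * m), map_mul, map_mul, show π m = 1 from (QuotientGroup.eq_one_iff _).2 hm,
      show π n = 1 from (QuotientGroup.eq_one_iff _).2 hn, mul_one, mul_one, hπ, ha', hb', conj_mul,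
      conj_mul] at h
    exact mul_left_cancel (mul_right_cancel h)
  obtain ⟨F, _, _, hF, N, hNn, ⟨e⟩, hNc⟩ := (Cfsg.Agent.S3188.result P hab (fun t ht =>
    Group.isSolvable_of_comm fun a b => Subtype.ext
      (hinvo t ht _ _ (mem_centralizer_singleton_iff.1 a.2) (mem_centralizer_singleton_iff.1 b.2)))).resolve_left hns
  haveI := hNn
  have hQcard : Nat.card (Q : Subgroup (H ⧸ oddCore H)) = 4 := by
    have h := card_sylow_image (H := H) (P : Subgroup H) π
      (fun a ha h1 => by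
        have : a ∈ oddCore H := (QuotientGroup.eq_one_iff _).1 h1
        exact orderOf_eq_one_iff.1 (Nat.eq_one_of_dvd_coprimes (Nat.coprime_two_left.2 hodd)
          (orderOf_dvd_of_pow_eq_one (by rw [pow_two]; exact hsq a ha)) (Subgroup.orderOf_dvd_natCard _ this)))
    exact h.trans hP.card_four
  have hfac : (Nat.card (H ⧸ oddCore H)).factorization 2 = 2 := by
    have h := Q.card_eq_multiplicity
    rw [hQcard, show (4 : ℕ) = 2 ^ 2 by norm_num] at h
    exact (Nat.pow_right_injective le_rfl h).symm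
  have hcN : Nat.card N = Nat.card (Matrix.ProjectiveSpecialLinearGroup (Fin 2) F) := Nat.card_congr e.toEquiv
  have hcard := CfsgLib.Classical.Dickson.gcd_mul_card_psl (F := F) rfl
  have hNdvd : Nat.card N ∣ Nat.card (H ⧸ oddCore H) := card_subgroup_dvd_card N
  have h60 : Nat.card N = 60 := by
    rw [hcN]
    rcases hF with ⟨hq, h5⟩ | ⟨n, hn, hcF⟩
    · by_cases hb : Fintype.card F = 5
      · rw [hb] at hcard; norm_num at hcard; simp only [Nat.card_eq_fintype_card] at hcard ⊢; omega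
      · exfalso
        obtain ⟨g, w, i, hi, hgi, hwi, hgw⟩ := exists_noncomm_psl hq (by omega)
        let f : Matrix.ProjectiveSpecialLinearGroup (Fin 2) F →* H ⧸ oddCore H :=
          N.subtype.comp e.symm.toMonoidHom
        have hf : Function.Injective f := N.subtype_injective.comp e.symm.injective
        refine hgw (hf ?_)
        rw [map_mul, map_mul]
        exact hqab (f i) ((orderOf_injective f hf i).trans hi) _ _ (by rw [← map_mul, hgi, map_mul])
          (by rw [← map_mul, hwi, map_mul])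
    · rcases Nat.lt_or_ge n 3 with h | h
      · obtain rfl : n = 2 := by omega
        rw [hcF] at hcard; norm_num at hcard; simp only [Nat.card_eq_fintype_card] at hcard ⊢; exact hcard
      · exfalso
        rw [hcF, show Nat.gcd 2 (2 ^ n - 1) = 1 from Nat.coprime_two_left.2 (Nat.Even.sub_odd Nat.one_le_two_pow
          ((Nat.even_pow.2 ⟨even_two, by omega⟩)) odd_one), one_mul, ← hcN] at hcard
        have h8 : 2 ^ 3 ∣ Nat.card (H ⧸ oddCore H) :=
          ((pow_dvd_pow 2 h).trans (hcard ▸ dvd_mul_right _ _)).trans hNdvd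
        rw [Nat.Prime.pow_dvd_iff_le_factorization Nat.prime_two Nat.card_pos.ne', hfac] at h8
        omega
  haveI : IsSimpleGroup N := by
    have : 4 ≤ Fintype.card F := by
      rcases hF with ⟨-, h5⟩ | ⟨n, hn, hcF⟩
      · omega
      · rw [hcF]; exact le_trans (by norm_num) (Nat.pow_le_pow_right two_pos hn)
    haveI := CfsgLib.Classical.isSimpleGroup_PSL_two (F := F) this
    exact e.isSimpleGroup
  obtain ⟨α⟩ := CfsgLib.Recog.Sixty.iso_alt_five (G := N) h60
  have haut : Nat.card (MulAut N) = 120 := by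
    rw [← CfsgLib.Perm.SuborbitThree.aut_alt_five.1]
    exact Nat.card_congr (MulAut.congr α).toEquiv
  have hinj : Function.Injective (MulAut.conjNormal : (H ⧸ oddCore H) →* MulAut N) := by
    refine (injective_iff_map_eq_one _).2 fun g hg => ?_
    rw [← mem_bot, ← hNc, mem_centralizer_iff]
    intro z hz
    have h := congrArg Subtype.val (DFunLike.congr_fun hg ⟨z, hz⟩)
    rw [MulAut.conjNormal_apply, MulAut.one_apply] at h
    exact (mul_inv_eq_iff_eq_mul.1 h).symm
  have htop : N = ⊤ := by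
    refine eq_top_of_card_eq _ ?_
    have hle : Nat.card (H ⧸ oddCore H) ≤ 120 := haut ▸ Nat.card_le_card_of_injective _ hinj
    rw [h60] at hNdvd ⊢
    obtain ⟨k, hk⟩ := hNdvd
    have hk2 : k ≤ 2 := by omega
    interval_cases k
    · have := Nat.card_pos (α := H ⧸ oddCore H); omega
    · omega
    · exfalso
      have h8 : 2 ^ 3 ∣ Nat.card (H ⧸ oddCore H) := ⟨15, by rw [hk]; norm_num⟩
      rw [Nat.Prime.pow_dvd_iff_le_factorization Nat.prime_two Nat.card_pos.ne', hfac] at h8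
      omega
  let ψ : (H ⧸ oddCore H) ≃* alternatingGroup (Fin 5) :=
    (Subgroup.topEquiv.symm.trans (MulEquiv.subgroupCongr htop.symm)).trans α
  haveI : Nontrivial ↥(Q : Subgroup (H ⧸ oddCore H)) := by
    rw [← Finite.one_lt_card_iff_nontrivial, hQcard]; norm_num
  obtain ⟨⟨v, hv⟩, hv1⟩ := exists_ne (1 : ↥(Q : Subgroup (H ⧸ oddCore H)))
  replace hv1 : v ≠ 1 := fun h => hv1 (Subtype.ext h)
  have hvv : v * v = 1 := by
    obtain ⟨d, hd, rfl⟩ := (hQ v).1 hv
    rw [← map_mul, hsq d hd, map_one]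
  have hcomm : ψ (π r) * ψ v = ψ v * ψ (π r) := by
    rw [← map_mul, ← map_mul, (mem_centralizer_iff.1 hrQ v hv).symm]
  have h4 := CfsgLib.Recog.HJType.five_invol_centralizer (ψ v) (by rw [← map_mul, hvv, map_one])
    (fun h => hv1 (ψ.injective (h.trans (map_one ψ).symm)))
  let C : Subgroup (alternatingGroup (Fin 5)) := centralizer {ψ v}
  have hC4 : Nat.card C = 4 := by
    rw [← h4]
    exact Nat.card_congr (Equiv.subtypeEquivRight fun k => mem_centralizer_singleton_iff)
  have hdvd : orderOf (ψ (π r)) ∣ 2 ^ 2 := by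
    rw [show (2 : ℕ) ^ 2 = Nat.card C by rw [hC4]; rfl]
    exact Subgroup.orderOf_dvd_natCard C (mem_centralizer_singleton_iff.2 hcomm)
  rw [MulEquiv.orderOf_eq] at hdvd
  exact orderOf_eq_one_iff.1 (Nat.eq_one_of_dvd_coprimes ((Nat.coprime_two_left.2 hrbar).pow_left 2) hdvd dvd_rfl)

theorem isKleinFour_sub {K : Type*} [Group K] {V : Subgroup K} (hV : Nat.card V = 4)
    (hsq : ∀ v ∈ V, v * v = 1) : IsKleinFour V := by
  haveI : Finite V := Nat.finite_of_card_ne_zero (by omega)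
  haveI : Nontrivial V := by rw [← Finite.one_lt_card_iff_nontrivial, hV]; norm_num
  have h2 : Monoid.exponent V ∣ 2 := Monoid.exponent_dvd_of_forall_pow_eq_one fun v =>
    Subtype.ext (by rw [SubmonoidClass.coe_pow, pow_two]; exact hsq v v.2)
  exact { card_four := hV, exponent_two := ((Nat.prime_two.eq_one_or_self_of_dvd _ h2).resolve_left fun h => by
    obtain ⟨a, b, hab⟩ := exists_pair_ne V
    haveI := Monoid.exp_eq_one_iff.1 h
    exact hab (Subsingleton.elim a b)) }

/-- The structure of a group with a fused four-group whose involution centralisers are `P × R`. -/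
theorem four_local (P : Sylow 2 H) (hP : IsKleinFour (P : Subgroup H)) (R : Subgroup H)
    (hR : Odd (Nat.card R)) (hRc : ∀ a ∈ R, ∀ b ∈ R, a * b = b * a)
    (hRP : ∀ a ∈ R, ∀ d ∈ (P : Subgroup H), a * d = d * a)
    (hA : ∀ d ∈ (P : Subgroup H), d ≠ 1 → ∀ z : H, z * d = d * z →
      ∃ a ∈ (P : Subgroup H), ∃ b ∈ R, z = a * b)
    (hfus : ∃ g : H, (∀ d ∈ (P : Subgroup H), g * d * g⁻¹ ∈ (P : Subgroup H)) ∧
      ∃ d ∈ (P : Subgroup H), g * d * g⁻¹ ≠ d) :
    R = oddCore H ∧
      (((P : Subgroup H).map (QuotientGroup.mk' (oddCore H))).Normal ∧ Nat.card (H ⧸ oddCore H) = 12 ∨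
        Nonempty ((H ⧸ oddCore H) ≃* alternatingGroup (Fin 5))) := by
  classical
  haveI : (oddCore H).Normal := CfsgLib.Core.normal_pPrimeCore 2 H
  have hodd := CfsgLib.ZStar.odd_card_oddCore H
  have hsq : ∀ d ∈ (P : Subgroup H), d * d = 1 := fun d hd => CfsgLib.TwoGroups.klein_mul_self hP hd
  have hpc := fun {a b : H} (ha : a ∈ (P : Subgroup H)) (hb : b ∈ (P : Subgroup H)) =>
    CfsgLib.TwoGroups.klein_comm hP ha hb
  have hab : ∀ d ∈ (P : Subgroup H), d ≠ 1 → ∀ a b : H, a * d = d * a → b * d = d * b → a * b = b * a := by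
    intro d hd hd1 a b ha hb
    obtain ⟨a1, ha1, a2, ha2, rfl⟩ := hA d hd hd1 a ha
    obtain ⟨b1, hb1, b2, hb2, rfl⟩ := hA d hd hd1 b hb
    have c1 : Commute (a1 * a2) b1 := Commute.mul_left (hpc ha1 hb1) (hRP a2 ha2 b1 hb1)
    have c2 : Commute (a1 * a2) b2 := Commute.mul_left (hRP b2 hb2 a1 ha1).symm (hRc a2 ha2 b2 hb2)
    exact c1.mul_right c2
  have hle : R ≤ oddCore H := fun a ha =>
    mem_oddCore_of_centralizes P hP hab (hR.of_dvd_nat (Subgroup.orderOf_dvd_natCard R ha)) (hRP a ha)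
  -- two generators of `P`
  obtain ⟨t, ht, u, hu, ht1, hu1, htu⟩ : ∃ t ∈ (P : Subgroup H), ∃ u ∈ (P : Subgroup H),
      t ≠ 1 ∧ u ≠ 1 ∧ t ≠ u := by
    obtain ⟨g, hg, d, hd, hgd⟩ := hfus
    refine ⟨_, hg d hd, d, hd, fun h => ?_, fun h => ?_, hgd⟩
    · exact hgd (by rw [h, conj_eq_one_iff.1 h])
    · exact hgd (by rw [h]; group)
  have htu1 : t * u ≠ 1 := fun h => htu (mul_right_cancel (h.trans (hsq u hu).symm))
  have hcent : ∀ d ∈ (P : Subgroup H), d ≠ 1 → oddCore H ⊓ centralizer ({d} : Set H) = R := by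
    intro d hd hd1
    refine le_antisymm (fun z hz => ?_) (fun z hz => ⟨hle hz, mem_centralizer_singleton_iff.2 (hRP z hz d hd)⟩)
    obtain ⟨a, ha, b, hb, rfl⟩ := hA d hd hd1 z (mem_centralizer_singleton_iff.1 hz.2)
    have ha' : a ∈ oddCore H := by
      have h := (oddCore H).mul_mem hz.1 ((oddCore H).inv_mem (hle hb))
      rwa [mul_inv_cancel_right] at h
    have : a = 1 := orderOf_eq_one_iff.1 (Nat.eq_one_of_dvd_coprimes (Nat.coprime_two_left.2 hodd)
      (orderOf_dvd_of_pow_eq_one (by rw [pow_two]; exact hsq a ha)) (Subgroup.orderOf_dvd_natCard _ ha'))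
    rw [this, one_mul]; exact hb
  have hN : ∀ z : H, z ∈ normalizer ((oddCore H : Subgroup H) : Set H) := fun z => by
    rw [normalizer_eq_top_iff.2 inferInstance]; exact mem_top _
  haveI := Fintype.ofFinite H
  have hbw := CfsgLib.HallNumber.brauer_wielandt_subgroup (oddCore H) hodd (hsq t ht) (hsq u hu)
    (hpc ht hu) (hN t) (hN u)
  rw [hcent t ht ht1, hcent u hu hu1, hcent _ (mul_mem ht hu) htu1,
    show R ⊓ centralizer ({u} : Set H) = R from inf_eq_left.2 fun z hz =>
      mem_centralizer_singleton_iff.2 (hRP z hz u hu)] at hbw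
  have heq : R = oddCore H := by
    refine eq_of_le_of_card_ge hle (le_of_eq ?_)
    exact Nat.eq_of_mul_eq_mul_right (pow_pos Nat.card_pos 2 : 0 < Nat.card R ^ 2) (hbw.trans (by ring))
  refine ⟨heq, ?_⟩
  set π := QuotientGroup.mk' (oddCore H) with hπ
  let Q : Sylow 2 (H ⧸ oddCore H) := P.mapSurjective (QuotientGroup.mk'_surjective _)
  have hQ : ∀ z, z ∈ (Q : Subgroup (H ⧸ oddCore H)) ↔ ∃ d ∈ (P : Subgroup H), π d = z := fun z => mem_map
  have hinjP : ∀ a ∈ (P : Subgroup H), π a = 1 → a = 1 := fun a ha h =>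
    orderOf_eq_one_iff.1 (Nat.eq_one_of_dvd_coprimes (Nat.coprime_two_left.2 hodd)
      (orderOf_dvd_of_pow_eq_one (by rw [pow_two]; exact hsq a ha))
      (Subgroup.orderOf_dvd_natCard _ ((QuotientGroup.eq_one_iff _).1 h)))
  have hQcard : Nat.card (Q : Subgroup (H ⧸ oddCore H)) = 4 :=
    (card_sylow_image (P : Subgroup H) π hinjP).trans hP.card_four
  haveI hQK : IsKleinFour (Q : Subgroup (H ⧸ oddCore H)) := by
    refine CfsgLib.Recog.JankoThompson.isKleinFour_sub hQcard fun z hz => ?_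
    obtain ⟨d, hd, rfl⟩ := (hQ z).1 hz
    rw [← map_mul, hsq d hd, map_one]
  have hcu : ∀ e ∈ (Q : Subgroup (H ⧸ oddCore H)), e ≠ 1 →
      centralizer ({e} : Set (H ⧸ oddCore H)) = (Q : Subgroup (H ⧸ oddCore H)) := by
    intro e he he1
    refine le_antisymm (fun z hz => ?_) (fun z hz => mem_centralizer_singleton_iff.2 ?_)
    · obtain ⟨d, hd, rfl⟩ := (hQ e).1 he
      obtain ⟨c, rfl⟩ := QuotientGroup.mk'_surjective (oddCore H) z
      obtain ⟨n, hn, hcn⟩ := centralizer_lift (hsq d hd) (mem_centralizer_singleton_iff.1 hz)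
      obtain ⟨a, ha, b, hb, hab'⟩ := hA d hd (fun h => he1 (by rw [h, map_one])) _ hcn
      refine (hQ _).2 ⟨a, ha, ?_⟩
      have h := congrArg π hab'
      rw [map_mul, map_mul, show π n = 1 from (QuotientGroup.eq_one_iff _).2 hn,
        show π b = 1 from (QuotientGroup.eq_one_iff _).2 (hle hb), mul_one, mul_one] at h
      exact h.symm
    · obtain ⟨a, ha, rfl⟩ := (hQ z).1 hz
      obtain ⟨d, hd, rfl⟩ := (hQ e).1 he
      rw [← map_mul, ← map_mul, hpc ha hd]
  have hnc : ¬ HasNormalPComplement 2 (H ⧸ oddCore H) := by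
    obtain ⟨g, hg, d, hd, hgd⟩ := hfus
    intro hcomp
    obtain ⟨K, hK, hKQ⟩ := (CfsgLib.Transfer.exists_complement_iff Q).2 hcomp
    obtain ⟨⟨⟨k, hk⟩, ⟨s, hs⟩⟩, hks : k * s = π g⟩ := hKQ.2 (π g)
    have hdQ : π d ∈ (Q : Subgroup (H ⧸ oddCore H)) := (hQ _).2 ⟨d, hd, rfl⟩
    have he : π (g * d * g⁻¹) ∈ (Q : Subgroup (H ⧸ oddCore H)) := (hQ _).2 ⟨_, hg d hd, rfl⟩
    have h2 : π (g * d * g⁻¹) * (π d)⁻¹ ∈ K ⊓ (Q : Subgroup (H ⧸ oddCore H)) := by
      refine ⟨?_, (Q : Subgroup (H ⧸ oddCore H)).mul_mem he ((Q : Subgroup (H ⧸ oddCore H)).inv_mem hdQ)⟩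
      rw [map_mul, map_mul, map_inv, ← hks, mul_inv_rev, show k * s * π d * (s⁻¹ * k⁻¹) = k * (s * π d * s⁻¹) * k⁻¹ by group,
        CfsgLib.TwoGroups.klein_comm hQK hs hdQ, mul_inv_cancel_right,
        show k * π d * k⁻¹ * (π d)⁻¹ = k * (π d * k⁻¹ * (π d)⁻¹) by group]
      exact mul_mem hk (hK.conj_mem _ (inv_mem hk) _)
    rw [hKQ.disjoint.eq_bot, mem_bot] at h2
    refine hgd (mul_inv_eq_one.1 (hinjP _ (mul_mem (hg d hd) (inv_mem hd)) ?_))
    rw [map_mul, map_inv]
    exact h2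
  exact (CfsgLib.LocalEvenB.DEight.four_core Q hQK hcu hnc).1

end CfsgLib.Recog.JankoThompson
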