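import Cfsg.Agent.Lib.Recog.JankoThompson.ToriDef
import Cfsg.Agent.Lib.Recog.JankoThompson.LocalCore

/-!
# Section 1, basic facts: `D = ⟨t, w⟩`, `R` and their centralisers
-/

set_option autoImplicit false

namespace CfsgLib.Recog.JankoThompson

open Subgroup

universe u v

variable {G : Type u} [Group G] {Fq : Type v} [Field Fq] [Fintype Fq]

namespace Ctx

variable (c : Ctx G Fq)

theorem tt : c.t * c.t = 1 := by
  rw [← pow_two, ← c.ht, pow_orderOf_eq_one]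

theorem w2 : c.w * c.w = 1 := by
  have h := pow_orderOf_eq_one c.w
  rwa [c.hw, pow_two] at h

theorem y2 : c.y * c.y = 1 := by
  have h := pow_orderOf_eq_one c.y
  rwa [c.hy, pow_two] at h

theorem ww : c.ι c.w * c.ι c.w = 1 := by
  rw [← map_mul, c.w2, map_one]

theorem tw : c.t * c.ι c.w = c.ι c.w * c.t :=
  ((c.hC _).2 (Or.inl ⟨c.w, rfl⟩)).symm

theorem w_ne : c.ι c.w ≠ 1 := fun h => by
  have h1 := c.hw
  rw [c.inj (h.trans (map_one c.ι).symm), orderOf_one] at h1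
  norm_num at h1

theorem t_ne : c.t ≠ 1 := fun h => c.tnot (h ▸ one_mem _)

theorem t_ne_w : c.t ≠ c.ι c.w := fun h => c.tnot ⟨c.w, h.symm⟩

theorem tw_ne : c.t * c.ι c.w ≠ 1 := fun h =>
  c.t_ne_w (mul_right_cancel (h.trans c.ww.symm))

/-- The four-group `⟨t, w⟩`. -/
def Dg : Subgroup G where
  carrier := {z | z = 1 ∨ z = c.t ∨ z = c.ι c.w ∨ z = c.t * c.ι c.w}
  one_mem' := Or.inl rfl
  mul_mem' := by
    have h1 := c.tt
    have h2 := c.ww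
    have h3 := c.tw
    have h4 : c.t * (c.t * c.ι c.w) = c.ι c.w := by rw [← mul_assoc, h1, one_mul]
    have h5 : c.t * c.ι c.w * c.t = c.ι c.w := by rw [mul_assoc, ← h3, h4]
    have h6 : c.ι c.w * (c.t * c.ι c.w) = c.t := by rw [← mul_assoc, ← h3, mul_assoc, h2, mul_one]
    have h7 : c.t * c.ι c.w * c.ι c.w = c.t := by rw [mul_assoc, h2, mul_one]
    have h8 : c.t * c.ι c.w * (c.t * c.ι c.w) = 1 := by rw [← mul_assoc, h5, h2]
    rintro a b (rfl | rfl | rfl | rfl) (rfl | rfl | rfl | rfl) <;>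
      simp only [Set.mem_setOf_eq, one_mul, mul_one, h1, h2, h4, h5, h6, h7, h8, ← h3, true_or, or_true]
  inv_mem' := by
    have h8 : (c.t * c.ι c.w)⁻¹ = c.t * c.ι c.w := by
      rw [mul_inv_rev, inv_eq_of_mul_eq_one_right c.tt, inv_eq_of_mul_eq_one_right c.ww, c.tw]
    rintro a (rfl | rfl | rfl | rfl) <;>
      simp only [Set.mem_setOf_eq, inv_one, inv_eq_of_mul_eq_one_right c.tt,
        inv_eq_of_mul_eq_one_right c.ww, h8, true_or, or_true]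

theorem mem_Dg {z : G} : z ∈ c.Dg ↔ z = 1 ∨ z = c.t ∨ z = c.ι c.w ∨ z = c.t * c.ι c.w := Iff.rfl

theorem t_mem_Dg : c.t ∈ c.Dg := Or.inr (Or.inl rfl)

theorem w_mem_Dg : c.ι c.w ∈ c.Dg := Or.inr (Or.inr (Or.inl rfl))

theorem Dg_sq {z : G} (hz : z ∈ c.Dg) : z * z = 1 := by
  rcases hz with rfl | rfl | rfl | rfl
  · exact one_mul 1
  · exact c.tt
  · exact c.ww
  · rw [mul_assoc, ← mul_assoc (c.ι c.w), ← c.tw, mul_assoc c.t, c.ww, mul_one, c.tt]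

theorem Dg_card : Nat.card c.Dg = 4 := by
  classical
  rw [show Nat.card c.Dg = Nat.card (({1, c.t, c.ι c.w, c.t * c.ι c.w} : Finset G) : Set G) from
    Nat.card_congr (Equiv.subtypeEquivRight fun z => by simp [mem_Dg]), Nat.card_coe_set_eq,
    Set.ncard_coe_finset, Finset.card_insert_of_notMem, Finset.card_insert_of_notMem,
    Finset.card_insert_of_notMem, Finset.card_singleton]
  · simp only [Finset.mem_singleton]
    exact fun h => c.t_ne (mul_eq_right.1 h.symm)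
  · simp only [Finset.mem_insert, Finset.mem_singleton]
    exact fun h => h.elim c.t_ne_w fun h => c.w_ne (mul_eq_left.1 h.symm)
  · simp only [Finset.mem_insert, Finset.mem_singleton]
    exact fun h => h.elim (fun h => c.t_ne h.symm) fun h =>
      h.elim (fun h => c.w_ne h.symm) fun h => c.tw_ne h.symm

theorem mem_range_of_odd {z : G} (hz : z * c.t = c.t * z) (hodd : Odd (orderOf z)) : z ∈ c.ι.range := by
  refine ((c.hC z).1 hz).resolve_right fun h => c.tnot ?_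
  obtain ⟨k, hk⟩ := h
  have h1 : (c.t * z) ^ orderOf z = c.t := by
    rw [Commute.mul_pow (show Commute c.t z from hz.symm), pow_orderOf_eq_one, mul_one]
    obtain ⟨m, hm⟩ := hodd
    rw [hm, pow_succ, pow_mul, pow_two, c.tt, one_pow, one_mul]
  exact ⟨k ^ orderOf z, by rw [map_pow, hk, h1]⟩

theorem σ_ne_one : c.σ ≠ 1 := fun h => c.t_ne_w (by
  have h1 := c.σ_t
  rwa [h, one_mul, inv_one, mul_one] at h1)

theorem orderOf_σ : orderOf c.σ = 3 := orderOf_eq_prime c.σ_cube c.σ_ne_one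

theorem σ_tw : c.σ * (c.t * c.ι c.w) * c.σ⁻¹ = c.t := by
  rw [← conj_mul, c.σ_t, c.σ_w, c.tw, ← mul_assoc, c.ww, one_mul]

theorem σ_Dg {z : G} (hz : z ∈ c.Dg) : c.σ * z * c.σ⁻¹ ∈ c.Dg := by
  rcases hz with rfl | rfl | rfl | rfl
  · exact Or.inl (by group)
  · exact Or.inr (Or.inr (Or.inl c.σ_t))
  · exact Or.inr (Or.inr (Or.inr c.σ_w))
  · exact Or.inr (Or.inl c.σ_tw)

theorem σ_pow_Dg (j : ℕ) : ∀ {z : G}, z ∈ c.Dg → c.σ ^ j * z * (c.σ ^ j)⁻¹ ∈ c.Dg := by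
  induction j with
  | zero => intro z hz; simpa using hz
  | succ j ih =>
    intro z hz
    have h := c.σ_Dg (ih hz)
    rwa [show c.σ * (c.σ ^ j * z * (c.σ ^ j)⁻¹) * c.σ⁻¹ = c.σ ^ (j + 1) * z * (c.σ ^ (j + 1))⁻¹ by
      rw [pow_succ']; group] at h

theorem orbit {d : G} (hd : d ∈ c.Dg) (hd1 : d ≠ 1) : ∃ j < 3, c.σ ^ j * c.t * (c.σ ^ j)⁻¹ = d := by
  rcases hd with rfl | rfl | rfl | rfl
  · exact absurd rfl hd1
  · exact ⟨0, by norm_num, by simp⟩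
  · exact ⟨1, by norm_num, by simpa using c.σ_t⟩
  · refine ⟨2, by norm_num, ?_⟩
    rw [show c.σ ^ 2 * c.t * (c.σ ^ 2)⁻¹ = c.σ * (c.σ * c.t * c.σ⁻¹) * c.σ⁻¹ by rw [pow_two]; group,
      c.σ_t, c.σ_w]

theorem y_comm : c.ι c.y * c.t = c.t * c.ι c.y := (c.hC _).2 (Or.inl ⟨c.y, rfl⟩)

theorem x_t : c.x * c.t = c.t * c.x := by rw [Ctx.x, mul_assoc, c.y_comm]

theorem x_w : c.x * c.ι c.w = c.ι c.w * c.x := by
  rw [Ctx.x, mul_assoc, ← map_mul, ← c.hwy, map_mul, ← mul_assoc, c.tw, mul_assoc]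

theorem x_sq : c.x * c.x = 1 := by
  rw [Ctx.x, mul_assoc, ← mul_assoc (c.ι c.y), c.y_comm, mul_assoc c.t, ← map_mul, c.y2, map_one, mul_one, c.tt]

theorem x_σ : c.x * c.σ = c.σ * c.x := by
  obtain ⟨s, hs⟩ := c.σ_mem
  have h : c.g * (c.ι s * c.t) * c.g⁻¹ = c.g * (c.t * c.ι s) * c.g⁻¹ := by rw [(c.hC _).2 (Or.inl ⟨s, rfl⟩)]
  rw [← conj_mul, ← conj_mul, c.hgx, hs, show c.g * (c.g⁻¹ * c.σ * c.g) * c.g⁻¹ = c.σ by group] at h
  exact h.symm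

/-- the odd part of `C_K(w)` in `G` -/
def Rg {p : ℕ} (T : Tori Fq c.w p c.e c.f) : Subgroup G := T.R.map c.ι

/-- membership in `D × R` -/
def InA {p : ℕ} (T : Tori Fq c.w p c.e c.f) (z : G) : Prop :=
  ∃ d ∈ c.Dg, ∃ a ∈ c.Rg T, z = d * a

variable {p : ℕ} (T : Tori Fq c.w p c.e c.f)

theorem e_odd : Odd c.e := by
  have h : c.q % 8 = 3 ∨ c.q % 8 = 5 := c.hq
  rw [Nat.odd_iff]
  unfold e
  split_ifs <;> omega

theorem q_eq : c.q = 2 * c.e + c.f := by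
  have h : c.q % 8 = 3 ∨ c.q % 8 = 5 := c.hq
  unfold e f
  split_ifs <;> omega

theorem e_ne_one : c.e ≠ 1 := by
  have h : c.q % 8 = 3 ∨ c.q % 8 = 5 := c.hq
  have h' : 11 ≤ c.q := c.hbig
  unfold e
  split_ifs <;> omega

theorem card_Rg : Nat.card (c.Rg T) = c.e := by
  rw [Rg, Subgroup.card_map_of_injective c.inj, T.card_R]

theorem mem_Rg {z : G} :
    z ∈ c.Rg T ↔ Odd (orderOf z) ∧ z * c.t = c.t * z ∧ z * c.ι c.w = c.ι c.w * z := by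
  constructor
  · rintro ⟨r, hr, rfl⟩
    obtain ⟨h1, h2⟩ := (T.mem_R r).1 hr
    exact ⟨by rw [orderOf_injective c.ι c.inj]; exact h1, (c.hC _).2 (Or.inl ⟨r, rfl⟩),
      by rw [← map_mul, h2, map_mul]⟩
  · rintro ⟨h1, h2, h3⟩
    obtain ⟨r, rfl⟩ := c.mem_range_of_odd h2 h1
    rw [orderOf_injective c.ι c.inj] at h1
    rw [← map_mul, ← map_mul] at h3
    exact ⟨r, (T.mem_R r).2 ⟨h1, c.inj h3⟩, rfl⟩

theorem Rg_comm {a b : G} (ha : a ∈ c.Rg T) (hb : b ∈ c.Rg T) : a * b = b * a := by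
  obtain ⟨r, hr, rfl⟩ := ha
  obtain ⟨s, hs, rfl⟩ := hb
  haveI := T.R_cyclic
  letI := IsCyclic.commGroup (α := T.R)
  rw [← map_mul, ← map_mul, show r * s = s * r from congrArg Subtype.val (mul_comm (⟨r, hr⟩ : T.R) ⟨s, hs⟩)]

theorem Rg_Dg {a d : G} (ha : a ∈ c.Rg T) (hd : d ∈ c.Dg) : a * d = d * a := by
  obtain ⟨-, h2, h3⟩ := (c.mem_Rg T).1 ha
  rcases hd with rfl | rfl | rfl | rfl
  · rw [mul_one, one_mul]
  · exact h2
  · exact h3
  · exact (show Commute a c.t from h2).mul_right h3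

theorem σ_Rg {a : G} (ha : a ∈ c.Rg T) : c.σ * a * c.σ⁻¹ ∈ c.Rg T := by
  obtain ⟨h1, -, -⟩ := (c.mem_Rg T).1 ha
  refine (c.mem_Rg T).2 ⟨?_, ?_, ?_⟩
  · rw [show c.σ * a * c.σ⁻¹ = MulAut.conj c.σ a from rfl, MulEquiv.orderOf_eq]; exact h1
  · have h' : Commute (MulAut.conj c.σ a) (MulAut.conj c.σ (c.t * c.ι c.w)) := Commute.map
      (c.Rg_Dg T ha (show c.t * c.ι c.w ∈ c.Dg from Or.inr (Or.inr (Or.inr rfl)))) (MulAut.conj c.σ)
    rw [MulAut.conj_apply, MulAut.conj_apply, c.σ_tw] at h'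
    exact h'
  · have h' : Commute (MulAut.conj c.σ a) (MulAut.conj c.σ c.t) := Commute.map
      (c.Rg_Dg T ha c.t_mem_Dg) (MulAut.conj c.σ)
    rw [MulAut.conj_apply, MulAut.conj_apply, c.σ_t] at h'
    exact h'

theorem σ_pow_Rg (j : ℕ) : ∀ {a : G}, a ∈ c.Rg T → c.σ ^ j * a * (c.σ ^ j)⁻¹ ∈ c.Rg T := by
  induction j with
  | zero => intro a ha; simpa using ha
  | succ j ih =>
    intro a ha
    have h := c.σ_Rg T (ih ha)
    rwa [show c.σ * (c.σ ^ j * a * (c.σ ^ j)⁻¹) * c.σ⁻¹ = c.σ ^ (j + 1) * a * (c.σ ^ (j + 1))⁻¹ by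
      rw [pow_succ']; group] at h

theorem x_Rg {a : G} (ha : a ∈ c.Rg T) : c.x * a * c.x⁻¹ = a⁻¹ := by
  obtain ⟨r, hr, rfl⟩ := ha
  have hy : c.y * r * c.y⁻¹ = r⁻¹ := by
    rcases T.cent_w c.y c.hwy.symm with h | h | ⟨-, h⟩
    · have h1 := ((T.mem_R _).1 h).1
      rw [c.hy] at h1
      exact absurd h1 (by decide)
    · exfalso
      have h1 := ((T.mem_R _).1 h).1
      have h2 : (c.w * c.y) * (c.w * c.y) = 1 := by
        nth_rewrite 2 [c.hwy]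
        rw [mul_assoc, ← mul_assoc c.y, c.y2, one_mul, c.w2]
      have h3 : c.w * c.y = 1 := orderOf_eq_one_iff.1 (Nat.eq_one_of_dvd_coprimes (Nat.coprime_two_left.2 h1)
        (orderOf_dvd_of_pow_eq_one (by rw [pow_two]; exact h2)) dvd_rfl)
      refine c.hne (mul_left_cancel (a := c.w) ?_)
      rw [h3, c.w2]
    · exact h r hr
  have ht : c.t * c.ι r⁻¹ * c.t⁻¹ = c.ι r⁻¹ :=
    mul_inv_eq_iff_eq_mul.2 ((c.hC _).2 (Or.inl ⟨r⁻¹, rfl⟩)).symm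
  rw [Ctx.x, show c.t * c.ι c.y * c.ι r * (c.t * c.ι c.y)⁻¹ = c.t * c.ι (c.y * r * c.y⁻¹) * c.t⁻¹ by
    rw [map_mul, map_mul, map_inv]; group, hy, ht, map_inv]

variable {c T}

theorem InA.comm {a b : G} (ha : c.InA T a) (hb : c.InA T b) : a * b = b * a := by
  obtain ⟨d, hd, u, hu, rfl⟩ := ha
  obtain ⟨d', hd', u', hu', rfl⟩ := hb
  have hdd : d * d' = d' * d := by
    have h := c.Dg_sq (mul_mem hd hd')
    calc d * d' = (d * d')⁻¹ := (inv_eq_of_mul_eq_one_right h).symm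
      _ = _ := by rw [mul_inv_rev, inv_eq_of_mul_eq_one_right (c.Dg_sq hd), inv_eq_of_mul_eq_one_right (c.Dg_sq hd')]
  have c1 : Commute (d * u) d' := Commute.mul_left hdd (c.Rg_Dg T hu hd')
  have c2 : Commute (d * u) u' := Commute.mul_left (c.Rg_Dg T hu' hd).symm (c.Rg_comm T hu hu')
  exact c1.mul_right c2

theorem InA.mem_Dg {z : G} (hz : c.InA T z) (h : z * z = 1) : z ∈ c.Dg := by
  obtain ⟨d, hd, a, ha, rfl⟩ := hz
  rw [← pow_two, (show Commute d a from (c.Rg_Dg T ha hd).symm).mul_pow, pow_two, c.Dg_sq hd, one_mul] at h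
  have : a = 1 := orderOf_eq_one_iff.1 (Nat.eq_one_of_dvd_coprimes
    (Nat.coprime_two_left.2 ((c.mem_Rg T).1 ha).1) (orderOf_dvd_of_pow_eq_one h) dvd_rfl)
  rw [this, mul_one]; exact hd

theorem InA.mem_Rg {z : G} (hz : c.InA T z) (h : Odd (orderOf z)) : z ∈ c.Rg T := by
  obtain ⟨d, hd, a, ha, rfl⟩ := hz
  have h1 := pow_orderOf_eq_one (d * a)
  obtain ⟨m, hm⟩ := h
  have hcd : Commute d a := (c.Rg_Dg T ha hd).symm
  rw [hcd.mul_pow, hm, pow_succ, pow_mul, pow_two, c.Dg_sq hd, one_pow, one_mul] at h1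
  have hdm : d ∈ c.Rg T := by
    rw [eq_inv_of_mul_eq_one_left h1]; exact inv_mem (pow_mem ha _)
  exact mul_mem hdm ha

variable (c T)

theorem InA.of_Dg {d : G} (hd : d ∈ c.Dg) : c.InA T d := ⟨d, hd, 1, one_mem _, (mul_one d).symm⟩

theorem inA_of_comm_t {a z : G} (ha : a ∈ c.Rg T) (ha1 : a ≠ 1) (hzt : z * c.t = c.t * z)
    (hza : z * a = a * z) : c.InA T z := by
  obtain ⟨r, hr, rfl⟩ := ha
  have hr1 : r ≠ 1 := fun h => ha1 (by rw [h, map_one])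
  have key : ∀ k, c.ι k * c.ι r = c.ι r * c.ι k → ∃ d ∈ c.Dg, ∃ a ∈ c.Rg T, c.ι k = d * a := by
    intro k hk
    rw [← map_mul, ← map_mul] at hk
    rcases (T.cent_R r hr hr1 k).1 (c.inj hk) with h | h
    · exact ⟨1, one_mem _, _, ⟨k, h, rfl⟩, (one_mul _).symm⟩
    · exact ⟨c.ι c.w, c.w_mem_Dg, _, ⟨_, h, rfl⟩, by rw [map_mul, ← mul_assoc, c.ww, one_mul]⟩
  rcases (c.hC z).1 hzt with ⟨k, rfl⟩ | ⟨k, hk⟩
  · exact key k hza
  · have hz : z = c.t * c.ι k := by rw [hk, ← mul_assoc, c.tt, one_mul]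
    have h' : c.ι k * c.ι r = c.ι r * c.ι k := by
      rw [hk]
      exact (show Commute c.t (c.ι r) from ((c.hC _).2 (Or.inl ⟨r, rfl⟩)).symm).mul_left hza
    obtain ⟨d, hd, a, ha, e⟩ := key k h'
    exact ⟨c.t * d, mul_mem c.t_mem_Dg hd, a, ha, by rw [hz, e, mul_assoc]⟩

theorem inA_of_comm {a z d : G} (ha : a ∈ c.Rg T) (ha1 : a ≠ 1) (hd : d ∈ c.Dg) (hd1 : d ≠ 1)
    (hzd : z * d = d * z) (hza : z * a = a * z) : c.InA T z := by
  obtain ⟨j, hj, rfl⟩ := c.orbit hd hd1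
  obtain ⟨k, hk⟩ : ∃ k, c.σ ^ k = (c.σ ^ j)⁻¹ := ⟨3 - j, eq_inv_of_mul_eq_one_left (by
    rw [← pow_add, Nat.sub_add_cancel hj.le, c.σ_cube])⟩
  have hj' : (c.σ ^ k)⁻¹ = c.σ ^ j := by rw [hk, inv_inv]
  have h1 := c.inA_of_comm_t T (c.σ_pow_Rg T k ha) (fun h => ha1 (conj_eq_one_iff.1 h))
    (z := c.σ ^ k * z * (c.σ ^ k)⁻¹) (by
      rw [show c.t = c.σ ^ k * (c.σ ^ j * c.t * (c.σ ^ j)⁻¹) * (c.σ ^ k)⁻¹ by rw [hk]; group,
        conj_mul, hzd, ← conj_mul]) (by rw [conj_mul, hza, ← conj_mul])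
  obtain ⟨d, hd, u, hu, e⟩ := h1
  refine ⟨_, c.σ_pow_Dg j hd, _, c.σ_pow_Rg T j hu, ?_⟩
  rw [conj_mul, ← e, hk]
  group

theorem conj_cases {a b z : G} (ha : a ∈ c.Rg T) (hb : b ∈ c.Rg T) (hz : z * c.t = c.t * z)
    (h : z * a * z⁻¹ = b) : b = a ∨ b = a⁻¹ := by
  obtain ⟨r, hr, rfl⟩ := ha
  obtain ⟨s, hs, rfl⟩ := hb
  obtain ⟨k, hk⟩ : ∃ k, c.ι (k * r * k⁻¹) = c.ι s := by
    rcases (c.hC z).1 hz with ⟨k, rfl⟩ | ⟨k, hk⟩
    · exact ⟨k, by rw [map_mul, map_mul, map_inv]; exact h⟩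
    · refine ⟨k, ?_⟩
      rw [map_mul, map_mul, map_inv, hk, show c.t * z * c.ι r * (c.t * z)⁻¹ = c.t * (z * c.ι r * z⁻¹) * c.t⁻¹ by group,
        h]
      exact mul_inv_eq_iff_eq_mul.2 ((c.hC _).2 (Or.inl ⟨s, rfl⟩)).symm
  have hs' := c.inj hk
  rcases T.fusion_R r hr k (hs'.symm ▸ hs) with h1 | h1 <;> rw [hs'] at h1
  · exact Or.inl (by rw [h1])
  · exact Or.inr (by rw [h1, map_inv])

variable [Finite G]

theorem eq_Dg_of_two_group {a : G} (ha : a ∈ c.Rg T) (ha1 : a ≠ 1) {P : Subgroup G}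
    (hP : IsPGroup 2 P) (hPa : ∀ z ∈ P, z * a = a * z) (hD : c.Dg ≤ P) : P = c.Dg := by
  refine le_antisymm (fun z hz => ?_) hD
  have hsq : ∀ z ∈ P, z * z = 1 := fun z hz => by
    obtain ⟨k, hk⟩ := hP ⟨z, hz⟩
    exact c.two_sq z ⟨k, congrArg Subtype.val hk⟩
  have ht : z * c.t = c.t * z := by
    have h := hsq _ (P.mul_mem hz (hD c.t_mem_Dg))
    calc z * c.t = (z * c.t)⁻¹ := (inv_eq_of_mul_eq_one_right h).symm
      _ = _ := by rw [mul_inv_rev, inv_eq_of_mul_eq_one_right (hsq z hz), inv_eq_of_mul_eq_one_right c.tt]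
  exact (c.inA_of_comm_t T ha ha1 ht (hPa z hz)).mem_Dg (hsq z hz)

theorem exists_sylow_H {a : G} (ha : a ∈ c.Rg T) (ha1 : a ≠ 1) :
    ∃ P : Sylow 2 (centralizer ({a} : Set G)),
      IsKleinFour (P : Subgroup (centralizer ({a} : Set G))) ∧
      ∀ z : centralizer ({a} : Set G), z ∈ (P : Subgroup (centralizer ({a} : Set G))) ↔ (z : G) ∈ c.Dg := by
  haveI : Fact (Nat.Prime 2) := ⟨Nat.prime_two⟩
  have hDle : c.Dg ≤ centralizer ({a} : Set G) := fun d hd =>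
    mem_centralizer_singleton_iff.2 (c.Rg_Dg T ha hd).symm
  have hD2 : IsPGroup 2 (c.Dg.subgroupOf (centralizer ({a} : Set G))) := fun z =>
    ⟨1, Subtype.ext (Subtype.ext (by
      rw [SubmonoidClass.coe_pow, SubmonoidClass.coe_pow, pow_one, pow_two]; exact c.Dg_sq z.2))⟩
  obtain ⟨P, hP⟩ := hD2.exists_le_sylow
  have he := c.eq_Dg_of_two_group T ha ha1 (P.2.map (centralizer ({a} : Set G)).subtype)
    (by rintro _ ⟨z, -, rfl⟩; exact mem_centralizer_singleton_iff.1 z.2)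
    (fun d hd => ⟨⟨d, hDle hd⟩, hP hd, rfl⟩)
  have hmem : ∀ z : centralizer ({a} : Set G), z ∈ (P : Subgroup (centralizer ({a} : Set G))) ↔ (z : G) ∈ c.Dg := by
    intro z
    rw [← he]
    exact ⟨fun h => ⟨z, h, rfl⟩, fun ⟨y, hy, e⟩ => Subtype.ext e ▸ hy⟩
  refine ⟨P, isKleinFour_sub ?_ fun z hz => Subtype.ext (c.Dg_sq ((hmem z).1 hz)), hmem⟩
  rw [← c.Dg_card, ← he, Subgroup.card_map_of_injective (subtype_injective _)]

end Ctx

end CfsgLib.Recog.JankoThompson
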