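import Cfsg.Agent.Lib.Recog.JankoThompson.LocalBasic

/-!
# The centraliser of an element of `R` fixed by `σ`
-/

set_option autoImplicit false

namespace CfsgLib.Recog.JankoThompson

open Subgroup Cfsg

universe u v

theorem mem_zpowers_of_pow {A : Type u} [Group A] [Finite A] (R : Subgroup A) [hR : IsCyclic R] {a x : A}
    (ha : a ∈ R) (hx : x ∈ R) {l : ℕ} (hl : 0 < l) (hal : orderOf a = l) (hxl : x ^ l = 1) : x ∈ zpowers a := by
  classical
  haveI := Fintype.ofFinite R
  set a' : R := ⟨a, ha⟩ with ha'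
  have hcard : (Finset.univ.filter fun y : R => y ∈ zpowers a').card = l := by
    rw [← Fintype.card_subtype, ← Nat.card_eq_fintype_card, show Nat.card {y : R // y ∈ zpowers a'} = Nat.card (zpowers a') from rfl,
      Nat.card_zpowers, ← Subgroup.orderOf_coe, hal]
  have hsub : (Finset.univ.filter fun y : R => y ∈ zpowers a') ⊆ Finset.univ.filter fun y : R => y ^ l = 1 := by
    intro y hy
    simp only [Finset.mem_filter, Finset.mem_univ, true_and] at hy ⊢
    obtain ⟨k, rfl⟩ := hy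
    rw [← zpow_natCast, ← zpow_mul, mul_comm, zpow_mul, zpow_natCast,
      show a' ^ l = 1 from Subtype.ext (by rw [SubmonoidClass.coe_pow, OneMemClass.coe_one, ← hal]; exact pow_orderOf_eq_one a),
      one_zpow]
  have he := Finset.eq_of_subset_of_card_le hsub (by rw [hcard]; exact IsCyclic.card_pow_eq_one_le hl)
  have hm : (⟨x, hx⟩ : R) ∈ Finset.univ.filter fun y : R => y ^ l = 1 := by
    simp only [Finset.mem_filter, Finset.mem_univ, true_and]
    exact Subtype.ext hxl
  rw [← he] at hm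
  simp only [Finset.mem_filter, Finset.mem_univ, true_and] at hm
  obtain ⟨k, hk⟩ := hm
  exact ⟨k, congrArg Subtype.val hk⟩

theorem five_three_self : ∀ a b : alternatingGroup (Fin 5), a ^ 3 = 1 → a ≠ 1 → b * a = a * b →
    b = 1 ∨ b = a ∨ b = a * a := by
  decide +kernel

theorem five_three_inverted : ∀ a : alternatingGroup (Fin 5), a ^ 3 = 1 →
    ∃ i : alternatingGroup (Fin 5), i * i = 1 ∧ i * a * i⁻¹ * a = 1 := by
  decide +kernel

variable {G : Type u} [Group G] {Fq : Type v} [Field Fq] [Fintype Fq] [Finite G]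

namespace Ctx

variable (c : Ctx G Fq) {p : ℕ} (T : Tori Fq c.w p c.e c.f)

/-- the trace of `R` in a centraliser -/
abbrev RH (a : G) : Subgroup (centralizer ({a} : Set G)) := (c.Rg T).subgroupOf _

theorem card_RH {a : G} (ha : a ∈ c.Rg T) : Nat.card (c.RH T a) = c.e := by
  rw [← c.card_Rg T]
  exact Nat.card_congr (subgroupOfEquivOfLe fun b hb =>
    mem_centralizer_singleton_iff.2 (c.Rg_comm T hb ha)).toEquiv

theorem fixed_shape {a : G} (ha : a ∈ c.Rg T) (ha1 : a ≠ 1) (hσ : c.σ * a = a * c.σ) :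
    c.RH T a = oddCore (centralizer ({a} : Set G)) ∧
      ∃ P : Sylow 2 (centralizer ({a} : Set G)),
        (∀ z : centralizer ({a} : Set G), z ∈ (P : Subgroup (centralizer ({a} : Set G))) ↔ (z : G) ∈ c.Dg) ∧
        (((P : Subgroup (centralizer ({a} : Set G))).map (QuotientGroup.mk' (oddCore (centralizer ({a} : Set G))))).Normal ∧
            Nat.card (centralizer ({a} : Set G) ⧸ oddCore (centralizer ({a} : Set G))) = 12 ∨
          Nonempty ((centralizer ({a} : Set G) ⧸ oddCore (centralizer ({a} : Set G))) ≃* alternatingGroup (Fin 5))) := by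
  obtain ⟨P, hPK, hP⟩ := c.exists_sylow_H T ha ha1
  have hodd : Odd (Nat.card (c.RH T a)) := c.card_RH T ha ▸ c.e_odd
  have hσH : c.σ ∈ centralizer ({a} : Set G) := mem_centralizer_singleton_iff.2 hσ
  obtain ⟨h1, h2⟩ := four_local P hPK (c.RH T a) hodd
    (fun b hb b' hb' => Subtype.ext (c.Rg_comm T hb hb'))
    (fun b hb d hd => Subtype.ext (c.Rg_Dg T hb ((hP d).1 hd)))
    (fun d hd hd1 z hz => by
      obtain ⟨d', hd', b, hb, e⟩ := c.inA_of_comm T ha ha1 ((hP d).1 hd) (fun h => hd1 (Subtype.ext h))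
        (congrArg Subtype.val hz) (mem_centralizer_singleton_iff.1 z.2)
      exact ⟨⟨d', mem_centralizer_singleton_iff.2 (c.Rg_Dg T ha hd').symm⟩, (hP _).2 hd',
        ⟨b, mem_centralizer_singleton_iff.2 (c.Rg_comm T hb ha)⟩, hb, Subtype.ext e⟩)
    ⟨⟨c.σ, hσH⟩, fun d hd => (hP _).2 (c.σ_Dg ((hP d).1 hd)),
      ⟨c.t, mem_centralizer_singleton_iff.2 (c.Rg_Dg T ha c.t_mem_Dg).symm⟩, (hP _).2 c.t_mem_Dg, fun h =>
        c.t_ne_w ((congrArg Subtype.val h).symm.trans c.σ_t)⟩
  exact ⟨h1, P, hP, h2⟩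

theorem σ_not_mem_Rg : c.σ ∉ c.Rg T := fun h => by
  have h1 := ((c.mem_Rg T).1 h).2.1
  refine c.t_ne_w ?_
  rw [← c.σ_t, h1, mul_inv_cancel_right]

/-- The elements of odd order of `C(a)` centralising `σ`. -/
theorem fixed_cent {a : G} (ha : a ∈ c.Rg T) (ha1 : a ≠ 1) (hσ : c.σ * a = a * c.σ) {z : G}
    (hza : z * a = a * z) (hzσ : z * c.σ = c.σ * z) (hzo : Odd (orderOf z)) :
    ∃ b ∈ c.Rg T, ∃ j : ℕ, z = b * c.σ ^ j := by
  classical
  set H := centralizer ({a} : Set G) with hH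
  obtain ⟨hO, P, hP, hshape⟩ : c.RH T a = oddCore H ∧ ∃ P : Sylow 2 H,
      (∀ z : H, z ∈ (P : Subgroup H) ↔ (z : G) ∈ c.Dg) ∧
      (((P : Subgroup H).map (QuotientGroup.mk' (oddCore H))).Normal ∧ Nat.card (H ⧸ oddCore H) = 12 ∨
        Nonempty ((H ⧸ oddCore H) ≃* alternatingGroup (Fin 5))) := c.fixed_shape T ha ha1 hσ
  haveI : (oddCore H).Normal := CfsgLib.Core.normal_pPrimeCore 2 H
  set π := QuotientGroup.mk' (oddCore H) with hπ
  let σ' : H := ⟨c.σ, mem_centralizer_singleton_iff.2 hσ⟩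
  let z' : H := ⟨z, mem_centralizer_singleton_iff.2 hza⟩
  have hker : ∀ y : H, π y = 1 ↔ (y : G) ∈ c.Rg T := fun y => by
    rw [hπ, QuotientGroup.mk'_apply, QuotientGroup.eq_one_iff, ← hO]; exact mem_subgroupOf
  suffices h : ∃ j : ℕ, π z' = π σ' ^ j by
    obtain ⟨j, hj⟩ := h
    refine ⟨z * (c.σ ^ j)⁻¹, ?_, j, by rw [inv_mul_cancel_right]⟩
    exact (hker (z' * (σ' ^ j)⁻¹)).1 (by rw [map_mul, map_inv, map_pow, hj, mul_inv_cancel])
  have hcm : π z' * π σ' = π σ' * π z' := by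
    rw [← map_mul, ← map_mul, show z' * σ' = σ' * z' from Subtype.ext hzσ]
  have hs3 : π σ' ^ 3 = 1 := by rw [← map_pow, show σ' ^ 3 = 1 from Subtype.ext c.σ_cube, map_one]
  have hs1 : π σ' ≠ 1 := fun h => c.σ_not_mem_Rg T ((hker σ').1 h)
  rcases hshape with ⟨hn, h12⟩ | ⟨⟨θ⟩⟩
  · set V := (P : Subgroup H).map π with hV
    haveI : V.Normal := hn
    have hV4 : Nat.card V = 4 := by
      rw [hV, card_sylow_image (P : Subgroup H) π (fun y hy h => Subtype.ext
        (orderOf_eq_one_iff.1 (Nat.eq_one_of_dvd_coprimes (Nat.coprime_two_left.2 ((c.mem_Rg T).1 ((hker y).1 h)).1)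
            (orderOf_dvd_of_pow_eq_one (by rw [pow_two]; exact c.Dg_sq ((hP y).1 hy))) dvd_rfl)))]
      have h := c.Dg_card
      rw [← h]
      exact Nat.card_congr
        { toFun := fun y => ⟨(y.1 : G), (hP _).1 y.2⟩
          invFun := fun d => ⟨⟨d.1, mem_centralizer_singleton_iff.2 (c.Rg_Dg T ha d.2).symm⟩, (hP _).2 d.2⟩
          left_inv := fun _ => rfl
          right_inv := fun _ => rfl }
    -- an element of `V` centralising `σ` is trivial
    have hfix : ∀ v ∈ V, v * π σ' = π σ' * v → v = 1 := by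
      rintro _ ⟨y, hy, rfl⟩ hc
      by_contra hne
      have hyy : y * y = 1 := Subtype.ext (c.Dg_sq ((hP y).1 hy))
      obtain ⟨n, hn', hcn⟩ := centralizer_lift hyy (c := σ') hc.symm
      have hyD := (hP y).1 hy
      have hy1 : (y : G) ≠ 1 := fun h => hne (by rw [show y = 1 from Subtype.ext h, map_one])
      obtain ⟨d, hd, b, hb, e⟩ := c.inA_of_comm T ha ha1 hyD hy1 (congrArg Subtype.val hcn)
        (mem_centralizer_singleton_iff.1 (σ' * n).2)
      have hnR : (n : G) ∈ c.Rg T := by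
        rw [← hO] at hn'; exact mem_subgroupOf.1 hn'
      refine c.σ_ne_one ?_
      have h1 : c.σ = d * (b * (n : G)⁻¹) := by
        rw [← mul_assoc, ← e, Subgroup.coe_mul, mul_inv_cancel_right]
      have hA : c.InA T c.σ := ⟨d, hd, _, mul_mem hb (inv_mem hnR), h1⟩
      exact absurd (hA.mem_Rg (by rw [c.orderOf_σ]; decide)) (c.σ_not_mem_Rg T)
    have hσV : π σ' ∉ V := fun h => hs1 (by
      obtain ⟨y, hy, e⟩ := h
      have h2 : π σ' * π σ' = 1 := by
        rw [← e, ← map_mul, show y * y = 1 from Subtype.ext (c.Dg_sq ((hP y).1 hy)), map_one]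
      calc π σ' = π σ' ^ 3 := by rw [pow_succ, pow_two, h2, one_mul]
        _ = 1 := hs3)
    have hidx : V.index = 3 := by
      have := V.card_mul_index
      rw [hV4, h12] at this
      omega
    haveI : Fact (Nat.Prime 3) := ⟨Nat.prime_three⟩
    have hmem := mem_zpowers_of_prime_card (G := (H ⧸ oddCore H) ⧸ V) (p := 3) hidx
      (g := QuotientGroup.mk' V (π σ')) (g' := QuotientGroup.mk' V (π z'))
      (fun h => hσV ((QuotientGroup.eq_one_iff _).1 h))
    obtain ⟨j, hj⟩ := (isOfFinOrder_of_finite _).mem_powers_iff_mem_zpowers.2 hmem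
    have hj' : (π σ' ^ j)⁻¹ * π z' ∈ V := by
      rw [← QuotientGroup.eq_one_iff]
      show QuotientGroup.mk' V ((π σ' ^ j)⁻¹ * π z') = 1
      rw [map_mul, map_inv, map_pow, ← show QuotientGroup.mk' V (π σ') ^ j = QuotientGroup.mk' V (π z') from hj,
        inv_mul_cancel]
    refine ⟨j, (inv_mul_eq_one.1 (hfix _ hj' ?_)).symm⟩
    exact (((Commute.refl (π σ')).pow_left j).inv_left.mul_left hcm).eq
  · rcases five_three_self (θ (π σ')) (θ (π z')) (by rw [← map_pow, hs3, map_one])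
      (fun h => hs1 (θ.injective (h.trans (map_one θ).symm))) (by rw [← map_mul, hcm, map_mul]) with h | h | h
    · exact ⟨0, θ.injective (by rw [h, pow_zero, map_one])⟩
    · exact ⟨1, θ.injective (by rw [h, pow_one])⟩
    · exact ⟨2, θ.injective (by rw [h, pow_two, map_mul])⟩

end Ctx

end CfsgLib.Recog.JankoThompson
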