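import Cfsg.Agent.Lib.Recog.JankoThompson.LocalThree

/-!
# `C(σ) ∩ C(x)` when `3 ∤ e`
-/

set_option autoImplicit false

namespace CfsgLib.Recog.JankoThompson

open Subgroup

universe u v

variable {G : Type u} [Group G] {Fq : Type v} [Field Fq] [Fintype Fq] [Finite G]

namespace Ctx

variable (c : Ctx G Fq) {p : ℕ} (T : Tori Fq c.w p c.e c.f)

theorem card_cent_conj (s h : P2 Fq) :
    Nat.card (centralizer ({h * s * h⁻¹} : Set (P2 Fq))) = Nat.card (centralizer ({s} : Set (P2 Fq))) :=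
  Nat.card_congr
    { toFun := fun k => ⟨h⁻¹ * k.1 * h, mem_centralizer_singleton_iff.2 (by
        calc h⁻¹ * k.1 * h * s = h⁻¹ * (k.1 * (h * s * h⁻¹)) * h := by group
          _ = h⁻¹ * (h * s * h⁻¹ * k.1) * h := by rw [mem_centralizer_singleton_iff.1 k.2]
          _ = _ := by group)⟩
      invFun := fun k => ⟨h * k.1 * h⁻¹, mem_centralizer_singleton_iff.2 (by
        rw [conj_mul, mem_centralizer_singleton_iff.1 k.2, ← conj_mul])⟩
      left_inv := fun k => Subtype.ext (show h * (h⁻¹ * k.1 * h) * h⁻¹ = k.1 by group)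
      right_inv := fun k => Subtype.ext (show h⁻¹ * (h * k.1 * h⁻¹) * h = k.1 by group) }

include T in
theorem cent_preimage_σ {s : P2 Fq} (hs : orderOf s = 3) :
    (∀ k k' : P2 Fq, k * s = s * k → k' * s = s * k' → k * k' = k' * k) ∧
      (Nat.card (centralizer ({s} : Set (P2 Fq))) = c.q ∨ Nat.card (centralizer ({s} : Set (P2 Fq))) = c.f) := by
  have h3 := c.three_not_dvd T
  obtain ⟨h, hh⟩ := T.cover s (by rw [hs]; decide)
  have hso' : orderOf (h * s * h⁻¹) = 3 := by rw [← MulAut.conj_apply, MulEquiv.orderOf_eq, hs]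
  have hne : h * s * h⁻¹ ≠ 1 := fun e => by rw [e, orderOf_one] at hso'; norm_num at hso'
  have conj_comm : ∀ k : P2 Fq, k * s = s * k → h * k * h⁻¹ * (h * s * h⁻¹) = h * s * h⁻¹ * (h * k * h⁻¹) :=
    fun k hk => by rw [conj_mul, hk, ← conj_mul]
  rcases hh with hh | hh | hh
  · exact absurd (T.card_R ▸ hso' ▸ Subgroup.orderOf_dvd_natCard _ hh) h3
  · refine ⟨fun k k' hk hk' => ?_, Or.inr ?_⟩
    · haveI := T.T_cyclic
      letI := IsCyclic.commGroup (α := T.T)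
      have e : h * k * h⁻¹ * (h * k' * h⁻¹) = h * k' * h⁻¹ * (h * k * h⁻¹) := congrArg Subtype.val
        (mul_comm (⟨_, (T.cent_T _ hh hne _).1 (conj_comm k hk)⟩ : T.T) ⟨_, (T.cent_T _ hh hne _).1 (conj_comm k' hk')⟩)
      rw [conj_mul, conj_mul] at e
      exact mul_left_cancel (mul_right_cancel e)
    · rw [← card_cent_conj s h, ← T.card_T, show centralizer ({h * s * h⁻¹} : Set (P2 Fq)) = T.T from
        Subgroup.ext fun k => mem_centralizer_singleton_iff.trans (T.cent_T _ hh hne k)]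
  · refine ⟨fun k k' hk hk' => ?_, Or.inl ?_⟩
    · have e := T.U_comm _ ((T.cent_U _ hh hne _).1 (conj_comm k hk)) _ ((T.cent_U _ hh hne _).1 (conj_comm k' hk'))
      rw [conj_mul, conj_mul] at e
      exact mul_left_cancel (mul_right_cancel e)
    · rw [← card_cent_conj s h, show c.q = Nat.card T.U from T.card_U.symm,
        show centralizer ({h * s * h⁻¹} : Set (P2 Fq)) = T.U from
          Subgroup.ext fun k => mem_centralizer_singleton_iff.trans (T.cent_U _ hh hne k)]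

theorem q_cases : (c.q = 4 * c.e + 1 ∧ c.f = 2 * c.e + 1) ∨
    (c.q + 1 = 4 * c.e ∧ c.f + 1 = 2 * c.e) := by
  have h : c.q % 8 = 3 ∨ c.q % 8 = 5 := c.hq
  unfold e f
  split_ifs <;> omega

include T in
/-- The odd part of `C(σ) ∩ C(x)`. -/
theorem exists_Tx : ∃ Tx : Subgroup G, Odd (Nat.card Tx) ∧
    (∀ a ∈ Tx, ∀ b ∈ Tx, a * b = b * a) ∧
    (∀ l : ℕ, Fact l.Prime → l ∣ c.e → ((Nat.card Tx : ℕ) : ZMod l) ^ 2 = 1) ∧
    (∀ z : G, z ∈ Tx ↔ z * c.σ = c.σ * z ∧ z * c.x = c.x * z ∧ Odd (orderOf z)) ∧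
    (∀ z : G, z * c.σ = c.σ * z → z * c.x = c.x * z → z * z = 1 → z = 1 ∨ z = c.x) := by
  obtain ⟨s, hs, hso⟩ := c.exists_preimage_σ
  obtain ⟨hcomm, hcard⟩ := c.cent_preimage_σ T hso
  set C₀ := centralizer ({s} : Set (P2 Fq)) with hC₀
  set Tx := (C₀.map c.ι).map (MulAut.conj c.g).toMonoidHom with hTx
  have hTc : Nat.card Tx = Nat.card C₀ := by
    rw [hTx, Subgroup.card_map_of_injective (MulEquiv.injective _), Subgroup.card_map_of_injective c.inj]
  have hC₀odd : Odd (Nat.card C₀) := by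
    have he := c.e_odd
    rw [Nat.odd_iff] at he ⊢
    rcases c.q_cases with h | h <;> rcases hcard with e | e <;> rw [e] <;> omega
  have hmem : ∀ z, z ∈ Tx ↔ ∃ k, k * s = s * k ∧ c.g * c.ι k * c.g⁻¹ = z := fun z =>
    ⟨fun ⟨_, ⟨k, hk, e⟩, e'⟩ => ⟨k, mem_centralizer_singleton_iff.1 hk, by rw [e]; exact e'⟩,
     fun ⟨k, hk, e⟩ => ⟨c.ι k, ⟨k, mem_centralizer_singleton_iff.2 hk, rfl⟩, e⟩⟩
  have hσg : c.σ = c.g * c.ι s * c.g⁻¹ := by rw [hs]; group
  have hxg : c.x = c.g * c.t * c.g⁻¹ := c.hgx.symm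
  have hkt : ∀ k, c.ι k * c.t = c.t * c.ι k := fun k => (c.hC _).2 (Or.inl ⟨k, rfl⟩)
  have hpull : ∀ z : G, z * c.σ = c.σ * z → z * c.x = c.x * z →
      ∃ k, k * s = s * k ∧ (z = c.g * c.ι k * c.g⁻¹ ∨ z = c.g * (c.t * c.ι k) * c.g⁻¹) := by
    intro z hzσ hzx
    have h1 : c.g⁻¹ * z * c.g * c.t = c.t * (c.g⁻¹ * z * c.g) := by
      calc c.g⁻¹ * z * c.g * c.t = c.g⁻¹ * (z * c.x) * c.g := by rw [hxg]; group
        _ = c.g⁻¹ * (c.x * z) * c.g := by rw [hzx]
        _ = _ := by rw [hxg]; group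
    have h2 : c.g⁻¹ * z * c.g * c.ι s = c.ι s * (c.g⁻¹ * z * c.g) := by
      calc c.g⁻¹ * z * c.g * c.ι s = c.g⁻¹ * (z * c.σ) * c.g := by rw [hσg]; group
        _ = c.g⁻¹ * (c.σ * z) * c.g := by rw [hzσ]
        _ = _ := by rw [hσg]; group
    rcases (c.hC _).1 h1 with ⟨k, hk⟩ | ⟨k, hk⟩
    · refine ⟨k, c.inj ?_, Or.inl (by rw [hk]; group)⟩
      rw [map_mul, map_mul, hk]; exact h2
    · refine ⟨k, c.inj ?_, Or.inr (by rw [hk, ← mul_assoc c.t, c.tt, one_mul]; group)⟩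
      rw [map_mul, map_mul, hk]
      exact (show Commute c.t (c.ι s) from (hkt s).symm).mul_left h2
  refine ⟨Tx, hTc ▸ hC₀odd, ?_, ?_, fun z => ⟨fun hz => ?_, ?_⟩, ?_⟩
  · intro a ha b hb
    obtain ⟨k, hk, rfl⟩ := (hmem a).1 ha
    obtain ⟨k', hk', rfl⟩ := (hmem b).1 hb
    rw [conj_mul, conj_mul, ← map_mul, hcomm k k' hk hk', map_mul]
  · intro l _ hl
    have he : (c.e : ZMod l) = 0 := (ZMod.natCast_eq_zero_iff _ _).2 hl
    rw [hTc]
    rcases c.q_cases with ⟨h1, h2⟩ | ⟨h1, h2⟩ <;> rcases hcard with e | e <;> rw [e]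
    · rw [h1]; push_cast; rw [he]; ring
    · rw [h2]; push_cast; rw [he]; ring
    · have : (c.q : ZMod l) = -1 := by
        have := congrArg (Nat.cast : ℕ → ZMod l) h1
        push_cast at this
        rw [he, mul_zero] at this
        linear_combination this
      rw [this]; ring
    · have : (c.f : ZMod l) = -1 := by
        have := congrArg (Nat.cast : ℕ → ZMod l) h2
        push_cast at this
        rw [he, mul_zero] at this
        linear_combination this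
      rw [this]; ring
  · obtain ⟨k, hk, rfl⟩ := (hmem z).1 hz
    refine ⟨?_, ?_, (hTc ▸ hC₀odd).of_dvd_nat (Subgroup.orderOf_dvd_natCard Tx hz)⟩
    · rw [hσg, conj_mul, conj_mul, ← map_mul, hk, map_mul]
    · rw [hxg, conj_mul, conj_mul, hkt]
  · rintro ⟨hzσ, hzx, hzo⟩
    obtain ⟨k, hk, e | e⟩ := hpull z hzσ hzx
    · exact (hmem z).2 ⟨k, hk, e.symm⟩
    · exfalso
      rw [e, ← MulAut.conj_apply, MulEquiv.orderOf_eq] at hzo
      obtain ⟨k', hk'⟩ := c.mem_range_of_odd (z := c.t * c.ι k)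
        ((show Commute c.t c.t from Commute.refl _).mul_left (hkt k)).eq hzo
      exact c.tnot ⟨k' * k⁻¹, by rw [map_mul, map_inv, hk', mul_inv_cancel_right]⟩
  · intro z hzσ hzx hz2
    have hk1 : ∀ k, k * s = s * k → c.ι k * c.ι k = 1 → k = 1 := fun k hk h2 =>
      orderOf_eq_one_iff.1 (Nat.eq_one_of_dvd_coprimes (Nat.coprime_two_left.2 hC₀odd)
        (orderOf_dvd_of_pow_eq_one (c.inj (by rw [map_pow, pow_two, map_one]; exact h2)))
        (Subgroup.orderOf_dvd_natCard C₀ (mem_centralizer_singleton_iff.2 hk)))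
    obtain ⟨k, hk, e | e⟩ := hpull z hzσ hzx
    · left
      rw [e, conj_mul, conj_eq_one_iff] at hz2
      rw [e, hk1 k hk hz2, map_one, mul_one, mul_inv_cancel]
    · right
      rw [e, conj_mul, conj_eq_one_iff] at hz2
      have hk2 : c.ι k * c.ι k = 1 := by
        rw [← hz2, mul_assoc c.t, ← mul_assoc (c.ι k) c.t, hkt, mul_assoc c.t (c.ι k), ← mul_assoc c.t c.t, c.tt, one_mul]
      rw [e, hk1 k hk hk2, map_one, mul_one, hxg]

end Ctx

end CfsgLib.Recog.JankoThompson
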