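import Cfsg.Agent.Lib.Recog.JankoThompson.LocalFixed
import Cfsg.Agent.Lib.Recog.JankoThompson.LocalAuto

/-!
# `3` does not divide `e`
-/

set_option autoImplicit false

namespace CfsgLib.Recog.JankoThompson

open Subgroup Cfsg
open scoped Pointwise

universe u v

variable {G : Type u} [Group G] {Fq : Type v} [Field Fq] [Fintype Fq] [Finite G]

theorem three_cases {a x : G} (ha : a ^ 3 = 1) (hx : x ∈ zpowers a) : x = 1 ∨ x = a ∨ x = a⁻¹ := by
  obtain ⟨k, rfl⟩ := hx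
  have h3 : a ^ (3 : ℤ) = 1 := by exact_mod_cast ha
  have h : a ^ k = a ^ (k % 3) := by
    conv_lhs => rw [← Int.emod_add_mul_ediv k 3]
    rw [zpow_add, zpow_mul, h3, one_zpow, mul_one]
  rcases (show k % 3 = 0 ∨ k % 3 = 1 ∨ k % 3 = 2 by omega) with e | e | e <;> simp only [h, e]
  · exact Or.inl (zpow_zero a)
  · exact Or.inr (Or.inl (zpow_one a))
  · refine Or.inr (Or.inr (eq_inv_of_mul_eq_one_left ?_))
    rw [← zpow_add_one]; exact h3

namespace Ctx

variable (c : Ctx G Fq) {p : ℕ} (T : Tori Fq c.w p c.e c.f)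

theorem isCyclic_Rg : IsCyclic (c.Rg T) :=
  haveI := T.R_cyclic
  isCyclic_of_surjective (T.R.equivMapOfInjective c.ι c.inj) (T.R.equivMapOfInjective c.ι c.inj).surjective

/-- `σ` comes from an element of order three of `PSL(2, q)`. -/
theorem exists_preimage_σ : ∃ s : P2 Fq, c.ι s = c.g⁻¹ * c.σ * c.g ∧ orderOf s = 3 := by
  obtain ⟨s, hs⟩ := c.σ_mem
  refine ⟨s, hs, ?_⟩
  rw [← orderOf_injective c.ι c.inj, hs, show c.g⁻¹ * c.σ * c.g = MulAut.conj c.g⁻¹ c.σ by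
    rw [MulAut.conj_apply, inv_inv], MulEquiv.orderOf_eq, c.orderOf_σ]

include T in
theorem three_not_dvd : ¬ 3 ∣ c.e := by
  classical
  intro h3
  haveI : Fact (Nat.Prime 3) := ⟨Nat.prime_three⟩
  haveI := c.isCyclic_Rg T
  obtain ⟨⟨a, ha⟩, hao⟩ := exists_prime_orderOf_dvd_card' (G := c.Rg T) 3 (by rw [c.card_Rg T]; exact h3)
  rw [← Subgroup.orderOf_coe] at hao
  replace hao : orderOf a = 3 := hao
  have ha3 : a ^ 3 = 1 := hao ▸ pow_orderOf_eq_one a
  have ha1 : a ≠ 1 := fun h => by rw [h, orderOf_one] at hao; norm_num at hao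
  have hcube : ∀ y ∈ c.Rg T, y ^ 3 = 1 → y ∈ zpowers a := fun y hy h =>
    mem_zpowers_of_pow (c.Rg T) ha hy (by norm_num) hao h
  -- `σ` centralises `a`
  have hσ : c.σ * a = a * c.σ := by
    rcases three_cases ha3 (hcube _ (c.σ_Rg T ha) (by rw [conj_pow, ha3, mul_one, mul_inv_cancel])) with h | h | h
    · exact absurd (conj_eq_one_iff.1 h) ha1
    · exact mul_inv_eq_iff_eq_mul.1 h
    · exfalso
      set f := MulAut.conj c.σ with hf
      have hf3 : f ^ 3 = 1 := by rw [hf, ← map_pow, c.σ_cube, map_one]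
      have h' : f a = a⁻¹ := h
      have h4 : f (f (f a)) = a := DFunLike.congr_fun hf3 a
      rw [h', map_inv f a, h', inv_inv, h'] at h4
      refine ha1 (orderOf_eq_one_iff.1 (Nat.eq_one_of_dvd_coprimes (show Nat.Coprime 2 3 by norm_num)
        (orderOf_dvd_of_pow_eq_one ?_) hao.dvd))
      rw [pow_two]; nth_rewrite 1 [← h4]; exact inv_mul_cancel a
  -- `σ` is conjugate to `a` or `a⁻¹`
  obtain ⟨g₀, a₁, hg₀, ha₁, ha₁R⟩ : ∃ g₀ a₁ : G, g₀ * c.σ * g₀⁻¹ = a₁ ∧ (a₁ = a ∨ a₁ = a⁻¹) ∧ a₁ ∈ c.Rg T := by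
    obtain ⟨s, hs, hso⟩ := c.exists_preimage_σ
    have hnot : ¬ 3 ∣ Fintype.card Fq := fun h => by
      have hq : c.q % 8 = 3 ∨ c.q % 8 = 5 := c.hq
      have h' : 3 ∣ c.q := h
      unfold Ctx.e at h3
      split_ifs at h3 <;> omega
    obtain ⟨h, hh⟩ := T.cover s (by rw [hso]; decide)
    have hso' : orderOf (h * s * h⁻¹) = 3 := by
      rw [← MulAut.conj_apply, MulEquiv.orderOf_eq, hso]
    rcases hh with hh | hh | hh
    · refine ⟨c.ι h * c.g⁻¹, _, rfl, ?_⟩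
      have e : c.ι h * c.g⁻¹ * c.σ * (c.ι h * c.g⁻¹)⁻¹ = c.ι (h * s * h⁻¹) := by
        rw [map_mul, map_mul, map_inv, hs]; group
      rw [e]
      have hm : c.ι (h * s * h⁻¹) ∈ c.Rg T := ⟨_, hh, rfl⟩
      refine ⟨?_, hm⟩
      rcases three_cases ha3 (hcube _ hm (by rw [← map_pow, ← hso', pow_orderOf_eq_one, map_one])) with r | r | r
      · exfalso
        have := orderOf_injective c.ι c.inj (h * s * h⁻¹)
        rw [r, orderOf_one, hso'] at this
        omega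
      · exact Or.inl r
      · exact Or.inr r
    · exfalso
      have h1 : 3 ∣ c.f := by
        rw [← T.card_T, ← hso']; exact Subgroup.orderOf_dvd_natCard _ hh
      have h2 := c.q_eq
      exact hnot (show 3 ∣ c.q by omega)
    · exfalso
      have h1 : 3 ∣ p := hso' ▸ orderOf_dvd_of_pow_eq_one (T.U_exp _ hh)
      obtain ⟨n, hn, hc⟩ := T.card_field
      exact hnot (hc ▸ h1.trans (dvd_pow_self p hn.ne'))
  set H := centralizer ({a} : Set G) with hH
  have hC : ∀ z : G, z * c.σ = c.σ * z → g₀ * z * g₀⁻¹ ∈ H := fun z hz => by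
    have h : Commute (g₀ * z * g₀⁻¹) a₁ := by
      rw [← hg₀, commute_iff_eq, conj_mul, hz, ← conj_mul]
    rcases ha₁ with rfl | rfl
    · exact mem_centralizer_singleton_iff.2 h
    · exact mem_centralizer_singleton_iff.2 (Commute.inv_right_iff.1 h)
  obtain ⟨hO, P, hP, hshape⟩ : c.RH T a = oddCore H ∧ ∃ P : Sylow 2 H,
      (∀ z : H, z ∈ (P : Subgroup H) ↔ (z : G) ∈ c.Dg) ∧
      (((P : Subgroup H).map (QuotientGroup.mk' (oddCore H))).Normal ∧ Nat.card (H ⧸ oddCore H) = 12 ∨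
        Nonempty ((H ⧸ oddCore H) ≃* alternatingGroup (Fin 5))) := c.fixed_shape T ha ha1 hσ
  haveI : (oddCore H).Normal := CfsgLib.Core.normal_pPrimeCore 2 H
  set π := QuotientGroup.mk' (oddCore H) with hπ
  have hker : ∀ y : H, π y = 1 ↔ (y : G) ∈ c.Rg T := fun y => by
    rw [hπ, QuotientGroup.mk'_apply, QuotientGroup.eq_one_iff, ← hO]; exact mem_subgroupOf
  have hσH : c.σ ∈ H := mem_centralizer_singleton_iff.2 hσ
  have htH : c.t ∈ H := mem_centralizer_singleton_iff.2 (c.Rg_Dg T ha c.t_mem_Dg).symm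
  rcases hshape with ⟨hn, h12⟩ | ⟨⟨θ⟩⟩
  · -- order twelve: nothing of odd order is inverted
    set V := (P : Subgroup H).map π with hV
    haveI : V.Normal := hn
    let i : H := ⟨g₀ * c.x * g₀⁻¹, hC _ c.x_σ⟩
    let u : H := ⟨g₀ * a * g₀⁻¹, hC _ hσ.symm⟩
    have hii : i * i = 1 := Subtype.ext (by
      show g₀ * c.x * g₀⁻¹ * (g₀ * c.x * g₀⁻¹) = 1
      rw [conj_mul, c.x_sq, mul_one, mul_inv_cancel])
    have hu3 : u ^ 3 = 1 := Subtype.ext (by
      show (g₀ * a * g₀⁻¹) ^ 3 = 1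
      rw [conj_pow, ha3, mul_one, mul_inv_cancel])
    have hiu : i * u * i⁻¹ = u⁻¹ := Subtype.ext (by
      show g₀ * c.x * g₀⁻¹ * (g₀ * a * g₀⁻¹) * (g₀ * c.x * g₀⁻¹)⁻¹ = (g₀ * a * g₀⁻¹)⁻¹
      calc g₀ * c.x * g₀⁻¹ * (g₀ * a * g₀⁻¹) * (g₀ * c.x * g₀⁻¹)⁻¹
          = g₀ * (c.x * a * c.x⁻¹) * g₀⁻¹ := by group
        _ = _ := by rw [c.x_Rg T ha]; group)
    have hu1 : u ≠ 1 := fun h => ha1 (conj_eq_one_iff.1 (congrArg Subtype.val h))
    obtain ⟨T₂, hT⟩ := (IsPGroup.of_card (p := 2) (n := 1) (G := zpowers i) (by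
      rw [Nat.card_zpowers, pow_one]
      refine orderOf_eq_prime (by rw [pow_two]; exact hii) fun h => hu1 ?_
      have h2 : u * u = 1 := by
        have h' := hiu
        rw [h, one_mul, inv_one, mul_one] at h'
        nth_rewrite 2 [h']; exact mul_inv_cancel u
      calc u = u ^ 3 * (u * u)⁻¹ := by rw [pow_succ', pow_two]; group
        _ = 1 := by rw [hu3, h2, inv_one, mul_one])).exists_le_sylow
    obtain ⟨h, hh⟩ := MulAction.exists_smul_eq H T₂ P
    have hiP : h * i * h⁻¹ ∈ (P : Subgroup H) := by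
      rw [← hh, Sylow.coe_subgroup_smul]
      exact ⟨i, hT (mem_zpowers i), rfl⟩
    have hiV : π i ∈ V := by
      have h1 := hn.conj_mem _ (mem_map_of_mem π hiP) (π h)⁻¹
      rwa [inv_inv, map_mul, map_mul, map_inv, show (π h)⁻¹ * (π h * π i * (π h)⁻¹) * π h = π i by group] at h1
    have huV : π u * π u ∈ V := by
      have h1 : π i * (π u * π i⁻¹ * (π u)⁻¹) ∈ V := mul_mem hiV (hn.conj_mem _ (by rw [map_inv]; exact inv_mem hiV) _)
      rw [← map_inv π u, ← map_mul, ← map_mul, ← map_mul, show i * (u * i⁻¹ * u⁻¹) = i * u * i⁻¹ * u⁻¹ by group, hiu,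
        ← mul_inv_rev] at h1
      rw [← map_mul]
      have h2 := inv_mem h1
      rwa [← map_inv, inv_inv] at h2
    have hu : π u = 1 := by
      have e4 : π u = π u * π u * (π u * π u) := by
        rw [← map_mul, ← map_mul]
        congr 1
        calc u = u ^ 3 * u := by rw [hu3, one_mul]
          _ = _ := by rw [← pow_succ, ← pow_two, ← pow_two, ← pow_mul]
      rw [e4]
      obtain ⟨y, hy, e⟩ := huV
      rw [← e, ← map_mul, show y * y = 1 from Subtype.ext (c.Dg_sq ((hP y).1 hy)), map_one]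
    have huR : ((h * u * h⁻¹ : H) : G) ∈ c.Rg T :=
      (hker _).1 (by rw [map_mul, map_mul, hu, mul_one, map_inv, mul_inv_cancel])
    have hcomm : h * i * h⁻¹ * (h * u * h⁻¹) = h * u * h⁻¹ * (h * i * h⁻¹) :=
      Subtype.ext (c.Rg_Dg T huR ((hP _).1 hiP)).symm
    rw [conj_mul, conj_mul] at hcomm
    have hc : i * u * i⁻¹ = u := mul_inv_eq_iff_eq_mul.2 (mul_left_cancel (mul_right_cancel hcomm))
    rw [hiu] at hc
    refine hu1 ?_
    calc u = u ^ 3 * (u * u)⁻¹ := by rw [pow_succ', pow_two]; group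
      _ = 1 := by rw [hu3, show u * u = 1 by nth_rewrite 1 [← hc]; exact inv_mul_cancel u, inv_one, mul_one]
  -- `A₅`: `R` is central
  let θπ : H →* alternatingGroup (Fin 5) := θ.toMonoidHom.comp π
  have hθπ : Function.Surjective θπ := θ.surjective.comp (QuotientGroup.mk'_surjective _)
  have hθker : ∀ y : H, θπ y = 1 ↔ (y : G) ∈ c.Rg T := fun y =>
    (map_eq_one_iff θ θ.injective).trans (hker y)
  have hcent : ∀ y : H, ∀ b ∈ c.Rg T, (y : G) * b = b * y := by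
    haveI : (c.RH T a).Normal := by rw [hO]; infer_instance
    set C₁ := centralizer ((c.RH T a) : Set H) with hC₁
    haveI hC₁n : C₁.Normal := ⟨fun z hz g => mem_centralizer_iff.2 fun b hb => by
      have h := mem_centralizer_iff.1 hz _ (‹(c.RH T a).Normal›.conj_mem b hb g⁻¹)
      rw [inv_inv] at h
      calc b * (g * z * g⁻¹) = g * (g⁻¹ * b * g * z) * g⁻¹ := by group
        _ = g * (z * (g⁻¹ * b * g)) * g⁻¹ := by rw [h]
        _ = _ := by group⟩
    have htop : C₁.map θπ = ⊤ := by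
      haveI := hC₁n.map θπ hθπ
      haveI := alternatingGroup.isSimpleGroup_five
      refine (Subgroup.Normal.eq_bot_or_eq_top inferInstance).resolve_left fun hbot => ?_
      have ht : θπ ⟨c.t, htH⟩ ∈ C₁.map θπ := mem_map_of_mem _ (mem_centralizer_iff.2 fun b hb =>
        Subtype.ext (c.Rg_Dg T (mem_subgroupOf.1 hb) c.t_mem_Dg))
      rw [hbot, mem_bot, hθker] at ht
      have h1 := ((c.mem_Rg T).1 ht).1
      rw [c.ht] at h1
      exact absurd h1 (by decide)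
    intro y b hb
    obtain ⟨z, hz, e⟩ := (htop.symm ▸ mem_top (θπ y) : θπ y ∈ C₁.map θπ)
    have hk : ((z⁻¹ * y : H) : G) ∈ c.Rg T := (hθker _).1 (by rw [map_mul, map_inv, e, inv_mul_cancel])
    have hbH : b ∈ H := mem_centralizer_singleton_iff.2 (c.Rg_comm T hb ha)
    have hzb : (z : G) * b = b * z :=
      (congrArg Subtype.val (mem_centralizer_iff.1 hz ⟨b, hbH⟩ (mem_subgroupOf.2 hb))).symm
    have hkb : ((z⁻¹ * y : H) : G) * b = b * ((z⁻¹ * y : H) : G) := c.Rg_comm T hk hb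
    have hy : (y : G) = z * ((z⁻¹ * y : H) : G) := by simp
    rw [hy]
    exact (show Commute (z : G) b from hzb).mul_left hkb
  have hcardH : Nat.card H = 60 * c.e := by
    rw [(oddCore H).card_eq_card_quotient_mul_card_subgroup, ← hO, c.card_RH T ha, hO,
      Nat.card_congr θ.toEquiv]
    congr 1
    rw [Nat.card_eq_fintype_card]; decide
  -- the Sylow 3-subgroup
  obtain ⟨gR, hgR⟩ := IsCyclic.exists_ofOrder_eq_natCard (α := c.Rg T)
  rw [c.card_Rg T, ← Subgroup.orderOf_coe] at hgR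
  set k := c.e.factorization 3 with hk
  have he0 : c.e ≠ 0 := c.e_odd.pos.ne'
  have hk1 : 1 ≤ k := Nat.Prime.factorization_pos_of_dvd Nat.prime_three he0 h3
  have hkd : 3 ^ k ∣ c.e := Nat.ordProj_dvd c.e 3
  set b := (gR : G) ^ (c.e / 3 ^ k) with hb
  have hbR : b ∈ c.Rg T := pow_mem gR.2 _
  have hbo : orderOf b = 3 ^ k := by
    rw [hb, orderOf_pow_of_dvd (Nat.div_pos (Nat.le_of_dvd (Nat.pos_of_ne_zero he0) hkd) (by positivity)).ne'
      (by rw [hgR]; exact Nat.div_dvd_of_dvd hkd), hgR, Nat.div_div_self hkd he0]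
  clear_value b
  have hσb : c.σ * b = b * c.σ := hcent ⟨c.σ, hσH⟩ b hbR
  set Q₀ := zpowers b ⊔ zpowers c.σ with hQ₀
  have hnorm : zpowers b ≤ normalizer (zpowers c.σ : Set G) := by
    rw [zpowers_le, CfsgLib.Core.mem_normalizer_iff_conj_smul_eq, CfsgLib.Core.conj_smul_eq_map, MonoidHom.map_zpowers]
    congr 1
    show b * c.σ * b⁻¹ = c.σ
    rw [← hσb, mul_inv_cancel_right]
  have hmemQ₀ : ∀ y ∈ Q₀, ∃ i j : ℕ, y = b ^ i * c.σ ^ j := fun y hy => by
    obtain ⟨u, hu, w, hw, rfl⟩ := (CfsgLib.Core.mem_sup_iff_mul hnorm).1 hy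
    obtain ⟨i, rfl⟩ := (isOfFinOrder_of_finite b).mem_powers_iff_mem_zpowers.2 hu
    obtain ⟨j, rfl⟩ := (isOfFinOrder_of_finite c.σ).mem_powers_iff_mem_zpowers.2 hw
    exact ⟨i, j, rfl⟩
  have hQcard : Nat.card Q₀ = 3 ^ (k + 1) := by
    have h := CfsgLib.Core.card_sup_mul_card_inf (zpowers b) (zpowers c.σ) hnorm
    have hbot : zpowers b ⊓ zpowers c.σ = ⊥ := by
      refine (eq_bot_iff_forall _).2 fun y hy => ?_
      rcases three_cases c.σ_cube hy.2 with r | r | r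
      · exact r
      · exact absurd (r ▸ (zpowers_le.2 hbR) hy.1) (c.σ_not_mem_Rg T)
      · refine absurd ?_ (c.σ_not_mem_Rg T)
        simpa using inv_mem (r ▸ (zpowers_le.2 hbR) hy.1 : c.σ⁻¹ ∈ c.Rg T)
    rw [hbot, card_bot, mul_one, Nat.card_zpowers, Nat.card_zpowers, hbo, c.orderOf_σ] at h
    rw [hQ₀, h, pow_succ]
  have hQ₀σ : ∀ y ∈ Q₀, y * c.σ = c.σ * y := fun y hy => by
    obtain ⟨i, j, rfl⟩ := hmemQ₀ y hy
    exact ((Commute.pow_left (show Commute b c.σ from hσb.symm) i).mul_left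
      ((Commute.refl c.σ).pow_left j)).eq
  have hQ₀H : Q₀ ≤ H := sup_le (zpowers_le.2 (mem_centralizer_singleton_iff.2 (c.Rg_comm T hbR ha)))
    (zpowers_le.2 hσH)
  have hQ₁H : MulAut.conj g₀ • Q₀ ≤ H := by
    rw [CfsgLib.Core.conj_smul_eq_map]
    rintro _ ⟨y, hy, rfl⟩
    exact hC y (hQ₀σ y hy)
  obtain ⟨S₃⟩ : Nonempty (Sylow 3 H) := Sylow.nonempty
  have hS₃ : Nat.card ((S₃ : Subgroup H).map H.subtype) = Nat.card Q₀ := by
    rw [Subgroup.card_map_of_injective (subtype_injective _), S₃.card_eq_multiplicity, hcardH, hQcard,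
      Nat.factorization_mul (by norm_num) he0, Finsupp.add_apply, ← hk,
      show (60 : ℕ).factorization 3 = 1 by
        rw [show (60 : ℕ) = 3 * 20 by norm_num, Nat.factorization_mul (by norm_num) (by norm_num),
          Finsupp.add_apply, Nat.Prime.factorization_self Nat.prime_three,
          Nat.factorization_eq_zero_of_not_dvd (by norm_num : ¬ 3 ∣ 20)], add_comm]
  obtain ⟨h₁, hh₁, e₁⟩ := CfsgLib.Core.exists_conj_of_card_eq S₃ hQ₀H hS₃.symm
  obtain ⟨h₂, hh₂, e₂⟩ := CfsgLib.Core.exists_conj_of_card_eq S₃ hQ₁H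
    (by rw [CfsgLib.Core.card_conj_smul, hS₃])
  set n := h₁ * h₂⁻¹ * g₀ with hn'
  have hnQ : MulAut.conj n • Q₀ = Q₀ := by
    rw [hn', ← CfsgLib.Core.conj_smul_conj_smul, ← e₂, CfsgLib.Core.conj_smul_conj_smul, inv_mul_cancel_right]
    exact e₁
  have hnσ : n * c.σ * n⁻¹ = a₁ := by
    have hh := hcent (⟨h₁, hh₁⟩ * ⟨h₂, hh₂⟩⁻¹) a₁ ha₁R
    calc n * c.σ * n⁻¹ = h₁ * h₂⁻¹ * (g₀ * c.σ * g₀⁻¹) * (h₁ * h₂⁻¹)⁻¹ := by rw [hn']; group
      _ = _ := by rw [hg₀]; exact mul_inv_eq_iff_eq_mul.2 hh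
  rcases Nat.lt_or_ge 1 k with hk2 | hk2
  · -- `σ` would be a cube
    have hb3 : orderOf (b ^ 3 ^ (k - 1)) = 3 := by
      rw [orderOf_pow_of_dvd (by positivity) (by rw [hbo]; exact pow_dvd_pow 3 (by omega)), hbo,
        Nat.pow_div (by omega) (by norm_num), show k - (k - 1) = 1 by omega, pow_one]
    have hm : a₁ ∈ zpowers (b ^ 3 ^ (k - 1)) := by
      refine mem_zpowers_of_pow (c.Rg T) (pow_mem hbR _) ha₁R (by norm_num) hb3 ?_
      rw [← hg₀, conj_pow, c.σ_cube, mul_one, mul_inv_cancel]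
    obtain ⟨j, hj⟩ := (isOfFinOrder_of_finite _).mem_powers_iff_mem_zpowers.2 hm
    set b' := b ^ (3 ^ (k - 2) * j) with hb'
    have hb'3 : b' ^ 3 = a₁ := by
      rw [hb', ← pow_mul, ← hj]
      show _ = (b ^ 3 ^ (k - 1)) ^ j
      rw [← pow_mul, show k - 1 = k - 2 + 1 by omega, pow_succ]
      ring_nf
    have hy : n⁻¹ * b' * n ∈ Q₀ := by
      have h : n⁻¹ * b' * n ∈ MulAut.conj n⁻¹ • Q₀ := by
        rw [CfsgLib.Core.mem_conj_smul_iff, show n⁻¹⁻¹ * _ * _ = b' by group]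
        exact mem_sup_left (pow_mem (mem_zpowers b) _)
      rwa [show MulAut.conj n⁻¹ • Q₀ = Q₀ by
        nth_rewrite 1 [← hnQ]
        rw [CfsgLib.Core.conj_smul_conj_smul, inv_mul_cancel, CfsgLib.Core.conj_one_smul]] at h
    obtain ⟨i, j', e⟩ := hmemQ₀ _ hy
    have hσe : c.σ = b ^ (i * 3) := by
      calc c.σ = n⁻¹ * (n * c.σ * n⁻¹) * n := by group
        _ = (n⁻¹ * b' * n) ^ 3 := by
          rw [hnσ, ← hb'3, show n⁻¹ * b' * n = MulAut.conj n⁻¹ b' by rw [MulAut.conj_apply, inv_inv], ← map_pow,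
            MulAut.conj_apply, inv_inv]
        _ = _ := by
          rw [e, (Commute.pow_pow (show Commute b c.σ from hσb.symm) _ _).mul_pow, ← pow_mul, ← pow_mul,
            mul_comm j', pow_mul c.σ, c.σ_cube, one_pow, mul_one]
    exact c.σ_not_mem_Rg T (hσe ▸ pow_mem hbR _)
  -- `|R₃| = 3`
  have hk' : k = 1 := by omega
  have hbz : b ∈ zpowers a := hcube b hbR (by rw [show (3 : ℕ) = orderOf b by rw [hbo, hk', pow_one]]; exact pow_orderOf_eq_one b)
  have hac : Commute a c.σ := hσ.symm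
  have hexp : ∀ y ∈ Q₀, ∃ v, y = pw a c.σ v := fun y hy => by
    obtain ⟨i, j, rfl⟩ := hmemQ₀ y hy
    obtain ⟨i', hi'⟩ := (isOfFinOrder_of_finite a).mem_powers_iff_mem_zpowers.2 hbz
    refine ⟨(⟨(i' * i) % 3, Nat.mod_lt _ (by norm_num)⟩, ⟨j % 3, Nat.mod_lt _ (by norm_num)⟩), ?_⟩
    show b ^ i * c.σ ^ j = a ^ ((i' * i) % 3) * c.σ ^ (j % 3)
    rw [← pow_eq_pow_mod _ ha3, ← pow_eq_pow_mod _ c.σ_cube, pow_mul, show a ^ i' = b from hi']
  have hind : ∀ v, pw a c.σ v = 1 → v = 0 := by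
    rintro ⟨i, j⟩ h
    have hj : c.σ ^ (j : ℕ) ∈ c.Rg T := by
      rw [show c.σ ^ (j : ℕ) = (a ^ (i : ℕ))⁻¹ from eq_inv_of_mul_eq_one_right h]
      exact inv_mem (pow_mem ha _)
    have hj0 : j = 0 := by
      fin_cases j
      · rfl
      · exact absurd (by simpa using hj) (c.σ_not_mem_Rg T)
      · exfalso
        refine c.σ_not_mem_Rg T ?_
        have h2 := pow_mem hj 2
        rwa [← pow_mul, show (2 : ℕ) * 2 = 3 + 1 from rfl, pow_add, c.σ_cube, one_mul, pow_one] at h2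
    subst hj0
    have hi : a ^ (i : ℕ) = 1 := by simpa [pw] using h
    have hd := orderOf_dvd_of_pow_eq_one hi
    rw [hao] at hd
    have : (i : ℕ) = 0 := by omega
    exact Prod.ext (Fin.ext this) rfl
  have hx : Acts a c.σ c.x ((2, 0), (0, 1)) := by
    constructor
    · rw [c.x_Rg T ha]
      show a⁻¹ = a ^ (2 : ℕ) * c.σ ^ (0 : ℕ)
      rw [pow_zero, mul_one]
      exact inv_eq_of_mul_eq_one_right (by rw [← pow_succ']; exact ha3)
    · show c.x * c.σ * c.x⁻¹ = a ^ (0 : ℕ) * c.σ ^ (1 : ℕ)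
      rw [c.x_σ, mul_inv_cancel_right, pow_zero, one_mul, pow_one]
  -- an element inverting `σ` modulo `R`
  let σ' : H := ⟨c.σ, hσH⟩
  obtain ⟨i₀, hi₀, hi₀σ⟩ := five_three_inverted (θπ σ') (by
    rw [← map_pow, show σ' ^ 3 = 1 from Subtype.ext c.σ_cube, map_one])
  obtain ⟨z, hz⟩ := hθπ i₀
  set i := z ^ c.e with hi
  have hθi : θπ i = i₀ := by
    rw [hi, map_pow, hz]
    obtain ⟨m, hm⟩ := c.e_odd
    rw [hm, pow_succ, pow_mul, pow_two, hi₀, one_pow, one_mul]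
  have hyR : ((i * σ' * i⁻¹ * σ' : H) : G) ∈ c.Rg T :=
    (hθker _).1 (by rw [map_mul, map_mul, map_mul, map_inv, hθi, hi₀σ])
  set y := ((i * σ' * i⁻¹ * σ' : H) : G) with hy
  have hconj : (i : G) * c.σ * (i : G)⁻¹ = y * c.σ⁻¹ := (mul_inv_cancel_right _ c.σ).symm
  have hy3 : y ^ 3 = 1 := by
    have h : (y * c.σ⁻¹) ^ 3 = 1 := by rw [← hconj, conj_pow, c.σ_cube, mul_one, mul_inv_cancel]
    have hcy : Commute y c.σ⁻¹ := (show Commute c.σ y from hcent σ' y hyR).symm.inv_right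
    rwa [hcy.mul_pow, inv_pow, c.σ_cube, inv_one, mul_one] at h
  obtain ⟨j, hj⟩ := (isOfFinOrder_of_finite a).mem_powers_iff_mem_zpowers.2 (hcube y hyR hy3)
  set a' : Fin 3 := ⟨j % 3, Nat.mod_lt _ (by norm_num)⟩ with ha'
  have hiA : Acts a c.σ (i : G) ((1, 0), (a', 2)) := by
    constructor
    · show (i : G) * a * (i : G)⁻¹ = a ^ (1 : ℕ) * c.σ ^ (0 : ℕ)
      rw [hcent i a ha, mul_inv_cancel_right, pow_one, pow_zero, mul_one]
    · show (i : G) * c.σ * (i : G)⁻¹ = a ^ (j % 3) * c.σ ^ (2 : ℕ)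
      rw [hconj, ← pow_eq_pow_mod _ ha3, ← hj,
        show c.σ⁻¹ = c.σ ^ 2 from inv_eq_of_mul_eq_one_right (by rw [← pow_succ']; exact c.σ_cube)]
  -- the element moving `σ` to `a₁`
  obtain ⟨s, hs, hs'⟩ : ∃ s : Fin 3, s ≠ 0 ∧ a₁ = a ^ (s : ℕ) := by
    rcases ha₁ with rfl | rfl
    · exact ⟨1, by decide, (pow_one _).symm⟩
    · exact ⟨2, by decide, inv_eq_of_mul_eq_one_right (by show a * a ^ 2 = 1; rw [← pow_succ']; exact ha3)⟩
  have hna : n * a * n⁻¹ ∈ Q₀ := by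
    have haQ : a ∈ Q₀ := by
      refine mem_sup_left (mem_zpowers_of_pow (c.Rg T) hbR ha (by norm_num) (by rw [hbo, hk', pow_one]) ha3)
    rw [← hnQ, CfsgLib.Core.mem_conj_smul_iff, show n⁻¹ * (n * a * n⁻¹) * n = a by group]
    exact haQ
  obtain ⟨⟨b₀, c₀⟩, hbc⟩ := hexp _ hna
  have hc₀ : c₀ ≠ 0 := by
    rintro rfl
    have hm : n * a * n⁻¹ ∈ zpowers a := by
      rw [hbc]; simp [pw]
    have hgen : a ∈ zpowers (n * a * n⁻¹) := by
      rcases three_cases ha3 hm with r | r | r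
      · exact absurd (conj_eq_one_iff.1 r) ha1
      · rw [r]; exact mem_zpowers a
      · rw [r, zpowers_inv]; exact mem_zpowers a
    obtain ⟨m, hm'⟩ := mem_zpowers_iff.1 ((zpow_mem hgen (s : ℕ) : a ^ ((s : ℕ) : ℤ) ∈ _))
    rw [conj_zpow, zpow_natCast, ← hs', ← hnσ] at hm'
    exact c.σ_not_mem_Rg T (mul_left_cancel (mul_right_cancel hm') ▸ zpow_mem ha m)
  have hnA : Acts a c.σ n ((b₀, c₀), (s, 0)) := by
    refine ⟨hbc, ?_⟩
    show n * c.σ * n⁻¹ = a ^ (s : ℕ) * c.σ ^ (0 : ℕ)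
    rw [hnσ, pow_zero, mul_one]; exact hs'
  exact pair_auto_false c.two_sq ha3 c.σ_cube hac hind hs hc₀ hx hiA hnA

end Ctx

end CfsgLib.Recog.JankoThompson
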