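import Cfsg.Agent.Lib.Recog.JankoThompson.ColsDef

/-!
Owner: helper22. Groups of Janko–Thompson type: the four constituents of an orbit of exceptional columns, and the
two constituents of the columns of the other torus.
-/

set_option autoImplicit false
set_option linter.all false
set_option maxHeartbeats 1600000

namespace CfsgLib.Recog.JankoThompson

section Tools

variable {ι : Type*} [Fintype ι] [DecidableEq ι]

theorem sum_sdiff_four {M : Type*} [AddCommGroup M] (h : ι → M) {a b c z : ι} (hab : a ≠ b) (hac : a ≠ c)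
    (haz : a ≠ z) (hbc : b ≠ c) (hbz : b ≠ z) (hcz : c ≠ z) :
    ∑ χ, h χ = h a + h b + h c + h z + ∑ χ ∈ ({a, b, c, z} : Finset ι)ᶜ, h χ := by
  rw [← Finset.sum_add_sum_compl ({a, b, c, z} : Finset ι) h, Finset.sum_insert (by simp [hab, hac, haz]),
    Finset.sum_insert (by simp [hbc, hbz]), Finset.sum_pair hcz]
  abel

theorem sq_le_sum (v : ι → ℤ) (χ : ι) : v χ * v χ ≤ ∑ x, v x * v x :=
  Finset.single_le_sum (f := fun x => v x * v x) (fun x _ => mul_self_nonneg _) (Finset.mem_univ χ)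

theorem exists_two {v : ι → ℤ} (h : ∑ x, v x * v x = 2) :
    ∃ a b, a ≠ b ∧ (v a = 1 ∨ v a = -1) ∧ (v b = 1 ∨ v b = -1) ∧ ∀ x, x ≠ a → x ≠ b → v x = 0 := by
  have hb : ∀ x, v x = 0 ∨ v x = 1 ∨ v x = -1 := by
    intro x
    have h1 := sq_le_sum v x
    rw [h] at h1
    have h2 : v x < 2 := by nlinarith
    have h3 : -2 < v x := by nlinarith
    omega
  have hc : ((Finset.univ.filter fun x => v x ≠ 0).card : ℤ) = 2 := by
    rw [← h, Finset.card_filter]
    push_cast
    refine Finset.sum_congr rfl fun x _ => ?_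
    rcases hb x with e | e | e <;> simp [e]
  obtain ⟨a, b, hab, hs⟩ := Finset.card_eq_two.1 (by exact_mod_cast hc)
  have hmem : ∀ x, v x ≠ 0 ↔ x = a ∨ x = b := by
    intro x
    have := Finset.ext_iff.1 hs x
    simpa using this
  refine ⟨a, b, hab, (hb a).resolve_left ((hmem a).2 (Or.inl rfl)), (hb b).resolve_left ((hmem b).2 (Or.inr rfl)),
    fun x hxa hxb => ?_⟩
  by_contra hx
  rcases (hmem x).1 hx with e | e
  exacts [hxa e, hxb e]

theorem exists_one {v : ι → ℤ} {S : Finset ι} (h : ∑ x ∈ S, v x * v x = 1) :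
    ∃ a ∈ S, (v a = 1 ∨ v a = -1) ∧ ∀ x ∈ S, x ≠ a → v x = 0 := by
  obtain ⟨a, ha, hne⟩ : ∃ a ∈ S, v a * v a ≠ 0 := Finset.exists_ne_zero_of_sum_ne_zero (by rw [h]; exact one_ne_zero)
  rw [← Finset.add_sum_erase _ _ ha] at h
  have h0 : 0 ≤ ∑ x ∈ S.erase a, v x * v x := Finset.sum_nonneg fun x _ => mul_self_nonneg _
  have hp : 0 < v a * v a := lt_of_le_of_ne (mul_self_nonneg _) (Ne.symm hne)
  refine ⟨a, ha, ?_, fun x hx hxa => ?_⟩
  · have h1 : v a * v a = 1 := by omega
    exact mul_self_eq_one_iff.1 h1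
  · have hle := Finset.single_le_sum (f := fun x => v x * v x) (fun x _ => mul_self_nonneg _)
      (Finset.mem_erase.2 ⟨hxa, hx⟩)
    exact mul_self_eq_zero.1 (le_antisymm (by linarith) (mul_self_nonneg _))

theorem even_sum {κ : Type*} [Fintype κ] (h : κ → ℤ) (g : κ → κ) (hg : ∀ x, g (g x) = x) (hne : ∀ x, g x ≠ x)
    (hh : ∀ x, h (g x) = h x) : 2 ∣ ∑ x, h x := by
  refine (ZMod.intCast_zmod_eq_zero_iff_dvd _ 2).1 ?_
  rw [Int.cast_sum]
  refine Finset.sum_involution (fun x _ => g x) (fun x _ => ?_) (fun x _ _ => hne x) (fun x _ => Finset.mem_univ _)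
    (fun x _ => hg x)
  rw [hh]
  exact CharTwo.add_self_eq_zero _

end Tools

namespace Cols

variable {ι L J : Type*} [Fintype ι] [Fintype L] [Fintype J] (K : Cols ι L J)

theorem deg_ne (χ : ι) : K.deg χ ≠ 0 := (K.deg_pos χ).ne'

theorem f_ge : 13 ≤ K.f := by
  have := K.he; rcases K.hε with h | h <;> rw [K.hf, h] <;> omega

theorem f_sub : K.f - 2 * K.e = K.ε := by rw [K.hf]; ring

theorem eps_sq : K.ε * K.ε = 1 := by rcases K.hε with h | h <;> rw [h] <;> norm_num

theorem f_not_dvd {a : ℤ} (ha : -2 ≤ a) (ha' : a ≤ 2) (h : K.f ∣ 2 * K.e * a) : a = 0 := by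
  have hc : IsCoprime K.f (2 * K.e) := ⟨K.ε, -K.ε, by linear_combination K.ε * K.f_sub + K.eps_sq⟩
  obtain ⟨k, hk⟩ := hc.dvd_of_dvd_mul_left h
  have := K.f_ge
  rcases lt_trichotomy k 0 with h1 | h1 | h1
  · nlinarith
  · rw [hk, h1, mul_zero]
  · nlinarith

theorem parity (χ : ι) : 2 ∣ K.A χ + K.P χ + K.Δ χ := by
  obtain ⟨i1, h1⟩ := even_sum (fun l => K.B l χ) K.inv K.inv_inv K.inv_ne (fun l => by rw [K.B_inv])
  obtain ⟨i2, h2⟩ := even_sum (fun j => K.C j χ) K.jinv K.jinv_jinv K.jinv_ne (fun j => by rw [K.C_inv])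
  obtain ⟨i3, h3⟩ := K.W_par χ
  obtain ⟨i4, h4⟩ : Odd K.ε := by rcases K.hε with h | h <;> rw [h] <;> decide
  have h5 := K.tau_R χ
  have h6 := K.tau_T χ
  refine ⟨K.A χ + i3 + i2 - i1 + K.W χ * i4, ?_⟩
  linear_combination h6 - h5 + h3 - h1 + h2 + K.W χ * K.f_sub + K.W χ * h4

/-- `τ` from `A, P` and the exceptional columns -/
theorem tau_eq (χ : ι) :
    K.τ χ = K.ε * (K.f * (K.P χ + ∑ l, K.B l χ) - 2 * K.e * (K.A χ + ∑ j, K.C j χ)) := by
  linear_combination K.ε * (K.f * K.tau_R χ - 2 * K.e * K.tau_T χ) - K.τ χ * K.eps_sq - K.ε * K.τ χ * K.f_sub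

theorem rot_facts (l : L) : K.rot (K.rot l) ≠ l ∧ K.rot (K.rot l) ≠ K.inv l ∧ K.inv (K.rot (K.rot l)) ≠ l := by
  refine ⟨fun h => ?_, fun h => ?_, fun h => ?_⟩
  · have := congrArg K.rot h
    rw [K.rot_three] at this
    exact K.rot_ne l this.symm
  · have := congrArg K.rot h
    rw [K.rot_three, K.rot_inv] at this
    exact K.rot_ne_inv l (by rw [← K.inv_inv (K.rot l), ← this])
  · have := congrArg K.rot h
    rw [K.rot_inv, K.rot_three] at this
    exact K.rot_ne_inv l this.symm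

/-- the constituents `a, b, c, z` of the orbit of `l` -/
structure Quad (l : L) where
  a : ι
  b : ι
  c : ι
  z : ι
  s : ℤ
  hab : a ≠ b
  hac : a ≠ c
  haz : a ≠ z
  hbc : b ≠ c
  hbz : b ≠ z
  hcz : c ≠ z
  hs : s = 1 ∨ s = -1
  deg_b : K.deg b = K.deg a
  deg_c : K.deg c = K.deg a
  deg_z : K.deg z = K.deg a
  Ba : K.B l a = s ∧ K.B l b = -s ∧ K.B l c = -s ∧ K.B l z = s
  Bb : K.B (K.rot l) a = -s ∧ K.B (K.rot l) b = s ∧ K.B (K.rot l) c = -s ∧ K.B (K.rot l) z = s
  Bc : K.B (K.rot (K.rot l)) a = -s ∧ K.B (K.rot (K.rot l)) b = -s ∧ K.B (K.rot (K.rot l)) c = s ∧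
    K.B (K.rot (K.rot l)) z = s
  off : ∀ χ, χ ≠ a → χ ≠ b → χ ≠ c → χ ≠ z →
    K.B l χ = 0 ∧ K.B (K.rot l) χ = 0 ∧ K.B (K.rot (K.rot l)) χ = 0
  Vab : ∀ χ, χ ≠ a → χ ≠ b → K.V l χ = K.V (K.rot l) χ
  Vbc : ∀ χ, χ ≠ b → χ ≠ c → K.V (K.rot l) χ = K.V (K.rot (K.rot l)) χ
  Va : K.V l a - K.V (K.rot l) a = -s
  Vb : K.V l b - K.V (K.rot l) b = s

theorem exists_quad (l : L) : Nonempty (K.Quad l) := by
  classical
  set la := l with hla
  set lb := K.rot l with hlb
  set lc := K.rot lb with hlc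
  obtain ⟨n1, n2, n3⟩ := K.rot_facts l
  -- the differences of the columns `V`
  have hca : K.rot lc = la := K.rot_three l
  have dot : ∀ x y : L, ∑ χ, (K.V x χ - K.V y χ) * (K.V x χ - K.V y χ) =
      ∑ χ, K.V x χ * K.V x χ - 2 * ∑ χ, K.V x χ * K.V y χ + ∑ χ, K.V y χ * K.V y χ := by
    intro x y
    rw [Finset.mul_sum, ← Finset.sum_sub_distrib, ← Finset.sum_add_distrib]
    exact Finset.sum_congr rfl fun χ _ => by ring
  have hu : ∑ χ, (K.V la χ - K.V lb χ) * (K.V la χ - K.V lb χ) = 2 := by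
    rw [dot, K.VV, K.VV, K.VV']; norm_num
  have hw : ∑ χ, (K.V lb χ - K.V lc χ) * (K.V lb χ - K.V lc χ) = 2 := by
    rw [dot, K.VV, K.VV, K.VV']; norm_num
  have huw : ∑ χ, (K.V la χ - K.V lb χ) * (K.V lb χ - K.V lc χ) = -1 := by
    have h1 := K.VV' la
    have h2 := K.VV lb
    have h3 : ∑ χ, K.V la χ * K.V lc χ = 2 := by
      rw [← K.VV' lc, hca]; exact Finset.sum_congr rfl fun χ _ => mul_comm _ _
    have h4 := K.VV' lb
    rw [← hlb] at h1
    rw [← hlc] at h4
    simp only [sub_mul, mul_sub, Finset.sum_sub_distrib]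
    rw [h1, h2, h3, h4]; norm_num
  have degdiff : ∀ x y : L, ∑ χ, (K.V x χ - K.V y χ) * K.deg χ = 0 := by
    intro x y
    simp only [sub_mul, Finset.sum_sub_distrib, K.degV, sub_zero]
  obtain ⟨x, y, hxy, hx, hy, hoff⟩ := exists_two hu
  obtain ⟨x', y', hxy', hx', hy', hoff'⟩ := exists_two hw
  -- opposite signs and equal degrees
  have opp : ∀ {v : ι → ℤ} {x y : ι}, x ≠ y → (v x = 1 ∨ v x = -1) → (v y = 1 ∨ v y = -1) →
      (∀ t, t ≠ x → t ≠ y → v t = 0) → (∑ χ, v χ * K.deg χ = 0) → v y = -v x ∧ K.deg y = K.deg x := by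
    intro v x y hne h1 h2 h0 hd
    rw [← Finset.sum_subset (Finset.subset_univ ({x, y} : Finset ι)) (fun t _ ht => by
      simp only [Finset.mem_insert, Finset.mem_singleton, not_or] at ht; rw [h0 t ht.1 ht.2, zero_mul]),
      Finset.sum_pair hne] at hd
    have := K.deg_pos x
    have := K.deg_pos y
    rcases h1 with e1 | e1 <;> rcases h2 with e2 | e2 <;> rw [e1, e2] at hd <;> rw [e1, e2] <;>
      constructor <;> linarith
  obtain ⟨hyx, hdy⟩ := opp hxy hx hy hoff (degdiff la lb)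
  obtain ⟨hyx', hdy'⟩ := opp hxy' hx' hy' hoff' (degdiff lb lc)
  rw [← Finset.sum_subset (Finset.subset_univ ({x, y} : Finset ι)) (fun t _ ht => by
      simp only [Finset.mem_insert, Finset.mem_singleton, not_or] at ht; rw [hoff t ht.1 ht.2, zero_mul]),
    Finset.sum_pair hxy] at huw
  -- name the common constituent `b`
  obtain ⟨a, b, s, hab, hs, hdb, hVa, hVb, hVoff, hbv, hav⟩ : ∃ a b s, a ≠ b ∧ (s = 1 ∨ s = -1) ∧ K.deg b = K.deg a ∧
      K.V la a - K.V lb a = -s ∧ K.V la b - K.V lb b = s ∧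
      (∀ t, t ≠ a → t ≠ b → K.V la t - K.V lb t = 0) ∧
      K.V lb b - K.V lc b = -s ∧ K.V lb a - K.V lc a = 0 := by
    have three : ∀ t, K.V lb t - K.V lc t = 0 ∨ K.V lb t - K.V lc t = 1 ∨ K.V lb t - K.V lc t = -1 := by
      intro t
      by_cases h1 : t = x'
      · subst h1; rcases hx' with e | e <;> simp [e]
      · by_cases h2 : t = y'
        · subst h2; rcases hy' with e | e <;> simp [e]
        · exact Or.inl (hoff' t h1 h2)
    rcases hx with e | e <;> rw [e] at hyx huw <;> rw [hyx] at huw <;>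
      rcases three x with p | p | p <;> rcases three y with r | r | r <;> rw [p, r] at huw <;>
      first
        | exact ⟨y, x, K.V la x - K.V lb x, hxy.symm, by omega, hdy.symm, by omega, rfl, fun t h1 h2 => hoff t h2 h1,
            by omega, by omega⟩
        | exact ⟨x, y, K.V la y - K.V lb y, hxy, by omega, hdy, by omega, rfl, hoff, by omega, by omega⟩
        | (exfalso; norm_num at huw)
  have hbin : b = x' ∨ b = y' := by
    by_contra h
    rw [not_or] at h
    rw [hoff' b h.1 h.2] at hbv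
    rcases hs with e | e <;> rw [e] at hbv <;> norm_num at hbv
  obtain ⟨c, hbc, hcv, hcd, hWoff⟩ : ∃ c, b ≠ c ∧ K.V lb c - K.V lc c = s ∧ K.deg c = K.deg b ∧
      ∀ t, t ≠ b → t ≠ c → K.V lb t - K.V lc t = 0 := by
    rcases hbin with rfl | rfl
    · exact ⟨y', hxy', by omega, hdy', hoff'⟩
    · exact ⟨x', hxy'.symm, by omega, hdy'.symm, fun t h1 h2 => hoff' t h2 h1⟩
  have hac : a ≠ c := by rintro rfl; rw [hav] at hcv; rcases hs with e | e <;> rw [e] at hcv <;> norm_num at hcv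
  -- the columns `B`
  have Bd : ∀ t, K.B la t - K.B lb t = -2 * (K.V la t - K.V lb t) := fun t => by rw [K.B_diff]; ring
  have Bd' : ∀ t, K.B lb t - K.B lc t = -2 * (K.V lb t - K.V lc t) := fun t => by rw [hlc, K.B_diff]; ring
  have e1a := Bd a
  have e1b := Bd b
  rw [hVa] at e1a
  rw [hVb] at e1b
  have e2b := Bd' b
  have e2c := Bd' c
  rw [hbv] at e2b
  rw [hcv] at e2c
  have e2a := Bd' a
  rw [hav] at e2a
  have e1c := Bd c
  rw [hVoff c hac.symm hbc.symm] at e1c
  have same : ∀ t, t ≠ a → t ≠ b → t ≠ c → K.B lb t = K.B la t ∧ K.B lc t = K.B la t := by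
    intro t h1 h2 h3
    have p1 := Bd t
    have p2 := Bd' t
    rw [hVoff t h1 h2] at p1
    rw [hWoff t h2 h3] at p2
    constructor <;> linarith
  have na := K.BB la
  have horth : ∑ χ, K.B la χ * K.B lb χ = 0 := K.BB' la lb (K.rot_ne l) (K.rot_ne_inv l)
  have horth' : ∑ χ, K.B la χ * K.B lc χ = 0 := K.BB' la lc n1 n2
  set S : Finset ι := ({a, b, c} : Finset ι)ᶜ with hS
  have spl : ∀ h : ι → ℤ, ∑ χ, h χ = h a + h b + h c + ∑ χ ∈ S, h χ := by
    intro h
    rw [hS, ← Finset.sum_add_sum_compl ({a, b, c} : Finset ι) h, Finset.sum_insert (by simp [hab, hac]),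
      Finset.sum_pair hbc]
    ring
  have hSS : ∀ x ∈ S, K.B lb x = K.B la x ∧ K.B lc x = K.B la x := by
    intro x hx
    simp only [hS, Finset.mem_compl, Finset.mem_insert, Finset.mem_singleton, not_or] at hx
    exact same x hx.1 hx.2.1 hx.2.2
  set R := ∑ χ ∈ S, K.B la χ * K.B la χ with hR
  have hR0 : 0 ≤ R := Finset.sum_nonneg fun x _ => mul_self_nonneg _
  rw [spl, ← hR] at na
  rw [spl, Finset.sum_congr rfl (fun x hx => by rw [(hSS x hx).1]), ← hR] at horth
  rw [spl, Finset.sum_congr rfl (fun x hx => by rw [(hSS x hx).2]), ← hR] at horth'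
  rw [show K.B lb a = K.B la a - 2 * s by linarith, show K.B lb b = K.B la b + 2 * s by linarith,
    show K.B lb c = K.B la c by linarith] at horth
  rw [show K.B lc a = K.B la a - 2 * s by linarith, show K.B lc b = K.B la b by linarith,
    show K.B lc c = K.B la c + 2 * s by linarith] at horth'
  have huv : K.B la a - K.B la b = 2 * s := by
    have h1 : s * (K.B la a - K.B la b) = 2 := by linarith
    rcases hs with e | e <;> rw [e] at h1 ⊢ <;> linarith
  have huc : K.B la a - K.B la c = 2 * s := by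
    have h1 : s * (K.B la a - K.B la c) = 2 := by linarith
    rcases hs with e | e <;> rw [e] at h1 ⊢ <;> linarith
  have hdeg := K.degB la
  rw [spl, hcd, hdb] at hdeg
  -- `B la a = s`
  have hu0 : K.B la a = s := by
    have hb1 : K.B la b = K.B la a - 2 * s := by linarith
    have hc1 : K.B la c = K.B la a - 2 * s := by linarith
    rw [hb1, hc1] at na hdeg
    set u := K.B la a
    have hle : u * u + (u - 2 * s) * (u - 2 * s) + (u - 2 * s) * (u - 2 * s) ≤ 4 := by linarith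
    rcases hs with e | e <;> rw [e] at hle hdeg na ⊢
    · have : 1 ≤ u := by nlinarith
      have : u ≤ 2 := by nlinarith
      rcases (show u = 1 ∨ u = 2 by omega) with h | h
      · exact h
      · exfalso
        rw [h] at hdeg na
        have hz : ∀ x ∈ S, K.B la x = 0 := fun x hx => mul_self_eq_zero.1
          ((Finset.sum_eq_zero_iff_of_nonneg fun x _ => mul_self_nonneg (K.B la x)).1 (by linarith) x hx)
        rw [Finset.sum_eq_zero fun x hx => by rw [hz x hx, zero_mul]] at hdeg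
        linarith [K.deg_pos a]
    · have : u ≤ -1 := by nlinarith
      have : -2 ≤ u := by nlinarith
      rcases (show u = -1 ∨ u = -2 by omega) with h | h
      · exact h
      · exfalso
        rw [h] at hdeg na
        have hz : ∀ x ∈ S, K.B la x = 0 := fun x hx => mul_self_eq_zero.1
          ((Finset.sum_eq_zero_iff_of_nonneg fun x _ => mul_self_nonneg (K.B la x)).1 (by linarith) x hx)
        rw [Finset.sum_eq_zero fun x hx => by rw [hz x hx, zero_mul]] at hdeg
        linarith [K.deg_pos a]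
  have hb1 : K.B la b = -s := by linarith
  have hc1 : K.B la c = -s := by linarith
  rw [hu0, hb1, hc1] at na hdeg
  obtain ⟨z, hzS, hz1, hzoff⟩ := exists_one (v := K.B la) (S := S) (by rcases hs with e | e <;> rw [e] at na <;> linarith)
  rw [Finset.sum_eq_single z (fun x hx hxz => by rw [hzoff x hx hxz, zero_mul]) (fun h => absurd hzS h)] at hdeg
  have hzne : z ≠ a ∧ z ≠ b ∧ z ≠ c := by
    simpa [hS, Finset.mem_compl, not_or] using hzS
  have hzs : K.B la z = s ∧ K.deg z = K.deg a := by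
    have := K.deg_pos a
    have := K.deg_pos z
    rcases hs with e | e <;> rcases hz1 with e' | e' <;> rw [e, e'] at hdeg <;> rw [e, e'] <;> constructor <;> linarith
  obtain ⟨sz1, sz2⟩ := hSS z hzS
  refine ⟨{ a := a, b := b, c := c, z := z, s := s, hab := hab, hac := hac, haz := hzne.1.symm, hbc := hbc,
            hbz := hzne.2.1.symm, hcz := hzne.2.2.symm, hs := hs, deg_b := hdb, deg_c := hcd.trans hdb,
            deg_z := hzs.2, Ba := ⟨hu0, hb1, hc1, hzs.1⟩,
            Bb := ⟨by linarith, by linarith, by linarith, sz1.trans hzs.1⟩,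
            Bc := ⟨by linarith, by linarith, by linarith, sz2.trans hzs.1⟩,
            off := fun x h1 h2 h3 h4 => ?_,
            Vab := fun x h1 h2 => sub_eq_zero.1 (hVoff x h1 h2),
            Vbc := fun x h1 h2 => sub_eq_zero.1 (hWoff x h1 h2),
            Va := hVa, Vb := hVb }⟩
  have hxS : x ∈ S := by simp [hS, Finset.mem_compl, h1, h2, h3]
  have h0 : K.B la x = 0 := hzoff x hxS h4
  exact ⟨h0, (hSS x hxS).1.trans h0, (hSS x hxS).2.trans h0⟩

end Cols

end CfsgLib.Recog.JankoThompson
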