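import Cfsg.Agent.Lib.Recog.JankoThompson.Quad

/-!
Owner: helper22. Groups of Janko–Thompson type: the constituents of `A, P, Δ, G` are free of the exceptional
columns.
-/

set_option autoImplicit false
set_option linter.all false
set_option maxHeartbeats 1600000

namespace CfsgLib.Recog.JankoThompson.Cols

variable {ι L J : Type*} [Fintype ι] [Fintype L] [Fintype J] [DecidableEq ι] {K : Cols ι L J}

/-- a column with two nonzero entries of absolute value one and degree zero -/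
theorem opposite (K : Cols ι L J) {v : ι → ℤ} {x y : ι} (hne : x ≠ y) (h1 : v x = 1 ∨ v x = -1)
    (h2 : v y = 1 ∨ v y = -1) (h0 : ∀ t, t ≠ x → t ≠ y → v t = 0) (hd : ∑ χ, v χ * K.deg χ = 0) :
    v y = -v x ∧ K.deg y = K.deg x := by
  rw [← Finset.sum_subset (Finset.subset_univ ({x, y} : Finset ι)) (fun t _ ht => by
    simp only [Finset.mem_insert, Finset.mem_singleton, not_or] at ht; rw [h0 t ht.1 ht.2, zero_mul]),
    Finset.sum_pair hne] at hd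
  have := K.deg_pos x
  have := K.deg_pos y
  rcases h1 with e1 | e1 <;> rcases h2 with e2 | e2 <;> rw [e1, e2] at hd <;> rw [e1, e2] <;>
    constructor <;> linarith

theorem sq_bound {u : ι → ℤ} {N : ℤ} (h : ∑ x, u x * u x = N) (x : ι) : u x * u x ≤ N := h ▸ sq_le_sum u x

theorem A_bound (x : ι) : -2 ≤ K.A x ∧ K.A x ≤ 2 := by
  have := sq_bound K.AA x
  constructor <;> nlinarith

/-- the six members of the orbit of `l` -/
def InOrbit (K : Cols ι L J) (l m : L) : Prop :=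
  m = l ∨ m = K.inv l ∨ m = K.rot l ∨ m = K.inv (K.rot l) ∨ m = K.rot (K.rot l) ∨ m = K.inv (K.rot (K.rot l))

theorem sum_six (K : Cols ι L J) (l : L) (h : L → ℤ) (hi : ∀ m, h (K.inv m) = h m)
    (h0 : ∀ m, ¬ K.InOrbit l m → h m = 0) : ∑ m, h m = 2 * (h l + h (K.rot l) + h (K.rot (K.rot l))) := by
  classical
  obtain ⟨n1, n2, n3⟩ := K.rot_facts l
  have inj : ∀ {x y : L}, K.inv x = K.inv y → x = y := fun {x y} h => by
    have := congrArg K.inv h; rwa [K.inv_inv, K.inv_inv] at this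
  have d1 := K.inv_ne l
  have d2 := K.rot_ne l
  have d3 := K.rot_ne_inv l
  have d4 : K.inv (K.rot l) ≠ l := fun e => d3 (by rw [← K.inv_inv (K.rot l), e])
  have d5 : K.inv (K.rot l) ≠ K.inv l := fun e => d2 (inj e)
  have d6 : K.inv (K.rot (K.rot l)) ≠ K.inv l := fun e => n1 (inj e)
  have d7 := K.inv_ne (K.rot l)
  have d8 := K.rot_ne (K.rot l)
  have d9 := K.rot_ne_inv (K.rot l)
  have d10 : K.inv (K.rot (K.rot l)) ≠ K.rot l := fun e => d9 (by rw [← K.inv_inv (K.rot (K.rot l)), e])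
  have d11 : K.inv (K.rot (K.rot l)) ≠ K.inv (K.rot l) := fun e => d8 (inj e)
  have d12 := K.inv_ne (K.rot (K.rot l))
  rw [← Finset.sum_subset (Finset.subset_univ ({l, K.inv l, K.rot l, K.inv (K.rot l), K.rot (K.rot l),
    K.inv (K.rot (K.rot l))} : Finset L)) (fun m _ hm => h0 m (by simpa [InOrbit] using hm))]
  rw [Finset.sum_insert (by simp [d1.symm, d2.symm, d4.symm, n1.symm, n3.symm]),
    Finset.sum_insert (by simp [d3.symm, d5.symm, n2.symm, d6.symm]),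
    Finset.sum_insert (by simp [d7.symm, d8.symm, d10.symm]),
    Finset.sum_insert (by simp [d9.symm, d11.symm]),
    Finset.sum_pair d12.symm, hi, hi, hi]
  ring

namespace Quad

variable {l : L} (Q : K.Quad l)

/-- membership in the quadruple -/
def Mem (χ : ι) : Prop := χ = Q.a ∨ χ = Q.b ∨ χ = Q.c ∨ χ = Q.z

theorem deg_mem {χ : ι} (h : Q.Mem χ) : K.deg χ = K.deg Q.a := by
  rcases h with rfl | rfl | rfl | rfl
  exacts [rfl, Q.deg_b, Q.deg_c, Q.deg_z]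

theorem B_off {χ : ι} (h : ¬ Q.Mem χ) : ∀ m, K.InOrbit l m → K.B m χ = 0 := by
  simp only [Mem, not_or] at h
  obtain ⟨e1, e2, e3⟩ := Q.off χ h.1 h.2.1 h.2.2.1 h.2.2.2
  rintro m (rfl | rfl | rfl | rfl | rfl | rfl) <;> simp [K.B_inv, e1, e2, e3]

theorem dot_B (u : ι → ℤ) :
    ∑ χ, u χ * K.B l χ = Q.s * (u Q.a - u Q.b - u Q.c + u Q.z) ∧
      ∑ χ, u χ * K.B (K.rot l) χ = Q.s * (-u Q.a + u Q.b - u Q.c + u Q.z) ∧
      ∑ χ, u χ * K.B (K.rot (K.rot l)) χ = Q.s * (-u Q.a - u Q.b + u Q.c + u Q.z) := by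
  obtain ⟨a1, a2, a3, a4⟩ := Q.Ba
  obtain ⟨b1, b2, b3, b4⟩ := Q.Bb
  obtain ⟨c1, c2, c3, c4⟩ := Q.Bc
  have hoff : ∀ x, x ∈ ({Q.a, Q.b, Q.c, Q.z} : Finset ι)ᶜ → K.B l x = 0 ∧ K.B (K.rot l) x = 0 ∧
      K.B (K.rot (K.rot l)) x = 0 := by
    intro x hx
    simp only [Finset.mem_compl, Finset.mem_insert, Finset.mem_singleton, not_or] at hx
    exact Q.off x hx.1 hx.2.1 hx.2.2.1 hx.2.2.2
  refine ⟨?_, ?_, ?_⟩ <;> rw [sum_sdiff_four _ Q.hab Q.hac Q.haz Q.hbc Q.hbz Q.hcz,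
    Finset.sum_eq_zero (fun x hx => by
      obtain ⟨e1, e2, e3⟩ := hoff x hx
      first | rw [e1, mul_zero] | rw [e2, mul_zero] | rw [e3, mul_zero]), add_zero]
  · rw [a1, a2, a3, a4]; ring
  · rw [b1, b2, b3, b4]; ring
  · rw [c1, c2, c3, c4]; ring

theorem const {u : ι → ℤ} (h1 : ∑ χ, u χ * K.B l χ = 0) (h2 : ∑ χ, u χ * K.B (K.rot l) χ = 0)
    (h3 : ∑ χ, u χ * K.B (K.rot (K.rot l)) χ = 0) : u Q.b = u Q.a ∧ u Q.c = u Q.a ∧ u Q.z = u Q.a := by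
  obtain ⟨e1, e2, e3⟩ := Q.dot_B u
  rw [h1] at e1
  rw [h2] at e2
  rw [h3] at e3
  have hs : Q.s ≠ 0 := by rcases Q.hs with e | e <;> omega
  have f1 := (mul_eq_zero.1 e1.symm).resolve_left hs
  have f2 := (mul_eq_zero.1 e2.symm).resolve_left hs
  have f3 := (mul_eq_zero.1 e3.symm).resolve_left hs
  refine ⟨?_, ?_, ?_⟩ <;> linarith

theorem zero_small {u : ι → ℤ} {N : ℤ} (h1 : ∑ χ, u χ * K.B l χ = 0) (h2 : ∑ χ, u χ * K.B (K.rot l) χ = 0)
    (h3 : ∑ χ, u χ * K.B (K.rot (K.rot l)) χ = 0) (hN : ∑ χ, u χ * u χ = N) (hN4 : N ≤ 4)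
    (hd : ∑ χ, u χ * K.deg χ = 0) {χ : ι} (hχ : Q.Mem χ) : u χ = 0 := by
  obtain ⟨e1, e2, e3⟩ := Q.const h1 h2 h3
  have key : u Q.a = 0 := by
    by_contra hne
    rw [sum_sdiff_four _ Q.hab Q.hac Q.haz Q.hbc Q.hbz Q.hcz, e1, e2, e3] at hN hd
    have h0 : 0 ≤ ∑ x ∈ ({Q.a, Q.b, Q.c, Q.z} : Finset ι)ᶜ, u x * u x :=
      Finset.sum_nonneg fun x _ => mul_self_nonneg _
    have hp : 1 ≤ u Q.a * u Q.a := mul_self_pos.2 hne
    have hz : ∑ x ∈ ({Q.a, Q.b, Q.c, Q.z} : Finset ι)ᶜ, u x * u x = 0 := by linarith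
    rw [Finset.sum_eq_zero (fun x hx => by
      rw [mul_self_eq_zero.1 ((Finset.sum_eq_zero_iff_of_nonneg fun x _ => mul_self_nonneg (u x)).1 hz x hx),
        zero_mul]), Q.deg_b, Q.deg_c, Q.deg_z] at hd
    have : u Q.a * K.deg Q.a = 0 := by linarith
    rcases mul_eq_zero.1 this with e | e
    exacts [hne e, K.deg_ne _ e]
  rcases hχ with rfl | rfl | rfl | rfl
  exacts [key, e1.trans key, e2.trans key, e3.trans key]

theorem A_zero {χ : ι} (h : Q.Mem χ) : K.A χ = 0 :=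
  Q.zero_small (K.AB _) (K.AB _) (K.AB _) K.AA le_rfl K.degA h

theorem D_zero {χ : ι} (h : Q.Mem χ) : K.Δ χ = 0 :=
  Q.zero_small (K.DB _) (K.DB _) (K.DB _) K.DD le_rfl K.degD h

theorem C_zero {χ : ι} (h : Q.Mem χ) (j : J) : K.C j χ = 0 := by
  have sw : ∀ m, ∑ x, K.C j x * K.B m x = 0 := fun m => by
    rw [← K.BC m j]; exact Finset.sum_congr rfl fun x _ => mul_comm _ _
  exact Q.zero_small (sw _) (sw _) (sw _) (K.CC j) (by norm_num) (K.degC j) h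

theorem P_zero {χ : ι} (h : Q.Mem χ) : K.P χ = 0 := by
  obtain ⟨e1, e2, e3⟩ := Q.const (K.PB _) (K.PB _) (K.PB _)
  have hP := K.PP
  rw [sum_sdiff_four _ Q.hab Q.hac Q.haz Q.hbc Q.hbz Q.hcz, e1, e2, e3] at hP
  have h0 : 0 ≤ ∑ x ∈ ({Q.a, Q.b, Q.c, Q.z} : Finset ι)ᶜ, K.P x * K.P x :=
    Finset.sum_nonneg fun x _ => mul_self_nonneg _
  obtain ⟨k, hk⟩ : 2 ∣ K.P Q.a := by
    have := K.parity Q.a
    rwa [Q.A_zero (Or.inl rfl), Q.D_zero (Or.inl rfl), zero_add, add_zero] at this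
  have key : K.P Q.a = 0 := by
    rw [hk] at hP ⊢
    have : k * k < 1 := by nlinarith
    rw [mul_self_eq_zero.1 (le_antisymm (Int.lt_add_one_iff.1 (by simpa using this)) (mul_self_nonneg k)), mul_zero]
  rcases h with rfl | rfl | rfl | rfl
  exacts [key, e1.trans key, e2.trans key, e3.trans key]

theorem B_other {χ : ι} (h : Q.Mem χ) {m : L} (hm : ¬ K.InOrbit l m) : K.B m χ = 0 := by
  simp only [InOrbit, not_or] at hm
  obtain ⟨h1, h2, h3, h4, h5, h6⟩ := hm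
  have sw : ∀ x, m ≠ x → m ≠ K.inv x → ∑ t, K.B m t * K.B x t = 0 := fun x e e' => by
    rw [← K.BB' x m e e']; exact Finset.sum_congr rfl fun _ _ => mul_comm _ _
  exact Q.zero_small (sw _ h1 h2) (sw _ h3 h4) (sw _ h5 h6) (K.BB m) le_rfl (K.degB m) h

theorem sum_B {χ : ι} (h : Q.Mem χ) :
    ∑ m, K.B m χ = 2 * (K.B l χ + K.B (K.rot l) χ + K.B (K.rot (K.rot l)) χ) :=
  K.sum_six l (fun m => K.B m χ) (fun m => by rw [K.B_inv]) fun m hm => Q.B_other h hm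

theorem tau_mem {χ : ι} (h : Q.Mem χ) :
    K.τ χ = K.ε * K.f * (2 * (K.B l χ + K.B (K.rot l) χ + K.B (K.rot (K.rot l)) χ)) := by
  rw [K.tau_eq, Q.P_zero h, Q.A_zero h, Q.sum_B h, Finset.sum_eq_zero (fun j _ => Q.C_zero h j)]
  ring

theorem tau_values : K.τ Q.a = -(2 * K.ε * K.f * Q.s) ∧ K.τ Q.b = -(2 * K.ε * K.f * Q.s) ∧
    K.τ Q.c = -(2 * K.ε * K.f * Q.s) ∧ K.τ Q.z = 6 * K.ε * K.f * Q.s := by
  obtain ⟨a1, a2, a3, a4⟩ := Q.Ba
  obtain ⟨b1, b2, b3, b4⟩ := Q.Bb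
  obtain ⟨c1, c2, c3, c4⟩ := Q.Bc
  refine ⟨?_, ?_, ?_, ?_⟩
  · rw [Q.tau_mem (Or.inl rfl), a1, b1, c1]; ring
  · rw [Q.tau_mem (Or.inr (Or.inl rfl)), a2, b2, c2]; ring
  · rw [Q.tau_mem (Or.inr (Or.inr (Or.inl rfl))), a3, b3, c3]; ring
  · rw [Q.tau_mem (Or.inr (Or.inr (Or.inr rfl))), a4, b4, c4]; ring

/-- the signed degree `D` -/
def D : ℤ := Q.s * K.deg Q.a

theorem N_eq : K.N = 4 * K.ε * K.e * K.q ^ 3 * Q.D := by
  obtain ⟨a1, a2, a3, a4⟩ := Q.Ba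
  obtain ⟨t1, t2, t3, t4⟩ := Q.tau_values
  have h := K.eqB l
  rw [sum_sdiff_four _ Q.hab Q.hac Q.haz Q.hbc Q.hbz Q.hcz,
    Finset.sum_eq_zero (fun x hx => by
      simp only [Finset.mem_compl, Finset.mem_insert, Finset.mem_singleton, not_or] at hx
      rw [(Q.off x hx.1 hx.2.1 hx.2.2.1 hx.2.2.2).1]; simp),
    a1, a2, a3, a4, t1, t2, t3, t4, Q.deg_b, Q.deg_c, Q.deg_z] at h
  have hd : (K.deg Q.a : ℚ) ≠ 0 := by exact_mod_cast K.deg_ne Q.a
  have hN : (K.N : ℚ) ≠ 0 := by exact_mod_cast K.N_pos.ne'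
  have he : (K.e : ℚ) ≠ 0 := by exact_mod_cast (by linarith [K.he] : K.e ≠ 0)
  have hεQ : (K.ε : ℚ) * K.ε = 1 := by exact_mod_cast K.eps_sq
  have hsQ : (Q.s : ℚ) * Q.s = 1 := by rcases Q.hs with e | e <;> rw [e] <;> norm_num
  push_cast at h
  have h' : 32 * (K.f : ℚ) ^ 2 * Q.s * K.N = 128 * K.ε * K.e * K.f ^ 2 * K.q ^ 3 * K.deg Q.a := by
    have l1 : ((Q.s : ℚ) * (-(2 * K.ε * K.f * Q.s)) ^ 2 / K.deg Q.a + -(Q.s : ℚ) * (-(2 * K.ε * K.f * Q.s)) ^ 2 / K.deg Q.a +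
        -(Q.s : ℚ) * (-(2 * K.ε * K.f * Q.s)) ^ 2 / K.deg Q.a + Q.s * (6 * K.ε * K.f * Q.s) ^ 2 / K.deg Q.a) =
        32 * (K.f : ℚ) ^ 2 * Q.s / K.deg Q.a := by
      field_simp
      linear_combination 32 * (K.f : ℚ) ^ 2 * Q.s * (K.ε : ℚ) ^ 2 * hsQ + 32 * (K.f : ℚ) ^ 2 * Q.s * hεQ
    rw [add_zero, l1] at h
    field_simp at h ⊢
    linear_combination h
  have h'' : 32 * K.f ^ 2 * Q.s * K.N = 128 * K.ε * K.e * K.f ^ 2 * K.q ^ 3 * K.deg Q.a := by exact_mod_cast h'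
  have hf : (32 : ℤ) * K.f ^ 2 ≠ 0 := mul_ne_zero (by norm_num) (pow_ne_zero 2 (by linarith [K.f_ge]))
  have hs2 : Q.s * Q.s = 1 := by rcases Q.hs with e | e <;> rw [e] <;> norm_num
  refine mul_left_cancel₀ hf ?_
  rw [D]
  linear_combination Q.s * h'' - 32 * K.f ^ 2 * K.N * hs2

end Quad

/-- free of all exceptional columns -/
def Free (K : Cols ι L J) (χ : ι) : Prop := (∀ m, K.B m χ = 0) ∧ ∀ j, K.C j χ = 0

theorem Free.tau {χ : ι} (h : K.Free χ) : K.τ χ = K.ε * (K.f * K.P χ - 2 * K.e * K.A χ) := by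
  rw [K.tau_eq, Finset.sum_eq_zero (fun m _ => h.1 m), Finset.sum_eq_zero (fun j _ => h.2 j), add_zero, add_zero]

theorem orbit_rot (K : Cols ι L J) {m : L} {χ : ι} (h : K.B m χ ≠ 0) : ∀ Q : K.Quad m, Q.Mem χ := fun Q => by
  by_contra hn
  exact h (Q.B_off hn m (Or.inl rfl))

theorem B_ne_facts (K : Cols ι L J) {m : L} {χ : ι} (h : K.B m χ ≠ 0) :
    K.A χ = 0 ∧ K.P χ = 0 ∧ K.Δ χ = 0 ∧ ∀ j, K.C j χ = 0 := by
  obtain ⟨Q⟩ := K.exists_quad m
  have hm := K.orbit_rot h Q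
  exact ⟨Q.A_zero hm, Q.P_zero hm, Q.D_zero hm, Q.C_zero hm⟩

theorem C_ne_facts (K : Cols ι L J) {j : J} {χ : ι} (h : K.C j χ ≠ 0) :
    K.A χ = 0 ∧ K.P χ = 0 ∧ K.Δ χ = 0 ∧ (∀ m, K.B m χ = 0) ∧
      ∃ y, y ≠ χ ∧ K.A y = 0 ∧ K.P y = 0 ∧ K.Δ y = 0 ∧ K.C j y = -K.C j χ ∧
        (∀ t, t ≠ χ → t ≠ y → K.C j t = 0) := by
  classical
  obtain ⟨a, b, hab, ha, hb, h0⟩ := exists_two (K.CC j)
  obtain ⟨y, hxy, hy, hx, hoff⟩ : ∃ y, χ ≠ y ∧ (K.C j y = 1 ∨ K.C j y = -1) ∧ (K.C j χ = 1 ∨ K.C j χ = -1) ∧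
      ∀ t, t ≠ χ → t ≠ y → K.C j t = 0 := by
    by_cases e1 : χ = a
    · subst e1; exact ⟨b, hab, hb, ha, h0⟩
    · by_cases e2 : χ = b
      · subst e2; exact ⟨a, hab.symm, ha, hb, fun t h1 h2 => h0 t h2 h1⟩
      · exact absurd (h0 χ e1 e2) h
  obtain ⟨hopp, hdeg⟩ := K.opposite hxy hx hy hoff (K.degC j)
  have hyne : K.C j y ≠ 0 := by rw [hopp]; exact neg_ne_zero.2 h
  have hB : ∀ t, K.C j t ≠ 0 → ∀ m, K.B m t = 0 := fun t ht m => by
    by_contra hm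
    exact ht ((K.B_ne_facts hm).2.2.2 j)
  have dot : ∀ u : ι → ℤ, ∑ t, u t * K.C j t = K.C j χ * (u χ - u y) := by
    intro u
    rw [← Finset.sum_subset (Finset.subset_univ ({χ, y} : Finset ι)) (fun t _ ht => by
      simp only [Finset.mem_insert, Finset.mem_singleton, not_or] at ht; rw [hoff t ht.1 ht.2, mul_zero]),
      Finset.sum_pair hxy, hopp]
    ring
  have eq_of : ∀ u : ι → ℤ, ∑ t, u t * K.C j t = 0 → u y = u χ := fun u hu => by
    rw [dot] at hu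
    linarith [(mul_eq_zero.1 hu).resolve_left h]
  have hA := eq_of _ (K.AC j)
  have hP := eq_of _ (K.PC j)
  have hD := eq_of _ (K.DC j)
  have hother : ∀ i, i ≠ j → i ≠ K.jinv j → K.C i χ = 0 ∧ K.C i y = 0 := by
    intro i h1 h2
    have he := eq_of (K.C i) (by rw [← K.CC' j i h1 h2]; exact Finset.sum_congr rfl fun t _ => mul_comm _ _)
    suffices K.C i χ = 0 from ⟨this, he.trans this⟩
    by_contra hne
    have hyi : K.C i y ≠ 0 := he ▸ hne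
    obtain ⟨a', b', hab', ha', hb', h0'⟩ := exists_two (K.CC i)
    obtain ⟨hop, -⟩ := K.opposite hab' ha' hb' h0' (K.degC i)
    have hmem : ∀ t, K.C i t ≠ 0 → t = a' ∨ t = b' := fun t ht => by
      by_contra hn; rw [not_or] at hn; exact ht (h0' t hn.1 hn.2)
    rcases hmem χ hne with e1 | e1 <;> rcases hmem y hyi with e2 | e2
    · exact hxy (e1.trans e2.symm)
    · rw [e1, e2, hop] at he; rcases ha' with e | e <;> omega
    · rw [e1, e2, hop] at he; rcases ha' with e | e <;> omega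
    · exact hxy (e1.trans e2.symm)
  have hsum : ∀ t, (∀ i, i ≠ j → i ≠ K.jinv j → K.C i t = 0) → ∑ i, K.C i t = 2 * K.C j t := by
    intro t ht
    rw [← Finset.sum_subset (Finset.subset_univ ({j, K.jinv j} : Finset J)) (fun i _ hi => by
      simp only [Finset.mem_insert, Finset.mem_singleton, not_or] at hi; exact ht i hi.1 hi.2),
      Finset.sum_pair (K.jinv_ne j).symm, K.C_inv]
    ring
  set X : ℤ := K.ε * (K.f * K.P χ - 2 * K.e * K.A χ) with hX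
  have tx : K.τ χ = X - K.ε * (4 * K.e) * K.C j χ := by
    rw [K.tau_eq, Finset.sum_eq_zero (fun m _ => hB χ h m), hsum χ (fun i a b => (hother i a b).1), hX]; ring
  have ty : K.τ y = X + K.ε * (4 * K.e) * K.C j χ := by
    rw [K.tau_eq, Finset.sum_eq_zero (fun m _ => hB y hyne m), hsum y (fun i a b => (hother i a b).2), hA, hP, hopp,
      hX]; ring
  have heq := K.eqC j
  rw [← Finset.sum_subset (Finset.subset_univ ({χ, y} : Finset ι)) (fun t _ ht => by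
      simp only [Finset.mem_insert, Finset.mem_singleton, not_or] at ht; rw [hoff t ht.1 ht.2]; simp),
    Finset.sum_pair hxy, hopp, hdeg] at heq
  have hdq : (K.deg χ : ℚ) ≠ 0 := by exact_mod_cast K.deg_ne χ
  have hsq : K.C j χ * (K.τ χ ^ 2 - K.τ y ^ 2) = 0 := by
    have : (K.C j χ : ℚ) * ((K.τ χ : ℚ) ^ 2 - (K.τ y : ℚ) ^ 2) = 0 := by
      push_cast at heq
      field_simp at heq
      linear_combination heq
    exact_mod_cast this
  have hX0 : X = 0 := by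
    have h1 := (mul_eq_zero.1 hsq).resolve_left h
    rw [tx, ty] at h1
    have h2 : X * (K.ε * (4 * K.e) * K.C j χ) = 0 := by linarith
    have he4 : K.ε * (4 * K.e) * K.C j χ ≠ 0 :=
      mul_ne_zero (mul_ne_zero (by rcases K.hε with e | e <;> omega) (by linarith [K.he])) h
    exact (mul_eq_zero.1 h2).resolve_right he4
  have hfP : K.f * K.P χ - 2 * K.e * K.A χ = 0 :=
    (mul_eq_zero.1 hX0).resolve_left (by rcases K.hε with e | e <;> omega)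
  have hA0 : K.A χ = 0 := K.f_not_dvd (A_bound χ).1 (A_bound χ).2 ⟨K.P χ, by linarith⟩
  have hP0 : K.P χ = 0 := by
    rw [hA0, mul_zero, sub_zero] at hfP
    exact (mul_eq_zero.1 hfP).resolve_left (by linarith [K.f_ge])
  have hD0 : K.Δ χ = 0 := by
    obtain ⟨k, hk⟩ : 2 ∣ K.Δ χ := by
      have := K.parity χ
      rwa [hA0, hP0, zero_add, zero_add] at this
    have hDD := K.DD
    rw [← Finset.sum_add_sum_compl ({χ, y} : Finset ι), Finset.sum_pair hxy, hD, hk] at hDD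
    have h0c : 0 ≤ ∑ t ∈ ({χ, y} : Finset ι)ᶜ, K.Δ t * K.Δ t := Finset.sum_nonneg fun t _ => mul_self_nonneg _
    have hk0 : k * k = 0 := le_antisymm (by linarith) (mul_self_nonneg k)
    rw [hk, mul_self_eq_zero.1 hk0, mul_zero]
  exact ⟨hA0, hP0, hD0, hB χ h, y, hxy.symm, hA.trans hA0, hP.trans hP0, hD.trans hD0, hopp, hoff⟩

/-- a constituent of `C j` lies in no other column `C i` -/
theorem C_only (K : Cols ι L J) {i j : J} {χ : ι} (hj : K.C j χ ≠ 0) (hi : K.C i χ ≠ 0) : i = j ∨ i = K.jinv j := by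
  classical
  by_contra hn
  rw [not_or] at hn
  obtain ⟨-, -, -, -, y, hy, -, -, -, hjy, hjoff⟩ := K.C_ne_facts hj
  obtain ⟨-, -, -, -, y', hy', -, -, -, hiy, hioff⟩ := K.C_ne_facts hi
  have h := K.CC' j i hn.1 hn.2
  rw [← Finset.sum_subset (Finset.subset_univ ({χ, y} : Finset ι)) (fun t _ ht => by
      simp only [Finset.mem_insert, Finset.mem_singleton, not_or] at ht; rw [hjoff t ht.1 ht.2, zero_mul]),
    Finset.sum_pair hy.symm, hjy] at h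
  have h2 : K.C i y = K.C i χ := by
    have h3 : K.C j χ * (K.C i χ - K.C i y) = 0 := by linarith
    linarith [(mul_eq_zero.1 h3).resolve_left hj]
  by_cases e : y = y'
  · rw [← e] at hiy; omega
  · exact hi (h2 ▸ hioff y hy e)

theorem free_of (K : Cols ι L J) {χ : ι} (h : K.A χ ≠ 0 ∨ K.P χ ≠ 0 ∨ K.Δ χ ≠ 0) : K.Free χ := by
  refine ⟨fun m => ?_, fun j => ?_⟩
  · by_contra hm
    obtain ⟨e1, e2, e3, -⟩ := K.B_ne_facts hm
    rcases h with h | h | h <;> contradiction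
  · by_contra hj
    obtain ⟨e1, e2, e3, -⟩ := K.C_ne_facts hj
    rcases h with h | h | h <;> contradiction

namespace Quad

variable {l : L} (Q : K.Quad l)

/-- the column `G = V + s [a]` -/
def G (χ : ι) : ℤ := K.V l χ + if χ = Q.a then Q.s else 0

theorem V_eq (χ : ι) : K.V l χ = Q.G χ - (if χ = Q.a then Q.s else 0) := by simp [G]

theorem Vb_eq (χ : ι) : K.V (K.rot l) χ = Q.G χ - (if χ = Q.b then Q.s else 0) := by
  by_cases h1 : χ = Q.a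
  · subst h1; rw [if_neg Q.hab, G, if_pos rfl]; linarith [Q.Va]
  · by_cases h2 : χ = Q.b
    · subst h2; rw [if_pos rfl, G, if_neg Q.hab.symm]; linarith [Q.Vb]
    · rw [if_neg h2, G, if_neg h1, Q.Vab χ h1 h2]; ring

theorem sum_G (h : ι → ℤ) : ∑ χ, Q.G χ * h χ = ∑ χ, K.V l χ * h χ + Q.s * h Q.a := by
  simp [G, add_mul, Finset.sum_add_distrib, ite_mul]

theorem sum_Gb (h : ι → ℤ) : ∑ χ, Q.G χ * h χ = ∑ χ, K.V (K.rot l) χ * h χ + Q.s * h Q.b := by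
  have : ∀ χ, Q.G χ = K.V (K.rot l) χ + (if χ = Q.b then Q.s else 0) := fun χ => by rw [Q.Vb_eq]; ring
  simp [this, add_mul, Finset.sum_add_distrib, ite_mul]

theorem G_deg : ∑ χ, Q.G χ * K.deg χ = Q.D := by rw [Q.sum_G, K.degV, zero_add, D]

theorem G_A : ∑ χ, Q.G χ * K.A χ = 0 := by rw [Q.sum_G, K.VA, Q.A_zero (Or.inl rfl)]; ring

theorem G_P : ∑ χ, Q.G χ * K.P χ = -2 := by rw [Q.sum_G, K.VP, Q.P_zero (Or.inl rfl)]; ring

theorem G_Δ : ∑ χ, Q.G χ * K.Δ χ = 0 := by rw [Q.sum_G, K.VD, Q.D_zero (Or.inl rfl)]; ring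

theorem G_C (j : J) : ∑ χ, Q.G χ * K.C j χ = 0 := by rw [Q.sum_G, K.VC, Q.C_zero (Or.inl rfl)]; ring

theorem G_eqV : ∑ χ, (Q.G χ * K.τ χ ^ 2 : ℚ) / K.deg χ = 4 * (K.f : ℚ) ^ 2 / Q.D := by
  have h : ∑ χ, (Q.G χ * K.τ χ ^ 2 : ℚ) / K.deg χ =
      ∑ χ, (K.V l χ * K.τ χ ^ 2 : ℚ) / K.deg χ + (Q.s * K.τ Q.a ^ 2 : ℚ) / K.deg Q.a := by
    simp [G, add_mul, add_div, Finset.sum_add_distrib, ite_mul, ite_div, apply_ite (Int.cast : ℤ → ℚ)]
  have hd : (K.deg Q.a : ℚ) ≠ 0 := by exact_mod_cast K.deg_ne Q.a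
  have hεQ : (K.ε : ℚ) * K.ε = 1 := by exact_mod_cast K.eps_sq
  rw [h, K.eqV l, Q.tau_values.1, zero_add]
  rcases Q.hs with e | e <;> simp only [D, e] <;> push_cast <;> field_simp <;>
    first | linear_combination 4 * (K.f : ℚ) ^ 2 * hεQ | linear_combination -4 * (K.f : ℚ) ^ 2 * hεQ

theorem G_abc : Q.G Q.b = Q.G Q.a ∧ Q.G Q.c = Q.G Q.a ∧ ∑ χ, Q.G χ * Q.G χ = 2 + 2 * Q.s * Q.G Q.a := by
  have e2 := Q.sum_G Q.G
  have e3 : ∑ χ, K.V l χ * Q.G χ = ∑ χ, K.V l χ * K.V l χ + Q.s * K.V l Q.a := by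
    simp [G, mul_add, Finset.sum_add_distrib, mul_comm]
  have e4 : ∑ χ, K.V l χ * Q.G χ = ∑ χ, K.V l χ * K.V (K.rot l) χ + Q.s * K.V l Q.b := by
    have : ∀ χ, Q.G χ = K.V (K.rot l) χ + (if χ = Q.b then Q.s else 0) := fun χ => by rw [Q.Vb_eq]; ring
    simp [this, mul_add, Finset.sum_add_distrib, mul_comm]
  rw [K.VV] at e3
  rw [K.VV'] at e4
  have ga : K.V l Q.a = Q.G Q.a - Q.s := by rw [Q.V_eq, if_pos rfl]
  have gb : K.V l Q.b = Q.G Q.b := by rw [Q.V_eq, if_neg Q.hab.symm, sub_zero]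
  rw [ga] at e3
  rw [gb] at e4
  have hs2 : Q.s * Q.s = 1 := by rcases Q.hs with e | e <;> rw [e] <;> norm_num
  have hba : Q.G Q.b = Q.G Q.a := by
    have : Q.s * (Q.G Q.b - Q.G Q.a) = 0 := by linarith
    linarith [(mul_eq_zero.1 this).resolve_left (by rcases Q.hs with e | e <;> omega)]
  refine ⟨hba, ?_, by rw [e2, e3]; linarith⟩
  -- the third point
  have hca : K.rot (K.rot (K.rot l)) = l := K.rot_three l
  have hVc : ∀ χ, K.V (K.rot (K.rot l)) χ = Q.G χ - (if χ = Q.c then Q.s else 0) := by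
    intro χ
    have hd := K.B_diff (K.rot l) χ
    obtain ⟨-, b2, b3, -⟩ := Q.Bb
    obtain ⟨-, c2, c3, -⟩ := Q.Bc
    rw [Q.Vb_eq] at hd
    by_cases h1 : χ = Q.c
    · subst h1; rw [b3, c3, if_neg Q.hbc.symm] at hd; rw [if_pos rfl]; linarith
    · by_cases h2 : χ = Q.b
      · subst h2; rw [b2, c2, if_pos rfl] at hd; rw [if_neg h1]; linarith
      · rw [if_neg h1]
        rw [← Q.Vbc χ h2 h1, Q.Vb_eq, if_neg h2]
  have e5 : ∑ χ, K.V l χ * Q.G χ = ∑ χ, K.V l χ * K.V (K.rot (K.rot l)) χ + Q.s * K.V l Q.c := by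
    have : ∀ χ, Q.G χ = K.V (K.rot (K.rot l)) χ + (if χ = Q.c then Q.s else 0) := fun χ => by rw [hVc]; ring
    simp [this, mul_add, Finset.sum_add_distrib, mul_comm]
  have hv : ∑ χ, K.V l χ * K.V (K.rot (K.rot l)) χ = 2 := by
    have := K.VV' (K.rot (K.rot l))
    rw [hca] at this
    rw [← this]; exact Finset.sum_congr rfl fun _ _ => mul_comm _ _
  have gc : K.V l Q.c = Q.G Q.c := by rw [Q.V_eq, if_neg Q.hac.symm, sub_zero]
  rw [hv, gc] at e5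
  have : Q.s * (Q.G Q.c - Q.G Q.a) = 0 := by linarith
  linarith [(mul_eq_zero.1 this).resolve_left (by rcases Q.hs with e | e <;> omega)]

theorem G_other_B {m : L} (hm : ¬ K.InOrbit l m) : ∑ χ, Q.G χ * K.B m χ = 0 := by
  rw [Q.sum_G, Q.B_other (Or.inl rfl) hm]
  simp only [InOrbit, not_or] at hm
  obtain ⟨h1, h2, h3, h4, h5, h6⟩ := hm
  rw [K.VB l m h1 h2 h3 h4 h5 h6]
  ring

end Quad

end CfsgLib.Recog.JankoThompson.Cols
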