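import Cfsg.Agent.Lib.Recog.JankoThompson.PSLKlein
import Cfsg.Agent.Lib.Classical.Dickson.Dihedral
import Cfsg.Agent.Lib.Known.SL2Char.SLSeries

/-!
Owner: helper17. Elementary facts on the tori and the root group of `PSL(2, q)`, `q` odd.
-/

set_option autoImplicit false
set_option linter.unusedSectionVars false

namespace CfsgLib.Recog.JankoThompson.PSLTorus

open CfsgLib.PLocal.SLTwo
open CfsgLib.LocalEven.GoldS.PSLF (mk mk_surjective mk_eq_mk mk_eq_one mk_neg u u_mul u_zero u_inv u_injective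
  Us u_mem card_Us lift_commute sq_eq_neg_one)

variable {F : Type*} [Field F] [Fintype F]

local notation "P" => Matrix.ProjectiveSpecialLinearGroup (Fin 2) F

theorem gcd_two_pred (h2 : (2 : F) ≠ 0) : Nat.gcd 2 (Fintype.card F - 1) = 2 := by
  have hodd : Fintype.card F % 2 = 1 := FiniteField.odd_card_of_char_ne_two fun h => h2 (by
    have : CharP F 2 := ringChar.eq_iff.1 h
    exact_mod_cast CharP.cast_eq_zero F 2)
  exact Nat.gcd_eq_left (by omega)

theorem nonScalar_of_tr_zero (h2 : (2 : F) ≠ 0) {z : S2 F} (ht : tr z = 0) : NonScalar z := by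
  by_contra hc
  rcases scalar_cases hc with rfl | rfl <;> simp [tr] at ht <;>
    exact h2 (by first | linear_combination ht | linear_combination -ht)

theorem tr_eq_zero_of_sq {z : S2 F} (hz : z * z = -1) : tr z = 0 := by
  have h := congrArg tr hz
  have hd := det2 z
  simp [tr, m00, m11] at h
  refine pow_eq_zero_iff (n := 2) two_ne_zero |>.1 ?_
  simp only [tr]
  linear_combination h + 2 * hd

theorem orderOf_mk_of_tr_zero (h2 : (2 : F) ≠ 0) {z : S2 F} (ht : tr z = 0) : orderOf (mk z) = 2 := by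
  refine orderOf_eq_prime (by rw [pow_two, ← map_mul, sq_eq_neg_one ht, mk_neg, map_one]) fun h => ?_
  rcases mk_eq_one.1 h with e | e <;> rw [e] at ht <;> simp [tr] at ht <;>
    exact h2 (by first | linear_combination ht | linear_combination -ht)

theorem sq_one_cases (h2 : (2 : F) ≠ 0) {z : S2 F} (hz : z * z = 1) : z = 1 ∨ z = -1 := by
  rcases CfsgLib.Classical.Two.eq_one_or_neg_one_of_sq h2 z hz with e | e
  · exact Or.inl (Subtype.ext e)
  · exact Or.inr (Subtype.ext (by rw [e]; simp))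

/-- Involutions are the images of the elements of trace zero. -/
theorem exists_lift_invol (h2 : (2 : F) ≠ 0) {c : P} (hc : orderOf c = 2) :
    ∃ z : S2 F, mk z = c ∧ z * z = -1 ∧ tr z = 0 := by
  obtain ⟨z, rfl⟩ := mk_surjective c
  have hzz : mk (z * z) = 1 := by
    rw [map_mul, ← pow_two]
    exact orderOf_dvd_iff_pow_eq_one.1 (dvd_of_eq hc)
  rcases mk_eq_one.1 hzz with h | h
  · exfalso
    rcases sq_one_cases h2 h with rfl | rfl
    · rw [map_one, orderOf_one] at hc
      omega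
    · rw [mk_neg, map_one, orderOf_one] at hc
      omega
  · exact ⟨z, rfl, h, tr_eq_zero_of_sq h⟩

theorem orderOf_eq_two_iff_lift (h2 : (2 : F) ≠ 0) {z : S2 F} : orderOf (mk z) = 2 ↔ tr z = 0 := by
  refine ⟨fun h => ?_, orderOf_mk_of_tr_zero h2⟩
  obtain ⟨y, hy, -, ht⟩ := exists_lift_invol h2 h
  rcases mk_eq_mk.1 hy with e | e
  · rw [e]; exact ht
  · rw [e]
    simp [tr] at ht ⊢
    linear_combination -ht

/-- An element anticommuting with a matrix of trace zero has trace zero. -/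
theorem tr_zero_of_anticommute (h2 : (2 : F) ≠ 0) {A z : S2 F} (hA : tr A = 0) (hzA : A * z = -(z * A)) :
    tr z = 0 := by
  have e00 := congrArg (fun w : S2 F => w.1 0 0) hzA
  have e01 := congrArg (fun w : S2 F => w.1 0 1) hzA
  have e10 := congrArg (fun w : S2 F => w.1 1 0) hzA
  have e11 := congrArg (fun w : S2 F => w.1 1 1) hzA
  simp [m00, m01, m10, m11] at e00 e01 e10 e11
  simp only [tr] at hA ⊢
  have hd := det2 A
  by_contra ht
  have hd' : A.1 1 1 = -A.1 0 0 := by linear_combination hA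
  have h01 : A.1 0 1 = 0 :=
    (mul_eq_zero.1 (show A.1 0 1 * (z.1 0 0 + z.1 1 1) = 0 by linear_combination e01 - z.1 0 1 * hA)).resolve_right ht
  have h10 : A.1 1 0 = 0 :=
    (mul_eq_zero.1 (show A.1 1 0 * (z.1 0 0 + z.1 1 1) = 0 by linear_combination e10 - z.1 1 0 * hA)).resolve_right ht
  have h00 : A.1 0 0 = 0 := by
    refine mul_left_cancel₀ h2 ((mul_eq_zero.1
      (show 2 * A.1 0 0 * (z.1 0 0 + z.1 1 1) = 0 by linear_combination e00 - e11 + 2 * z.1 1 1 * hA)).resolve_right ht |>.trans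
        (mul_zero _).symm)
  rw [h00, h01, h10] at hd
  simp at hd

theorem commute_mk_cases {x y : S2 F} (h : mk x * mk y = mk y * mk x) : y * x = x * y ∨ y * x = -(x * y) := by
  rw [← map_mul, ← map_mul] at h
  exact mk_eq_mk.1 h

/-- An element anticommuting with the lift of an involution inverts its centraliser. -/
theorem inverts (h2 : (2 : F) ≠ 0) {A z x : S2 F} (hA : tr A = 0) (hzA : A * z = -(z * A))
    (hx : A * x = x * A) : mk z * mk x * (mk z)⁻¹ = (mk x)⁻¹ := by
  have hz := tr_zero_of_anticommute h2 hA hzA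
  have hzx : A * (z * x) = -(z * x * A) := by
    rw [← mul_assoc, hzA, neg_mul, mul_assoc, hx, mul_assoc]
  have hzx' := tr_zero_of_anticommute h2 hA hzx
  have h1 : mk z * mk z = 1 := by rw [← map_mul, sq_eq_neg_one hz, mk_neg, map_one]
  have h3 : mk z * mk x * (mk z * mk x) = 1 := by
    rw [← map_mul, ← map_mul, sq_eq_neg_one hzx', mk_neg, map_one]
  rw [inv_eq_of_mul_eq_one_right h1]
  exact (inv_eq_of_mul_eq_one_left (by simpa [mul_assoc] using h3)).symm

theorem exists_anticommute (h2 : (2 : F) ≠ 0) {A : S2 F} (hA : A * A = -1) : ∃ B : S2 F, A * B = -(B * A) := by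
  have ht : CfsgLib.Classical.Trace.trc A = 0 := tr_eq_zero_of_sq hA
  obtain ⟨B, hB, hAB⟩ := CfsgLib.Classical.Dickson.exists_anticommuting (A := A) (by
    rw [ht]
    intro h
    refine h2 ?_
    have h4 : (2 : F) * 2 = 0 := by linear_combination -h
    exact mul_self_eq_zero.1 h4)
  refine ⟨B, ?_⟩
  have hAB' : A * B * (A * B) = -1 := sq_eq_neg_one hAB
  have hB' : B * B = -1 := sq_eq_neg_one hB
  have hinv : ∀ x : S2 F, x * x = -1 → x⁻¹ = -x := fun x hx =>
    inv_eq_of_mul_eq_one_right (by rw [mul_neg, hx, neg_neg])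
  have h := hinv _ hAB'
  rw [mul_inv_rev, hinv _ hA, hinv _ hB', neg_mul, mul_neg, neg_neg] at h
  rw [h, neg_neg]

theorem neg_one_square_iff (h2 : (2 : F) ≠ 0) : IsSquare (-1 : F) ↔ Fintype.card F % 4 = 1 := by
  have hodd : Fintype.card F % 2 = 1 := FiniteField.odd_card_of_char_ne_two fun h => h2 (by
    have : CharP F 2 := ringChar.eq_iff.1 h
    exact_mod_cast CharP.cast_eq_zero F 2)
  rw [FiniteField.isSquare_neg_one_iff]
  omega

/-- The number of points of the conic `x² + y² = 1`. -/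
theorem card_conic (h2 : (2 : F) ≠ 0) :
    Nat.card {c : F × F // c.1 ^ 2 + c.2 ^ 2 = 1} =
      if Fintype.card F % 4 = 1 then Fintype.card F - 1 else Fintype.card F + 1 := by
  classical
  let S := {l : F // 1 + l ^ 2 ≠ 0}
  let f : Option S → {c : F × F // c.1 ^ 2 + c.2 ^ 2 = 1} := fun o => match o with
    | none => ⟨(-1, 0), by ring⟩
    | some l => ⟨((1 - l.1 ^ 2) / (1 + l.1 ^ 2), 2 * l.1 / (1 + l.1 ^ 2)), by
        have := l.2
        field_simp
        ring⟩
  have hne : ∀ l : S, (1 - l.1 ^ 2) / (1 + l.1 ^ 2) ≠ -1 := fun l h => by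
    rw [div_eq_iff l.2] at h
    exact h2 (by linear_combination h)
  have hbij : Function.Bijective f := by
    refine ⟨?_, ?_⟩
    · rintro (- | l) (- | l') h
      · rfl
      · exact absurd (congrArg (fun p => p.1.1) h).symm (hne l')
      · exact absurd (congrArg (fun p => p.1.1) h) (hne l)
      · have e1 : (1 - l.1 ^ 2) / (1 + l.1 ^ 2) = (1 - l'.1 ^ 2) / (1 + l'.1 ^ 2) := congrArg (fun p => p.1.1) h
        have e2 : 2 * l.1 / (1 + l.1 ^ 2) = 2 * l'.1 / (1 + l'.1 ^ 2) := congrArg (fun p => p.1.2) h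
        rw [div_eq_div_iff l.2 l'.2] at e1 e2
        have e3 : l.1 ^ 2 = l'.1 ^ 2 := mul_left_cancel₀ h2 (by linear_combination -e1)
        rw [← e3] at e2
        exact congrArg some (Subtype.ext (mul_left_cancel₀ h2 (mul_right_cancel₀ l.2 e2)))
    · rintro ⟨⟨a, b⟩, h⟩
      simp only at h
      by_cases ha : 1 + a = 0
      · refine ⟨none, Subtype.ext ?_⟩
        have : a = -1 := by linear_combination ha
        subst this
        have : b = 0 := pow_eq_zero_iff two_ne_zero |>.1 (by linear_combination h)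
        subst this
        rfl
      · have key : 1 + (b / (1 + a)) ^ 2 = 2 / (1 + a) := by
          field_simp
          linear_combination h
        refine ⟨some ⟨b / (1 + a), by rw [key]; exact div_ne_zero h2 ha⟩, Subtype.ext (Prod.ext ?_ ?_)⟩
        · show (1 - (b / (1 + a)) ^ 2) / (1 + (b / (1 + a)) ^ 2) = a
          rw [key]
          field_simp
          linear_combination -h
        · show 2 * (b / (1 + a)) / (1 + (b / (1 + a)) ^ 2) = b
          rw [key]
          field_simp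
  rw [← Nat.card_eq_of_bijective f hbij, Finite.card_option, Nat.card_eq_fintype_card, Fintype.card_subtype]
  have hsum := Finset.card_filter_add_card_filter_not (s := (Finset.univ : Finset F)) (fun l : F => 1 + l ^ 2 ≠ 0)
  rw [Finset.card_univ] at hsum
  by_cases h4 : Fintype.card F % 4 = 1
  · obtain ⟨i, hi⟩ := (neg_one_square_iff h2).2 h4
    have hi0 : i ≠ -i := fun h => by
      have : i = 0 := (mul_eq_zero.1 (show (2 : F) * i = 0 by linear_combination h)).resolve_left h2
      rw [this] at hi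
      simp at hi
    have hroots : (Finset.univ.filter fun l : F => ¬ 1 + l ^ 2 ≠ 0) = {i, -i} := by
      ext l
      simp only [Finset.mem_filter, Finset.mem_univ, true_and, ne_eq, not_not, Finset.mem_insert,
        Finset.mem_singleton]
      constructor
      · intro hl
        have : (l - i) * (l + i) = 0 := by linear_combination hl + hi
        rcases mul_eq_zero.1 this with h | h
        · exact Or.inl (sub_eq_zero.1 h)
        · exact Or.inr (eq_neg_of_add_eq_zero_left h)
      · rintro (rfl | rfl) <;> linear_combination -hi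
    rw [hroots, Finset.card_pair hi0] at hsum
    rw [if_pos h4]
    omega
  · have hroots : (Finset.univ.filter fun l : F => ¬ 1 + l ^ 2 ≠ 0) = ∅ := by
      refine Finset.filter_eq_empty_iff.2 fun l _ hl => h4 ((neg_one_square_iff h2).1 ⟨l, ?_⟩)
      rw [ne_eq, not_not] at hl
      linear_combination -hl
    rw [hroots, Finset.card_empty] at hsum
    rw [if_neg h4]
    omega

/-- The centraliser in `SL(2, F)` of a square root of `-1`. -/
theorem card_centralizer_sqrt (h2 : (2 : F) ≠ 0) {A : S2 F} (hA : A * A = -1) :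
    Nat.card (Subgroup.centralizer ({A} : Set (S2 F))) =
      if Fintype.card F % 4 = 1 then Fintype.card F - 1 else Fintype.card F + 1 := by
  rw [← card_conic h2]
  have ht := tr_eq_zero_of_sq hA
  have hn := nonScalar_of_tr_zero h2 ht
  simp only [tr] at ht
  have h11 : A.1 1 1 = -A.1 0 0 := by linear_combination ht
  have hd := det2 A
  rw [h11] at hd
  let M : {c : F × F // c.1 ^ 2 + c.2 ^ 2 = 1} → S2 F := fun c =>
    ⟨!![c.1.1 * A.1 0 0 + c.1.2, c.1.1 * A.1 0 1; c.1.1 * A.1 1 0, c.1.1 * A.1 1 1 + c.1.2], by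
      rw [Matrix.det_fin_two_of, h11]
      linear_combination c.1.1 ^ 2 * hd + c.2⟩
  have M00 : ∀ c, (M c).1 0 0 = c.1.1 * A.1 0 0 + c.1.2 := fun c => rfl
  have M01 : ∀ c, (M c).1 0 1 = c.1.1 * A.1 0 1 := fun c => rfl
  have M10 : ∀ c, (M c).1 1 0 = c.1.1 * A.1 1 0 := fun c => rfl
  have M11 : ∀ c, (M c).1 1 1 = c.1.1 * A.1 1 1 + c.1.2 := fun c => rfl
  let g : {c : F × F // c.1 ^ 2 + c.2 ^ 2 = 1} → Subgroup.centralizer ({A} : Set (S2 F)) := fun c =>
    ⟨M c, Subgroup.mem_centralizer_singleton_iff.2 (by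
      refine ext2 ?_ ?_ ?_ ?_ <;> simp only [m00, m01, m10, m11, M00, M01, M10, M11] <;> ring)⟩
  refine (Nat.card_eq_of_bijective g ⟨?_, ?_⟩).symm
  · intro c c' h
    have e00 : c.1.1 * A.1 0 0 + c.1.2 = c'.1.1 * A.1 0 0 + c'.1.2 := congrArg (fun w => w.1.1 0 0) h
    have e01 : c.1.1 * A.1 0 1 = c'.1.1 * A.1 0 1 := congrArg (fun w => w.1.1 0 1) h
    have e10 : c.1.1 * A.1 1 0 = c'.1.1 * A.1 1 0 := congrArg (fun w => w.1.1 1 0) h
    have e11 : c.1.1 * A.1 1 1 + c.1.2 = c'.1.1 * A.1 1 1 + c'.1.2 := congrArg (fun w => w.1.1 1 1) h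
    have hx : c.1.1 = c'.1.1 := by
      by_contra hne
      have hne' : c.1.1 - c'.1.1 ≠ 0 := sub_ne_zero.2 hne
      exact hn ⟨(mul_eq_zero.1 (show (c.1.1 - c'.1.1) * A.1 0 1 = 0 by linear_combination e01)).resolve_left hne',
        (mul_eq_zero.1 (show (c.1.1 - c'.1.1) * A.1 1 0 = 0 by linear_combination e10)).resolve_left hne',
        sub_eq_zero.1 ((mul_eq_zero.1 (show (c.1.1 - c'.1.1) * (A.1 0 0 - A.1 1 1) = 0 by
          linear_combination e00 - e11)).resolve_left hne')⟩
    refine Subtype.ext (Prod.ext hx ?_)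
    rw [hx] at e00
    exact add_left_cancel e00
  · rintro ⟨z, hz⟩
    obtain ⟨α, β, a1, a2, a3, a4⟩ := exists_affine hn (Subgroup.mem_centralizer_singleton_iff.1 hz).symm
    have hdz := det2 z
    rw [a1, a2, a3, a4, h11] at hdz
    refine ⟨⟨(α, β), by linear_combination hdz - α ^ 2 * hd⟩, Subtype.ext (ext2 ?_ ?_ ?_ ?_)⟩ <;>
      simp [g, M, a1, a2, a3, a4]

theorem card_comap_mk (h2 : (2 : F) ≠ 0) (H : Subgroup P) : Nat.card (H.comap mk) = 2 * Nat.card H := by
  have h1 := (H.comap mk).card_mul_index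
  have h3 := H.card_mul_index
  have hidx : (H.comap mk).index = H.index := Subgroup.index_comap_of_surjective _ mk_surjective
  have hsl := CfsgLib.Classical.card_SL_eq_gcd_mul_card_PSL (ι := Fin 2) (F := F)
  rw [Fintype.card_fin, gcd_two_pred h2] at hsl
  rw [hsl, hidx, ← h3, ← mul_assoc] at h1
  exact Nat.eq_of_mul_eq_mul_right (Nat.pos_of_ne_zero Subgroup.index_ne_zero_of_finite) h1

/-- The image of the centraliser of a matrix. -/
def torusOf (A : S2 F) : Subgroup P := (Subgroup.centralizer ({A} : Set (S2 F))).map mk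

theorem mem_torusOf {A : S2 F} {k : P} : k ∈ torusOf A ↔ ∃ x, A * x = x * A ∧ mk x = k := by
  constructor
  · rintro ⟨x, hx, rfl⟩
    exact ⟨x, (Subgroup.mem_centralizer_singleton_iff.1 hx).symm, rfl⟩
  · rintro ⟨x, hx, rfl⟩
    exact ⟨x, Subgroup.mem_centralizer_singleton_iff.2 hx.symm, rfl⟩

theorem two_mul_card_torusOf (h2 : (2 : F) ≠ 0) {A : S2 F} (hA : A * A = -1) :
    2 * Nat.card (torusOf A) = if Fintype.card F % 4 = 1 then Fintype.card F - 1 else Fintype.card F + 1 := by
  rw [← card_centralizer_sqrt h2 hA, ← card_comap_mk h2, torusOf, Subgroup.comap_map_eq_self]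
  intro z hz
  rw [Subgroup.mem_centralizer_singleton_iff]
  rcases mk_eq_one.1 hz with rfl | rfl <;> simp

theorem torusOf_isCyclic (h2 : (2 : F) ≠ 0) {A : S2 F} (hA : A * A = -1) : IsCyclic (torusOf A) := by
  have ht := tr_eq_zero_of_sq hA
  have := CfsgLib.Classical.Two.isCyclic_centralizer (nonScalar_of_tr_zero h2 ht) (by
    rw [ht]
    intro h
    refine h2 ?_
    have h4 : (2 : F) * 2 = 0 := by linear_combination -h
    exact mul_self_eq_zero.1 h4)
  exact isCyclic_of_surjective ((mk : S2 F →* P).subgroupMap _) ((mk : S2 F →* P).subgroupMap_surjective _)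

/-- The centraliser of an involution is the torus and the involutions inverting it. -/
theorem centralizer_mk_cases (h2 : (2 : F) ≠ 0) {A : S2 F} (hA : A * A = -1) {k : P} (hk : k * mk A = mk A * k) :
    k ∈ torusOf A ∨ (orderOf k = 2 ∧ ∀ x ∈ torusOf A, k * x * k⁻¹ = x⁻¹) := by
  obtain ⟨z, rfl⟩ := mk_surjective k
  have ht := tr_eq_zero_of_sq hA
  rcases commute_mk_cases hk with h | h
  · exact Or.inl (mem_torusOf.2 ⟨z, h, rfl⟩)
  · refine Or.inr ⟨orderOf_mk_of_tr_zero h2 (tr_zero_of_anticommute h2 ht h), fun x hx => ?_⟩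
    obtain ⟨y, hy, rfl⟩ := mem_torusOf.1 hx
    exact inverts h2 ht h hy

/-- The order of the centraliser of an involution. -/
theorem card_centralizer_mk (h2 : (2 : F) ≠ 0) {A : S2 F} (hA : A * A = -1) :
    Nat.card (Subgroup.centralizer ({mk A} : Set P)) = 2 * Nat.card (torusOf A) := by
  have ht := tr_eq_zero_of_sq hA
  have hle : torusOf A ≤ Subgroup.centralizer ({mk A} : Set P) := fun x hx => by
    obtain ⟨y, hy, rfl⟩ := mem_torusOf.1 hx
    rw [Subgroup.mem_centralizer_singleton_iff, ← map_mul, ← map_mul, hy]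
  obtain ⟨B, hB⟩ := exists_anticommute h2 hA
  have hBC : mk B ∈ Subgroup.centralizer ({mk A} : Set P) := by
    rw [Subgroup.mem_centralizer_singleton_iff, ← map_mul, ← map_mul, hB, mk_neg]
  have hBT : mk B ∉ torusOf A := fun h => by
    obtain ⟨x, hx, hxB⟩ := mem_torusOf.1 h
    have hBA : A * B = B * A := by
      rcases mk_eq_mk.1 hxB with e | e
      · rw [e]; exact hx
      · rw [e, mul_neg, neg_mul, hx]
    rw [hBA] at hB
    generalize B * A = w at hB
    have h00 := congrArg (fun z : S2 F => z.1 0 0) hB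
    have h01 := congrArg (fun z : S2 F => z.1 0 1) hB
    simp only [neg_entry] at h00 h01
    have e0 : w.1 0 0 = 0 :=
      (mul_eq_zero.1 (show (2 : F) * w.1 0 0 = 0 by linear_combination h00)).resolve_left h2
    have e1 : w.1 0 1 = 0 :=
      (mul_eq_zero.1 (show (2 : F) * w.1 0 1 = 0 by linear_combination h01)).resolve_left h2
    have hd := det2 w
    rw [e0, e1] at hd
    simp at hd
  have hidx : (torusOf A).relIndex (Subgroup.centralizer ({mk A} : Set P)) = 2 := by
    rw [Subgroup.relIndex, Subgroup.index_eq_two_iff]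
    refine ⟨⟨mk B, hBC⟩, fun b => ?_⟩
    rw [Subgroup.mem_subgroupOf, Subgroup.mem_subgroupOf, Subgroup.coe_mul]
    obtain ⟨z, hz⟩ := mk_surjective (b : P)
    have hb : mk z * mk A = mk A * mk z := by rw [hz]; exact Subgroup.mem_centralizer_singleton_iff.1 b.2
    rw [← hz]
    rcases commute_mk_cases hb with h | h
    · exact Or.inr ⟨mem_torusOf.2 ⟨z, h, rfl⟩, fun h' => hBT (by
        have := mul_mem (inv_mem (mem_torusOf.2 ⟨z, h, rfl⟩)) h'
        rwa [inv_mul_cancel_left] at this)⟩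
    · refine Or.inl ⟨mem_torusOf.2 ⟨z * B, ?_, map_mul _ _ _⟩, fun h' => hBT ?_⟩
      · rw [← mul_assoc, h, neg_mul, mul_assoc, hB, mul_neg, neg_neg, mul_assoc]
      · have hm : mk z * mk B ∈ torusOf A := mem_torusOf.2 ⟨z * B, by
          rw [← mul_assoc, h, neg_mul, mul_assoc, hB, mul_neg, neg_neg, mul_assoc], map_mul _ _ _⟩
        have := mul_mem (inv_mem h') hm
        rwa [inv_mul_cancel_left] at this
  have h := ((torusOf A).subgroupOf (Subgroup.centralizer ({mk A} : Set P))).card_mul_index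
  rw [show ((torusOf A).subgroupOf (Subgroup.centralizer ({mk A} : Set P))).index = 2 from hidx,
    Nat.card_congr (Subgroup.subgroupOfEquivOfLe hle).toEquiv] at h
  omega

/-- A centraliser of an element of odd order. -/
theorem centralizer_card_cases (h2 : (2 : F) ≠ 0) {y : S2 F} (h0 : tr y ≠ 0) (h4 : tr y ^ 2 ≠ 4) :
    2 * Nat.card (Subgroup.centralizer ({mk y} : Set P)) = Fintype.card F - 1 ∨
      2 * Nat.card (Subgroup.centralizer ({mk y} : Set P)) = Fintype.card F + 1 := by
  have h := CfsgLib.Classical.Dickson.card_centralizer_psl (F := F) rfl (A := y) h0 h4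
  rw [gcd_two_pred h2] at h
  exact h

theorem centralizer_comm (h2 : (2 : F) ≠ 0) {y : S2 F} (hn : NonScalar y) (h0 : tr y ≠ 0) {a b : P}
    (ha : a * mk y = mk y * a) (hb : b * mk y = mk y * b) : a * b = b * a := by
  obtain ⟨a, rfl⟩ := mk_surjective a
  obtain ⟨b, rfl⟩ := mk_surjective b
  rw [← map_mul, ← map_mul, commute_of_commute hn (lift_commute ha h0 h2) (lift_commute hb h0 h2)]

/-- Commuting conjugates of an element of odd order are equal or inverse. -/
theorem fusion_of_commute (h2 : (2 : F) ≠ 0) {y : S2 F} (hn : NonScalar y) (h0 : tr y ≠ 0) (h4 : tr y ^ 2 ≠ 4)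
    {h : P} (hc : h * mk y * h⁻¹ * mk y = mk y * (h * mk y * h⁻¹)) :
    h * mk y * h⁻¹ = mk y ∨ h * mk y * h⁻¹ = (mk y)⁻¹ := by
  obtain ⟨g, rfl⟩ := mk_surjective h
  rw [← map_inv, ← map_mul, ← map_mul] at hc ⊢
  rcases eq_or_eq_inv h2 hn h4 (lift_commute hc h0 h2) (tr_conj y g) with e | e
  · exact Or.inl (by rw [e])
  · exact Or.inr (by rw [e, map_inv])

/-! ### The root group -/

theorem upper_of_conj (h2 : (2 : F) ≠ 0) {x : S2 F} {t s : F} (ht : t ≠ 0)
    (h : mk x * u t * (mk x)⁻¹ = u s) : x.1 1 0 = 0 ∧ s = x.1 0 0 ^ 2 * t := by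
  have h' : mk (x * U t * x⁻¹) = mk (U s) := by rw [map_mul, map_mul, map_inv]; exact h
  rcases mk_eq_mk.1 h' with e | e
  · have e0 := congrArg (fun z : S2 F => z.1 1 0) e
    have e1 := congrArg (fun z : S2 F => z.1 0 1) e
    simp [m00, m01, m10, m11, i00, i01, i10, i11] at e0 e1
    have hc : t * x.1 1 0 ^ 2 = 0 := by linear_combination e0
    refine ⟨pow_eq_zero_iff two_ne_zero |>.1 ((mul_eq_zero.1 hc).resolve_left ht), ?_⟩
    linear_combination e1
  · exfalso
    have e0 := congrArg tr e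
    simp only [tr, neg_entry, U00, U11] at e0
    have e2 := tr_conj (U t) x
    simp only [tr, U00, U11] at e2
    have h4 : (2 : F) * 2 = 0 := by linear_combination e0 - e2
    exact h2 (mul_self_eq_zero.1 h4)

theorem centralizer_root (h2 : (2 : F) ≠ 0) {k : P} {t : F} (ht : t ≠ 0) (hk : k * u t = u t * k) : k ∈ Us F := by
  obtain ⟨y, rfl⟩ := mk_surjective k
  obtain ⟨h10, hs⟩ := upper_of_conj h2 (s := t) ht (mul_inv_eq_of_eq_mul hk)
  have hd := det2 y
  rw [h10, mul_zero, sub_zero] at hd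
  have hsq : y.1 0 0 ^ 2 = 1 := mul_right_cancel₀ ht (by rw [one_mul]; exact hs.symm)
  have hdiag : y.1 1 1 = y.1 0 0 := by linear_combination y.1 0 0 * hd - y.1 1 1 * hsq
  rcases eq_U_of_upper h10 hdiag with e | e
  · exact ⟨_, (congrArg mk e).symm⟩
  · exact ⟨-(y.1 0 1), ((congrArg mk e).trans (mk_neg _)).symm⟩

/-- Root elements are conjugate exactly when the parameters differ by a square. -/
theorem isConj_u_iff (h2 : (2 : F) ≠ 0) {s t : F} (hs : s ≠ 0) :
    IsConj (u s : P) (u t) ↔ ∃ a : F, a ≠ 0 ∧ t = a ^ 2 * s := by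
  constructor
  · intro h
    obtain ⟨c, hc⟩ := isConj_iff.1 h
    obtain ⟨x, rfl⟩ := mk_surjective c
    obtain ⟨h10, ht⟩ := upper_of_conj h2 hs hc
    refine ⟨x.1 0 0, fun h0 => ?_, ht⟩
    have hd := det2 x
    rw [h10, h0] at hd
    simp at hd
  · rintro ⟨a, ha, rfl⟩
    let x : S2 F := CfsgLib.LocalEven.GoldS.PSLF.dS (Units.mk0 a ha)
    refine isConj_iff.2 ⟨mk x, ?_⟩
    show mk x * mk (U s) * (mk x)⁻¹ = mk (U (a ^ 2 * s))
    rw [← map_inv, ← map_mul, ← map_mul]
    congr 1
    refine ext2 ?_ ?_ ?_ ?_ <;> simp [x, m00, m01, m10, m11, i00, i01, i10, i11, ha]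
    ring

/-- An element with `(tr)² = 4` is conjugate into the root group. -/
theorem conj_into_root (h2 : (2 : F) ≠ 0) {y : S2 F} (h4 : tr y ^ 2 = 4) : ∃ h : P, h * mk y * h⁻¹ ∈ Us F := by
  have h : (tr y - 2) * (tr y + 2) = 0 := by linear_combination h4
  rcases mul_eq_zero.1 h with e | e
  · obtain ⟨g, t, hg⟩ := exists_conj_U (sub_eq_zero.1 e)
    exact ⟨mk g, t, by rw [← map_inv, ← map_mul, ← map_mul, hg]; rfl⟩
  · obtain ⟨g, t, hg⟩ := exists_conj_U (u := -y) (by
      simp only [tr, neg_entry] at e ⊢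
      linear_combination -e)
    refine ⟨mk g, t, ?_⟩
    have : mk g * mk (-y) * (mk g)⁻¹ = u t := by rw [← map_inv, ← map_mul, ← map_mul, hg]; rfl
    rwa [mk_neg, eq_comm] at this

/-- The involutions inverting an element. -/
theorem card_inverters {H : Type*} [Group H] {T : Subgroup H} {z i : H} (hi : orderOf i = 2) (hiT : i ∉ T)
    (hinv : ∀ x ∈ T, i * x * i⁻¹ = x⁻¹) (hz : z ∈ T) (hC : ∀ k : H, k * z = z * k ↔ k ∈ T) :
    Nat.card {k : H // orderOf k = 2 ∧ k * z * k⁻¹ = z⁻¹} = Nat.card T := by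
  have hii : i * i = 1 := by rw [← pow_two, ← hi, pow_orderOf_eq_one]
  refine Nat.card_congr
    { toFun := fun k => ⟨i * k.1, (hC _).1 ?_⟩
      invFun := fun r => ⟨i * r.1, ?_, ?_⟩
      left_inv := fun k => Subtype.ext (by show i * (i * k.1) = k.1; rw [← mul_assoc, hii, one_mul])
      right_inv := fun r => Subtype.ext (by show i * (i * r.1) = r.1; rw [← mul_assoc, hii, one_mul]) }
  · have e1 : i * z⁻¹ * i⁻¹ = z := by rw [hinv _ (inv_mem hz), inv_inv]
    calc i * k.1 * z = i * (k.1 * z * k.1⁻¹) * k.1 := by group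
      _ = i * z⁻¹ * i⁻¹ * (i * k.1) := by rw [k.2.2]; group
      _ = z * (i * k.1) := by rw [e1]
  · refine orderOf_eq_prime ?_ fun h => hiT ?_
    · calc (i * r.1) ^ 2 = (i * r.1 * i⁻¹) * (i * i) * r.1 := by rw [pow_two]; group
        _ = 1 := by rw [hinv _ r.2, hii, mul_one, inv_mul_cancel]
    · rw [eq_inv_of_mul_eq_one_left h]
      exact inv_mem r.2
  · have e : r.1 * z * r.1⁻¹ = z := by rw [(hC _).2 r.2, mul_inv_cancel_right]
    calc i * r.1 * z * (i * r.1)⁻¹ = i * (r.1 * z * r.1⁻¹) * i⁻¹ := by group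
      _ = _ := by rw [e, hinv _ hz]

end CfsgLib.Recog.JankoThompson.PSLTorus
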