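import Cfsg.Agent.Lib.Recog.JankoThompson.ToriBase
import Cfsg.Agent.Lib.Known.SL2Char.HalvesU

/-!
Owner: helper17. The two classes in the root group of `PSL(2, q)` and their Gauss sums.
-/

set_option autoImplicit false
set_option linter.unusedSectionVars false

namespace CfsgLib.Recog.JankoThompson.PSLTorus

open CfsgLib.LocalEven.GoldS.PSLF (u u_mul u_zero u_inv u_injective Us u_mem card_Us)
open CfsgLib.SL2Char (qcC qcC_sq_one qcC_isQuadratic qcC_ne_one qcC_sq)
open scoped ComplexConjugate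

variable {F : Type*} [Field F] [Fintype F]

local notation "P" => Matrix.ProjectiveSpecialLinearGroup (Fin 2) F

theorem ringChar_ne_two (h2 : (2 : F) ≠ 0) : ringChar F ≠ 2 := fun h => h2 (by
  have : CharP F 2 := ringChar.eq_iff.1 h
  exact_mod_cast CharP.cast_eq_zero F 2)

/-- The root group as a copy of the field. -/
noncomputable def rootEquiv : F ≃ Us F := Equiv.ofInjective u u_injective

theorem rootEquiv_val (t : F) : ((rootEquiv t : Us F) : P) = u t := rfl

theorem rootEquiv_symm_mul (x y : Us F) : rootEquiv.symm (x * y) = rootEquiv.symm x + rootEquiv.symm y := by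
  refine rootEquiv.injective ?_
  rw [Equiv.apply_symm_apply]
  refine Subtype.ext ?_
  rw [Subgroup.coe_mul, rootEquiv_val, ← u_mul, ← rootEquiv_val, ← rootEquiv_val,
    Equiv.apply_symm_apply, Equiv.apply_symm_apply]

theorem rootEquiv_symm_one : (rootEquiv (F := F)).symm 1 = 0 :=
  (Equiv.symm_apply_eq _).2 (Subtype.ext (u_zero (F := F)).symm)

variable {ν : F} (hν : ¬ IsSquare ν)

include hν

theorem nonsquare_ne_zero : ν ≠ 0 := fun h => hν (h ▸ IsSquare.zero)

theorem mul_square_iff (h2 : (2 : F) ≠ 0) {t : F} (ht : t ≠ 0) : IsSquare (ν * t) ↔ ¬ IsSquare t := by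
  classical
  have hν0 := nonsquare_ne_zero hν
  rw [← quadraticChar_one_iff_isSquare (mul_ne_zero hν0 ht), map_mul,
    quadraticChar_neg_one_iff_not_isSquare.2 hν, ← quadraticChar_one_iff_isSquare ht]
  rcases quadraticChar_dichotomy ht with h | h <;> rw [h] <;> simp

theorem isConj_plus (h2 : (2 : F) ≠ 0) {t : F} : IsConj (u 1 : P) (u t) ↔ t ≠ 0 ∧ IsSquare t := by
  rw [isConj_u_iff h2 one_ne_zero]
  constructor
  · rintro ⟨a, ha, rfl⟩
    exact ⟨by simpa using ha, ⟨a, by ring⟩⟩
  · rintro ⟨ht, a, rfl⟩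
    exact ⟨a, fun h => ht (by rw [h, mul_zero]), by ring⟩

theorem isConj_minus (h2 : (2 : F) ≠ 0) {t : F} : IsConj (u ν : P) (u t) ↔ ¬ IsSquare t := by
  have hν0 := nonsquare_ne_zero hν
  rw [isConj_u_iff h2 hν0]
  constructor
  · rintro ⟨a, ha, rfl⟩ hsq
    rw [mul_comm] at hsq
    exact (mul_square_iff hν h2 (pow_ne_zero 2 ha)).1 hsq ⟨a, by ring⟩
  · intro ht
    have ht0 : t ≠ 0 := fun h => ht (h ▸ IsSquare.zero)
    obtain ⟨b, hb⟩ := (mul_square_iff hν h2 ht0).2 ht
    have hb0 : b ≠ 0 := fun h => mul_ne_zero hν0 ht0 (by rw [hb, h, mul_zero])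
    refine ⟨b / ν, div_ne_zero hb0 hν0, ?_⟩
    field_simp
    linear_combination hb

theorem card_square_classes (h2 : (2 : F) ≠ 0) :
    2 * Nat.card {t : F // t ≠ 0 ∧ IsSquare t} + 1 = Fintype.card F ∧
      2 * Nat.card {t : F // ¬ IsSquare t} + 1 = Fintype.card F := by
  classical
  have hν0 := nonsquare_ne_zero hν
  let e : {t : F // t ≠ 0 ∧ IsSquare t} ≃ {t : F // ¬ IsSquare t} :=
    { toFun := fun t => ⟨ν * t.1, fun h => (mul_square_iff hν h2 t.2.1).1 h t.2.2⟩
      invFun := fun t => ⟨ν⁻¹ * t.1, mul_ne_zero (inv_ne_zero hν0) (fun h => t.2 (h ▸ IsSquare.zero)), by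
        by_contra h
        have h0 : ν⁻¹ * t.1 ≠ 0 := mul_ne_zero (inv_ne_zero hν0) (fun h => t.2 (h ▸ IsSquare.zero))
        have := (mul_square_iff hν h2 h0).2 h
        rw [mul_inv_cancel_left₀ hν0] at this
        exact t.2 this⟩
      left_inv := fun t => Subtype.ext (inv_mul_cancel_left₀ hν0 t.1)
      right_inv := fun t => Subtype.ext (mul_inv_cancel_left₀ hν0 t.1) }
  have h := Finset.card_filter_add_card_filter_not (s := (Finset.univ : Finset F)) (fun t : F => IsSquare t)
  rw [Finset.card_univ] at h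
  have hs : (Finset.univ.filter fun t : F => IsSquare t) =
      insert 0 (Finset.univ.filter fun t : F => t ≠ 0 ∧ IsSquare t) := by
    ext t
    by_cases ht : t = 0 <;> simp [ht]
  rw [hs, Finset.card_insert_of_notMem (by simp), ← Fintype.card_subtype, ← Fintype.card_subtype] at h
  have he := Fintype.card_congr e
  constructor <;> rw [Nat.card_eq_fintype_card] <;> omega

theorem card_plus_class (h2 : (2 : F) ≠ 0) :
    2 * Nat.card {x : Us F // IsConj (u 1 : P) (x : P)} + 1 = Fintype.card F := by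
  rw [← (card_square_classes hν h2).1]
  congr 2
  exact (Nat.card_congr (Equiv.subtypeEquiv rootEquiv fun t => (isConj_plus hν h2).symm)).symm

theorem card_minus_class (h2 : (2 : F) ≠ 0) :
    2 * Nat.card {x : Us F // IsConj (u ν : P) (x : P)} + 1 = Fintype.card F := by
  rw [← (card_square_classes hν h2).2]
  congr 2
  exact (Nat.card_congr (Equiv.subtypeEquiv rootEquiv fun t => (isConj_minus hν h2).symm)).symm

/-- The Gauss sums over the two classes. -/
theorem gauss_classes (h2 : (2 : F) ≠ 0) :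
    ∃ ψ ψ' : Us F →* ℂˣ, ψ ≠ 1 ∧ ψ' ≠ 1 ∧
    ∀ [Fintype (Us F)] [DecidablePred fun x : Us F => IsConj (u 1 : P) (x : P)]
      [DecidablePred fun x : Us F => IsConj (u ν : P) (x : P)],
      let S := ∑ x ∈ Finset.univ.filter (fun x : Us F => IsConj (u 1 : P) (x : P)), (ψ x : ℂ)
      let N := ∑ x ∈ Finset.univ.filter (fun x : Us F => IsConj (u ν : P) (x : P)), (ψ x : ℂ)
      (S - N) * conj (S - N) = (Fintype.card F : ℂ) ∧
        ∑ x ∈ Finset.univ.filter (fun x : Us F => IsConj (u 1 : P) (x : P)), (ψ' x : ℂ) = N ∧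
        ∑ x ∈ Finset.univ.filter (fun x : Us F => IsConj (u ν : P) (x : P)), (ψ' x : ℂ) = S := by
  classical
  have hν0 := nonsquare_ne_zero hν
  let ψ₀ : AddChar F ℂ := AddChar.FiniteField.primitiveChar_to_Complex F
  have hprim : ψ₀.IsPrimitive := AddChar.FiniteField.primitiveChar_to_Complex_isPrimitive F
  have hne : ∀ (ψ₁ : AddChar F ℂ) (t : F), ψ₁ t ≠ 0 := fun ψ₁ t h0 => by
    have := ψ₁.map_add_eq_mul t (-t)
    rw [add_neg_cancel, AddChar.map_zero_eq_one, h0, zero_mul] at this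
    exact one_ne_zero this
  let hom : AddChar F ℂ → (Us F →* ℂˣ) := fun ψ₁ =>
    { toFun := fun x => Units.mk0 _ (hne ψ₁ (rootEquiv.symm x))
      map_one' := Units.ext (by simp [rootEquiv_symm_one])
      map_mul' := fun x y => Units.ext (by simp [rootEquiv_symm_mul, AddChar.map_add_eq_mul]) }
  have hhom : ∀ ψ₁ : AddChar F ℂ, ψ₁ ≠ 1 → hom ψ₁ ≠ 1 := fun ψ₁ h1 h => h1 (AddChar.ext _ _ fun t => by
    have := congrArg Units.val (DFunLike.congr_fun h (rootEquiv t))
    simpa [hom] using this)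
  have hψ1 : ψ₀ ≠ 1 := fun h => hprim (a := 1) one_ne_zero (AddChar.ext _ _ fun t => by simp [h])
  have hψν : ψ₀.mulShift ν ≠ 1 := hprim hν0
  refine ⟨hom ψ₀, hom (ψ₀.mulShift ν), hhom _ hψ1, hhom _ hψν, ?_⟩
  intro _ _ _
  have hplus : ∀ f : F → ℂ, ∑ x ∈ Finset.univ.filter (fun x : Us F => IsConj (u 1 : P) (x : P)),
      f (rootEquiv.symm x) = ∑ t ∈ Finset.univ.filter (fun t : F => t ≠ 0 ∧ IsSquare t), f t := fun f => by
    refine Finset.sum_equiv rootEquiv.symm (fun x => ?_) fun x _ => rfl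
    simp only [Finset.mem_filter, Finset.mem_univ, true_and]
    obtain ⟨t, rfl⟩ := rootEquiv.surjective x
    rw [Equiv.symm_apply_apply, rootEquiv_val, isConj_plus hν h2]
  have hminus : ∀ f : F → ℂ, ∑ x ∈ Finset.univ.filter (fun x : Us F => IsConj (u ν : P) (x : P)),
      f (rootEquiv.symm x) = ∑ t ∈ Finset.univ.filter (fun t : F => ¬ IsSquare t), f t := fun f => by
    refine Finset.sum_equiv rootEquiv.symm (fun x => ?_) fun x _ => rfl
    simp only [Finset.mem_filter, Finset.mem_univ, true_and]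
    obtain ⟨t, rfl⟩ := rootEquiv.surjective x
    rw [Equiv.symm_apply_apply, rootEquiv_val, isConj_minus hν h2]
  intro S N
  have hS : S = ∑ t ∈ Finset.univ.filter (fun t : F => t ≠ 0 ∧ IsSquare t), ψ₀ t := hplus (fun t => ψ₀ t)
  have hN : N = ∑ t ∈ Finset.univ.filter (fun t : F => ¬ IsSquare t), ψ₀ t := hminus (fun t => ψ₀ t)
  have hsw : ∀ a b : F → ℂ, (∀ t, a t = b (ν * t)) →
      ∑ t ∈ Finset.univ.filter (fun t : F => t ≠ 0 ∧ IsSquare t), a t =
        ∑ t ∈ Finset.univ.filter (fun t : F => ¬ IsSquare t), b t := fun a b hab => by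
    refine Finset.sum_equiv (Equiv.mulLeft₀ ν hν0) (fun t => ?_) fun t _ => hab t
    simp only [Finset.mem_filter, Finset.mem_univ, true_and, Equiv.mulLeft₀_apply]
    by_cases ht : t = 0
    · simp [ht]
    · simp [mul_square_iff hν h2 ht, ht, hν0]
  refine ⟨?_, ?_, ?_⟩
  · have hg : gaussSum (qcC F) ψ₀ = S - N := by
      have e2 : ∀ t : F, qcC F t = (if t ≠ 0 ∧ IsSquare t then (1 : ℂ) else 0) -
          (if ¬ IsSquare t then 1 else 0) := fun t => by
        by_cases ht : t = 0
        · simp [ht, MulChar.map_zero]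
        · rw [qcC_sq_one t ht]
          by_cases hs : IsSquare t <;> simp [ht, hs]
      rw [hS, hN, gaussSum, Finset.sum_filter, Finset.sum_filter, ← Finset.sum_sub_distrib]
      refine Finset.sum_congr rfl fun t _ => ?_
      rw [e2 t]
      by_cases h1 : t ≠ 0 ∧ IsSquare t <;> by_cases h3 : IsSquare t <;> simp [h1, h3]
    rw [← hg, starRingEnd_apply, star_gaussSum_eq]
    exact gaussSum_mul_gaussSum_eq_card (qcC_ne_one (ringChar_ne_two h2)) hprim
  · rw [hN]
    refine (hplus fun t => ψ₀.mulShift ν t).trans (hsw _ _ fun t => ?_)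
    rw [AddChar.mulShift_apply]
  · rw [hS]
    refine (hminus fun t => ψ₀.mulShift ν t).trans ?_
    refine Finset.sum_equiv (Equiv.mulLeft₀ ν hν0) (fun t => ?_) fun t _ => AddChar.mulShift_apply ..
    simp only [Finset.mem_filter, Finset.mem_univ, true_and, Equiv.mulLeft₀_apply]
    by_cases ht : t = 0
    · simp [ht]
    · simp [mul_square_iff hν h2 ht, ht, hν0]

end CfsgLib.Recog.JankoThompson.PSLTorus
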